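import Mathlib.RingTheory.Spectrum.Prime.Topology
import Mathlib.Topology.Connected.Clopen

set_option autoImplicit false
set_option maxHeartbeats 400000

namespace Groth.Agent.H78

open PrimeSpectrum TopologicalSpace

/-- The prime spectrum of a commutative ring is connected iff the ring is nontrivial and has only
the trivial idempotents. -/
theorem connectedSpace_primeSpectrum_iff (R : Type*) [CommRing R] :
    ConnectedSpace (PrimeSpectrum R) ↔
      Nontrivial R ∧ ∀ e : R, IsIdempotentElem e → e = 0 ∨ e = 1 := by
  rw [connectedSpace_iff_clopen, PrimeSpectrum.nonempty_iff_nontrivial]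
  refine and_congr_right fun _ => ⟨fun h e he => ?_, fun h s hs => ?_⟩
  · let s : Clopens (PrimeSpectrum R) := isIdempotentElemEquivClopens ⟨e, he⟩
    have hs : isIdempotentElemEquivClopens.symm s = ⟨e, he⟩ :=
      isIdempotentElemEquivClopens.symm_apply_apply _
    rcases h s.1 s.2 with h0 | h1
    · have : s = ⊥ := Clopens.ext h0
      rw [this, isIdempotentElemEquivClopens_symm_bot] at hs
      exact Or.inl (congrArg Subtype.val hs).symm
    · have : s = ⊤ := Clopens.ext h1
      rw [this, isIdempotentElemEquivClopens_symm_top] at hs
      exact Or.inr (congrArg Subtype.val hs).symm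
  · let t : Clopens (PrimeSpectrum R) := ⟨s, hs⟩
    have ht : isIdempotentElemEquivClopens (isIdempotentElemEquivClopens.symm t) = t :=
      isIdempotentElemEquivClopens.apply_symm_apply _
    obtain ⟨⟨e, he⟩, hte⟩ : ∃ x, isIdempotentElemEquivClopens.symm t = x := ⟨_, rfl⟩
    rcases h e he with rfl | rfl
    · left
      have h0 : isIdempotentElemEquivClopens.symm t = isIdempotentElemEquivClopens.symm ⊥ := by
        rw [isIdempotentElemEquivClopens_symm_bot]; exact hte
      have := isIdempotentElemEquivClopens.symm.injective h0
      exact congrArg (fun c : Clopens (PrimeSpectrum R) => (c : Set (PrimeSpectrum R))) this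
    · right
      have h0 : isIdempotentElemEquivClopens.symm t = isIdempotentElemEquivClopens.symm ⊤ := by
        rw [isIdempotentElemEquivClopens_symm_top]; exact hte
      have := isIdempotentElemEquivClopens.symm.injective h0
      exact congrArg (fun c : Clopens (PrimeSpectrum R) => (c : Set (PrimeSpectrum R))) this

end Groth.Agent.H78
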