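import Mathlib
import Groth.Prelude.Def_EtRam

set_option autoImplicit false
set_option maxHeartbeats 400000

/-! Extensions of valuation subrings along field extensions, and valuation subrings of finite
separable extensions dominating a DVR are DVRs. -/

namespace Groth.Agent.H78.ValExt

universe u

open IsLocalRing

section Basic

variable {L : Type u} [Field L]

theorem lt_one_iff (V : ValuationSubring L) (x : L) :
    V.valuation x < 1 ↔ x = 0 ∨ x⁻¹ ∉ V := by
  by_cases hx : x = 0
  · subst hx; simp
  · have hpos : 0 < V.valuation x := zero_lt_iff.mpr ((V.valuation).ne_zero_iff.mpr hx)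
    rw [← V.valuation_le_one_iff x⁻¹, map_inv₀, not_le, one_lt_inv₀ hpos]
    simp [hx]

variable {M : Type u} [Field M] [Algebra L M]

theorem exists_ext (V : ValuationSubring L) :
    ∃ W : ValuationSubring M, W.comap (algebraMap L M) = V := by
  obtain ⟨W, h, hloc⟩ := IsLocalRing.exists_factor_valuationRing ((algebraMap L M).comp V.subtype)
  refine ⟨W, ?_⟩
  ext x
  rw [ValuationSubring.mem_comap]
  constructor
  · intro hx
    by_contra hxV
    have hx0 : x ≠ 0 := fun h0 => hxV (h0 ▸ V.zero_mem)
    have hinv : x⁻¹ ∈ V := (V.mem_or_inv_mem x).resolve_left hxV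
    have hu : IsUnit (((algebraMap L M).comp V.subtype).codRestrict W.toSubring h ⟨x⁻¹, hinv⟩) := by
      refine IsUnit.of_mul_eq_one (⟨algebraMap L M x, hx⟩ : W.toSubring) ?_
      apply Subtype.ext
      show algebraMap L M x⁻¹ * algebraMap L M x = 1
      rw [← map_mul, inv_mul_cancel₀ hx0, map_one]
    have hu' : IsUnit (⟨x⁻¹, hinv⟩ : V) := hloc.map_nonunit _ hu
    have h1 : V.valuation x⁻¹ = 1 := (V.valuation_eq_one_iff ⟨x⁻¹, hinv⟩).mp hu'
    rw [map_inv₀, inv_eq_one] at h1
    exact hxV ((V.valuation_le_one_iff x).mp h1.le)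
  · intro hx
    exact h ⟨x, hx⟩

theorem comap_valuation_lt_one_iff (W : ValuationSubring M) (x : L) :
    (W.comap (algebraMap L M)).valuation x < 1 ↔ W.valuation (algebraMap L M x) < 1 := by
  rw [lt_one_iff, lt_one_iff, ValuationSubring.mem_comap, map_inv₀,
    map_eq_zero_iff _ (algebraMap L M).injective]

theorem dominates_comap_iff {A : Type u} [CommRing A] [IsLocalRing A] (g : A →+* L)
    (W : ValuationSubring M) :
    EtRam.Dominates A g (W.comap (algebraMap L M)) ↔
      EtRam.Dominates A ((algebraMap L M).comp g) W := by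
  unfold EtRam.Dominates
  simp only [ValuationSubring.mem_comap, comap_valuation_lt_one_iff, RingHom.comp_apply]

end Basic

section DVR

variable (A K L : Type u) [CommRing A] [IsDomain A] [IsDiscreteValuationRing A] [Field K]
  [Algebra A K] [IsFractionRing A K] [Field L] [Algebra K L] [FiniteDimensional K L]
  [Algebra.IsSeparable K L]

theorem isDVR_of_dominates (V : ValuationSubring L)
    (hV : EtRam.Dominates A ((algebraMap K L).comp (algebraMap A K)) V) :
    IsDiscreteValuationRing V := by
  letI algAL : Algebra A L := ((algebraMap K L).comp (algebraMap A K)).toAlgebra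
  haveI : IsScalarTower A K L := IsScalarTower.of_algebraMap_eq (fun _ => rfl)
  haveI hBded : IsDedekindDomain (integralClosure A L) := integralClosure.isDedekindDomain A K L
  haveI hBfr : IsFractionRing (integralClosure A L) L :=
    integralClosure.isFractionRing_of_finite_extension K L
  have hBV : ∀ b : integralClosure A L, (b : L) ∈ V := by
    intro b
    obtain ⟨p, hp, hpx⟩ := b.2
    have hc : (algebraMap V.toSubring L).comp
        (RingHom.codRestrict (algebraMap A L) V.toSubring hV.1) = algebraMap A L :=
      RingHom.ext (fun a => rfl)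
    have hint : IsIntegral V.toSubring (b : L) := by
      refine ⟨p.map (RingHom.codRestrict (algebraMap A L) V.toSubring hV.1), hp.map _, ?_⟩
      rw [Polynomial.eval₂_map, hc]
      exact hpx
    exact LocalSubring.mem_of_isMax_of_isIntegral V.isMax_toLocalSubring hint
  let ι : integralClosure A L →+* V :=
    RingHom.codRestrict ((integralClosure A L).val : integralClosure A L →+* L) V hBV
  have hιinj : Function.Injective ι := fun b b' h =>
    Subtype.ext (congrArg (fun v : V => (v : L)) h)
  obtain ⟨n, hn⟩ : ∃ n : Ideal (integralClosure A L), n = (maximalIdeal V).comap ι := ⟨_, rfl⟩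
  have hnmem : ∀ b, b ∈ n ↔ ¬ IsUnit (ι b) := by
    intro b; rw [hn, Ideal.mem_comap, mem_maximalIdeal, mem_nonunits_iff]
  haveI : n.IsPrime := by rw [hn]; exact Ideal.comap_isPrime ι _
  obtain ⟨π, hπ⟩ := IsDiscreteValuationRing.exists_irreducible A
  have hπm : π ∈ maximalIdeal A := by
    rw [hπ.maximalIdeal_eq]; exact Ideal.mem_span_singleton_self π
  have hinjAL : Function.Injective (algebraMap A L) :=
    (algebraMap K L).injective.comp (IsFractionRing.injective A K)
  have hn0 : n ≠ ⊥ := by
    intro h0
    have h1 : algebraMap A (integralClosure A L) π ∈ n := by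
      rw [hn, Ideal.mem_comap, ValuationSubring.valuation_lt_one_iff]
      exact hV.2 π hπm
    rw [h0, Ideal.mem_bot] at h1
    have h2 : algebraMap A L π = 0 := congrArg (fun b : integralClosure A L => (b : L)) h1
    exact hπ.ne_zero (hinjAL (by rw [h2, map_zero]))
  haveI : IsDomain (Localization.AtPrime n) :=
    IsLocalization.isDomain_localization n.primeCompl_le_nonZeroDivisors
  haveI hO : IsDiscreteValuationRing (Localization.AtPrime n) :=
    IsLocalization.AtPrime.isDiscreteValuationRing_of_dedekind_domain (integralClosure A L) hn0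
      (Localization.AtPrime n)
  have hunits : ∀ y : n.primeCompl, IsUnit (ι y) := by
    intro y
    by_contra hy
    exact y.2 ((hnmem _).mpr hy)
  let ρ : Localization.AtPrime n →+* V := IsLocalization.lift (M := n.primeCompl) (g := ι) hunits
  have hρ : ∀ b, ρ (algebraMap _ _ b) = ι b := fun b => IsLocalization.lift_eq _ b
  have hρinj : Function.Injective ρ := by
    rw [IsLocalization.lift_injective_iff]
    intro x y
    constructor
    · intro h
      rw [(IsLocalization.injective (Localization.AtPrime n) n.primeCompl_le_nonZeroDivisors) h]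
    · intro h; rw [hιinj h]
  have hρloc : ∀ y, IsUnit (ρ y) → IsUnit y := by
    intro y hy
    obtain ⟨⟨b, s⟩, rfl⟩ := IsLocalization.mk'_surjective n.primeCompl y
    have h1 : ρ (IsLocalization.mk' _ b s) * ι s = ι b := by
      rw [← hρ (s : integralClosure A L), ← map_mul, IsLocalization.mk'_spec, hρ]
    have hb : IsUnit (ι b) := by rw [← h1]; exact hy.mul (hunits s)
    have hbn : b ∈ n.primeCompl := fun hbn => (hnmem b).mp hbn hb
    exact (IsLocalization.AtPrime.isUnit_mk'_iff (Localization.AtPrime n) n b s).mpr hbn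
  letI algOL : Algebra (Localization.AtPrime n) L := (V.subtype.comp ρ).toAlgebra
  haveI : IsScalarTower (integralClosure A L) (Localization.AtPrime n) L :=
    IsScalarTower.of_algebraMap_eq (fun b => by
      show (b : L) = V.subtype (ρ (algebraMap _ _ b))
      rw [hρ]; rfl)
  haveI : IsFractionRing (Localization.AtPrime n) L :=
    IsFractionRing.isFractionRing_of_isDomain_of_isLocalization n.primeCompl
      (Localization.AtPrime n) L
  have hρsurj : Function.Surjective ρ := by
    intro x
    rcases ValuationRing.isInteger_or_isInteger (Localization.AtPrime n) (x : L) with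
      ⟨y, hy⟩ | ⟨y, hy⟩
    · exact ⟨y, Subtype.ext hy⟩
    · have hy' : ((ρ y : V) : L) = (x : L)⁻¹ := hy
      by_cases hx0 : x = 0
      · exact ⟨0, by rw [map_zero, hx0]⟩
      · have hxL : (x : L) ≠ 0 := fun h => hx0 (Subtype.ext h)
        by_cases hyu : IsUnit y
        · obtain ⟨u, rfl⟩ := hyu
          refine ⟨↑u⁻¹, Subtype.ext ?_⟩
          have h2 : ((ρ ↑u⁻¹ : V) : L) * ((ρ ↑u : V) : L) = 1 := by
            have h3 : ρ ↑u⁻¹ * ρ ↑u = 1 := by rw [← map_mul, Units.inv_mul, map_one]
            exact congrArg Subtype.val h3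
          rw [eq_inv_of_mul_eq_one_left h2, hy', inv_inv]
        · exfalso
          have hny : ¬ IsUnit (ρ y) := fun h => hyu (hρloc y h)
          apply hny
          refine IsUnit.of_mul_eq_one x (Subtype.ext ?_)
          show ((ρ y : V) : L) * (x : L) = 1
          rw [hy', inv_mul_cancel₀ hxL]
  let e : Localization.AtPrime n ≃+* V := RingEquiv.ofBijective ρ ⟨hρinj, hρsurj⟩
  exact IsDiscreteValuationRing.RingEquivClass.isDiscreteValuationRing e

end DVR

section Ram

theorem ram_eq {R S : Type u} [CommRing R] [IsLocalRing R] [CommRing S] [IsDomain S]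
    [IsLocalRing S] [Algebra R S]
    (π : R) (hπ : maximalIdeal R = Ideal.span {π}) (t : S) (ht : maximalIdeal S = Ideal.span {t})
    (ht0 : t ≠ 0) (u : Sˣ) (e : ℕ) (h : algebraMap R S π = u * t ^ e) :
    Ideal.ramificationIdx' (maximalIdeal R) (maximalIdeal S) = e := by
  have hmap : (maximalIdeal R).map (algebraMap R S) = (maximalIdeal S) ^ e := by
    rw [hπ, Ideal.map_span, Set.image_singleton, h, ht, Ideal.span_singleton_pow,
      Ideal.span_singleton_mul_left_unit u.isUnit]
  apply Ideal.ramificationIdx'_spec
  · rw [hmap]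
  · rw [hmap, ht, Ideal.span_singleton_pow, Ideal.span_singleton_pow,
      Ideal.span_singleton_le_span_singleton]
    rintro ⟨c, hc⟩
    have htn : ¬ IsUnit t := by
      have : t ∈ maximalIdeal S := by rw [ht]; exact Ideal.mem_span_singleton_self t
      exact (mem_maximalIdeal _).mp this
    apply htn
    have h2 : t ^ e * 1 = t ^ e * (t * c) := by
      rw [mul_one, ← mul_assoc, ← pow_succ]; exact hc
    have h3 := mul_left_cancel₀ (pow_ne_zero e ht0) h2
    exact IsUnit.of_mul_eq_one c h3.symm

variable {A V W : Type u} [CommRing A] [IsLocalRing A] [CommRing V] [IsDomain V]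
  [IsDiscreteValuationRing V] [CommRing W] [IsDomain W] [IsDiscreteValuationRing W]
  [Algebra A V] [Algebra V W] [Algebra A W] [IsScalarTower A V W]

theorem ram_mul (π : A) (hπ : maximalIdeal A = Ideal.span {π}) (hπV : algebraMap A V π ≠ 0)
    (hinj : Function.Injective (algebraMap V W)) :
    Ideal.ramificationIdx' (maximalIdeal A) (maximalIdeal W) =
      Ideal.ramificationIdx' (maximalIdeal A) (maximalIdeal V) *
        Ideal.ramificationIdx' (maximalIdeal V) (maximalIdeal W) := by
  obtain ⟨tV, htV⟩ := IsDiscreteValuationRing.exists_irreducible V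
  obtain ⟨tW, htW⟩ := IsDiscreteValuationRing.exists_irreducible W
  obtain ⟨a, u, hu⟩ := IsDiscreteValuationRing.associated_pow_irreducible hπV htV
  have htVW : algebraMap V W tV ≠ 0 := fun h => htV.ne_zero (hinj (by rw [h, map_zero]))
  obtain ⟨b, u', hu'⟩ := IsDiscreteValuationRing.associated_pow_irreducible htVW htW
  have h1 : algebraMap A V π = ↑u⁻¹ * tV ^ a := by
    rw [← hu, mul_comm (algebraMap A V π), ← mul_assoc, Units.inv_mul, one_mul]
  have h2 : algebraMap V W tV = ↑u'⁻¹ * tW ^ b := by
    rw [← hu', mul_comm (algebraMap V W tV), ← mul_assoc, Units.inv_mul, one_mul]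
  have h3 : algebraMap A W π =
      ↑((Units.map (algebraMap V W).toMonoidHom u⁻¹) * u'⁻¹ ^ a) * tW ^ (a * b) := by
    rw [IsScalarTower.algebraMap_apply A V W, h1, map_mul, map_pow, h2, mul_pow, ← pow_mul]
    simp only [Units.val_mul, Units.coe_map, Units.val_pow_eq_pow_val, RingHom.toMonoidHom_eq_coe,
      MonoidHom.coe_coe]
    ring
  rw [ram_eq π hπ tV htV.maximalIdeal_eq htV.ne_zero u⁻¹ a h1,
    ram_eq tV htV.maximalIdeal_eq tW htW.maximalIdeal_eq htW.ne_zero u'⁻¹ b h2,
    ram_eq π hπ tW htW.maximalIdeal_eq htW.ne_zero _ (a * b) h3]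

end Ram

end Groth.Agent.H78.ValExt
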