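import Mathlib
import Groth.Prelude.Def_Omega3

/-!
# Gluing lifts along a basis of opens
-/

set_option autoImplicit false
universe u

namespace Groth.Agent.H78.UT1

open AlgebraicGeometry CategoryTheory CategoryTheory.Limits TopologicalSpace

/-- The open cover of `X` given by a basis of opens. -/
noncomputable def basisCover (X : Scheme.{u}) (ℬ : Set X.Opens) (hℬ : Opens.IsBasis ℬ) :
    X.OpenCover where
  I₀ := ℬ
  X U := U.1
  f U := U.1.ι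
  mem₀ := by
    rw [Scheme.presieve₀_mem_precoverage_iff]
    refine ⟨fun x ↦ ?_, inferInstance⟩
    obtain ⟨W, hW, hxW, -⟩ := Opens.isBasis_iff_nbhd.mp hℬ (Opens.mem_top x)
    exact ⟨⟨W, hW⟩, by simpa using hxW⟩

variable {X : Scheme.{u}} (ℬ : Set X.Opens) (hℬ : Opens.IsBasis ℬ)

noncomputable instance : Preorder (basisCover X ℬ hℬ).I₀ := inferInstanceAs <| Preorder ℬ

set_option backward.isDefEq.respectTransparency.types false in
set_option backward.defeqAttrib.useBackward true in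
noncomputable instance : Scheme.Cover.LocallyDirected (basisCover X ℬ hℬ) :=
  .ofIsBasisOpensRange (by intros; simp [basisCover]; rfl) <| by
    convert! hℬ
    ext U
    simp [basisCover]

set_option backward.isDefEq.respectTransparency.types false in
lemma basisCover_trans {U V : ℬ} (hUV : U ≤ V) :
    Scheme.Cover.trans (basisCover X ℬ hℬ) (homOfLE hUV) = X.homOfLE hUV := rfl


@[reassoc]
lemma morphismRestrict_homOfLE {T T' : Scheme.{u}} (j : T ⟶ T') {W₁ W₂ : T'.Opens}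
    (hW : W₁ ≤ W₂) :
    (j ∣_ W₁) ≫ T'.homOfLE hW =
      T.homOfLE (show j ⁻¹ᵁ W₁ ≤ j ⁻¹ᵁ W₂ from fun _ hx => hW hx) ≫ (j ∣_ W₂) := by
  rw [← cancel_mono W₂.ι]
  simp

/-- Lifts defined (uniquely) on a basis of opens glue to a unique global lift. -/
theorem existsUnique_of_basis {Z Z' X T T' : Scheme.{u}} (i : Z ⟶ Z') (h' : Z' ⟶ X)
    (j : T ⟶ T') (b : T' ⟶ X) (a : T ⟶ Z)
    (ℬ : Set T'.Opens) (hℬ : Opens.IsBasis ℬ)
    (H : ∀ W ∈ ℬ, ∃! a' : W.toScheme ⟶ Z',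
      (j ∣_ W) ≫ a' = (j ⁻¹ᵁ W).ι ≫ a ≫ i ∧ a' ≫ h' = W.ι ≫ b) :
    ∃! a' : T' ⟶ Z', j ≫ a' = a ≫ i ∧ a' ≫ h' = b := by
  choose g hg0 hguniq0 using H
  have hg : ∀ (W : T'.Opens) (hW : W ∈ ℬ),
      (j ∣_ W) ≫ g W hW = (j ⁻¹ᵁ W).ι ≫ a ≫ i ∧ g W hW ≫ h' = W.ι ≫ b := hg0
  have hguniq : ∀ (W : T'.Opens) (hW : W ∈ ℬ) (y : W.toScheme ⟶ Z'),
      ((j ∣_ W) ≫ y = (j ⁻¹ᵁ W).ι ≫ a ≫ i ∧ y ≫ h' = W.ι ≫ b) → y = g W hW := hguniq0
  have compat' : ∀ (W₁ W₂ : ℬ) (hle : W₁.1 ≤ W₂.1),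
      T'.homOfLE hle ≫ g W₂.1 W₂.2 = g W₁.1 W₁.2 := by
    intro W₁ W₂ hle
    apply hguniq W₁.1 W₁.2
    refine ⟨?_, ?_⟩
    · rw [morphismRestrict_homOfLE_assoc, (hg W₂.1 W₂.2).1, Scheme.homOfLE_ι_assoc]
    · rw [Category.assoc, (hg W₂.1 W₂.2).2, Scheme.homOfLE_ι_assoc]
  have compat : ∀ {W₁ W₂ : (basisCover T' ℬ hℬ).I₀} (hij : W₁ ⟶ W₂),
      (basisCover T' ℬ hℬ).trans hij ≫ g W₂.1 W₂.2 = g W₁.1 W₁.2 := by
    intro W₁ W₂ hij
    exact compat' W₁ W₂ (leOfHom hij)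
  have hglue : ∀ W : (basisCover T' ℬ hℬ).I₀,
      W.1.ι ≫ (basisCover T' ℬ hℬ).glueMorphismsOfLocallyDirected
        (fun W => g W.1 W.2) compat = g W.1 W.2 := fun W =>
    (basisCover T' ℬ hℬ).map_glueMorphismsOfLocallyDirected (fun W => g W.1 W.2) compat W
  refine ⟨(basisCover T' ℬ hℬ).glueMorphismsOfLocallyDirected (fun W => g W.1 W.2) compat,
    ⟨?_, ?_⟩, ?_⟩
  · apply Scheme.hom_ext_of_forall
    intro t
    obtain ⟨W, hW, htW, -⟩ := Opens.isBasis_iff_nbhd.mp hℬ (Opens.mem_top (j t))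
    refine ⟨j ⁻¹ᵁ W, htW, ?_⟩
    rw [← morphismRestrict_ι_assoc, hglue ⟨W, hW⟩, (hg W hW).1]
  · apply (basisCover T' ℬ hℬ).hom_ext
    intro W
    change W.1.ι ≫ _ ≫ h' = W.1.ι ≫ b
    rw [← Category.assoc, hglue W, (hg W.1 W.2).2]
  · rintro a'' ⟨h1, h2⟩
    apply (basisCover T' ℬ hℬ).hom_ext
    intro W
    change W.1.ι ≫ a'' = W.1.ι ≫ _
    rw [hglue W]
    apply hguniq W.1 W.2
    refine ⟨?_, ?_⟩
    · rw [morphismRestrict_ι_assoc, h1]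
    · rw [Category.assoc, h2]

end Groth.Agent.H78.UT1
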