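import Mathlib
import Groth.Prelude.Def_Omega3
import Groth.Agent.H93.NilPull

/-!
# First order thickenings: base change
-/

set_option autoImplicit false
universe u

namespace Groth.Agent.H78.UnivThick

open AlgebraicGeometry CategoryTheory CategoryTheory.Limits

/-- The base change of a first order thickening is a first order thickening. -/
theorem firstOrder_of_isPullback {P X' Z S' : Scheme.{u}} {a : P ⟶ X'} {b : P ⟶ Z}
    {c : X' ⟶ S'} {d : Z ⟶ S'} (hP : IsPullback a b c d)
    (hd : MoreMor.IsFirstOrderThickening d) : MoreMor.IsFirstOrderThickening a := by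
  obtain ⟨⟨hd1, hd2⟩, hd3⟩ := hd
  haveI := hd1
  haveI := hd2
  refine ⟨⟨?_, ?_⟩, ?_⟩
  · exact MorphismProperty.of_isPullback (P := @IsClosedImmersion) hP.flip inferInstance
  · exact MorphismProperty.of_isPullback (P := @Surjective) hP.flip inferInstance
  · rw [Groth.Agent.H93.NilPull.ker_eq_comap_of_isPullback hP,
      ← Groth.Agent.H93.IdealComap.comap_mul, hd3]
    exact Scheme.IdealSheafData.comap_bot _

theorem isPullback_of_mono {C : Type*} [Category C] {A B D : C} (j : A ⟶ B) (ι : B ⟶ D) [Mono ι] :
    IsPullback j (𝟙 A) ι (j ≫ ι) :=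
  ⟨⟨by simp⟩, ⟨PullbackCone.IsLimit.mk _ (fun s => s.snd)
    (fun s => by
      rw [← cancel_mono ι, Category.assoc]
      exact s.condition.symm)
    (fun s => Category.comp_id _)
    (fun s m _ h2 => by rw [← h2, Category.comp_id])⟩⟩

/-- If `j ≫ ι` is a first order thickening and `ι` is a monomorphism, then `j` is a first order
thickening. -/
theorem firstOrder_of_comp_mono {A B D : Scheme.{u}} (j : A ⟶ B) (ι : B ⟶ D) [Mono ι]
    (h : MoreMor.IsFirstOrderThickening (j ≫ ι)) : MoreMor.IsFirstOrderThickening j :=
  firstOrder_of_isPullback (isPullback_of_mono j ι) h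

end Groth.Agent.H78.UnivThick
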