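import Mathlib
import Groth.Prelude.Def_Omega3
import Groth.Agent.H78.UnivThick
import Groth.Agent.H93.IdealComap

/-!
# Formal properties of universal first order thickenings
-/

set_option autoImplicit false
set_option maxHeartbeats 400000
universe u

namespace Groth.Agent.H78.UT2

open AlgebraicGeometry CategoryTheory CategoryTheory.Limits TopologicalSpace

/-- A closed immersion whose kernel has square zero is a first order thickening. -/
theorem firstOrder_of_closedImmersion {T T' : Scheme.{u}} (j : T ⟶ T') [IsClosedImmersion j]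
    (hj : j.ker * j.ker = ⊥) : MoreMor.IsFirstOrderThickening j := by
  refine ⟨⟨inferInstance, ⟨?_⟩⟩, hj⟩
  have hsupp : j.ker.support = ⊤ := by
    have := congrArg Scheme.IdealSheafData.support hj
    simpa using this
  have h1 : closure (Set.range j) = Set.univ := by
    have := j.support_ker
    rw [hsupp] at this
    exact this.symm
  rw [j.isClosedEmbedding.isClosed_range.closure_eq] at h1
  exact Set.range_eq_univ.mp h1

/-- The kernel of `Spec.map φ` has square zero if the kernel of `φ` has. -/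
theorem ker_specMap_sq {R S : CommRingCat.{u}} (φ : R ⟶ S)
    (hker : RingHom.ker φ.hom ^ 2 = ⊥) : (Spec.map φ).ker * (Spec.map φ).ker = ⊥ := by
  apply Scheme.IdealSheafData.ext_of_isAffine
  rw [Scheme.IdealSheafData.ideal_mul, Pi.mul_apply,
    Groth.Agent.H93.IdealComap.ideal_top_ker, Scheme.IdealSheafData.ideal_bot, Pi.bot_apply,
    eq_bot_iff]
  refine Ideal.mul_le.mpr fun x hx y hy => ?_
  have nat : ∀ z, (Scheme.ΓSpecIso S).hom ((Spec.map φ).appTop z) =
      φ ((Scheme.ΓSpecIso R).hom z) := by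
    intro z
    have := Scheme.ΓSpecIso_naturality φ
    exact congrArg (fun f => f.hom z) this
  have hmem : ∀ z, z ∈ RingHom.ker (Spec.map φ).appTop.hom →
      (Scheme.ΓSpecIso R).hom z ∈ RingHom.ker φ.hom := by
    intro z hz
    rw [RingHom.mem_ker] at hz ⊢
    have := nat z
    rw [show (Spec.map φ).appTop z = 0 from hz, map_zero] at this
    exact this.symm
  have hxy : (Scheme.ΓSpecIso R).hom (x * y) = 0 := by
    rw [map_mul]
    have : (Scheme.ΓSpecIso R).hom x * (Scheme.ΓSpecIso R).hom y ∈ RingHom.ker φ.hom ^ 2 := by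
      rw [pow_two]; exact Ideal.mul_mem_mul (hmem x hx) (hmem y hy)
    rw [hker] at this
    exact this
  have inj : Function.Injective (Scheme.ΓSpecIso R).hom :=
    (ConcreteCategory.bijective_of_isIso (Scheme.ΓSpecIso R).hom).1
  exact Ideal.mem_bot.mpr (inj (hxy.trans (map_zero _).symm))

variable {Z Z' X : Scheme.{u}} {h : Z ⟶ X} {i : Z ⟶ Z'} {h' : Z' ⟶ X}

/-- Post-composing with an open immersion. -/
theorem postcomp_openImmersion (hu : OmegaSh.IsUnivThickening h i h') {X₁ : Scheme.{u}}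
    (u : X ⟶ X₁) [IsOpenImmersion u] : OmegaSh.IsUnivThickening (h ≫ u) i (h' ≫ u) := by
  obtain ⟨hi, hic, huniv⟩ := hu
  refine ⟨hi, by rw [← Category.assoc, hic], ?_⟩
  intro T T' j b a hj hjb
  have hjsurj : Function.Surjective j := hj.1.2.surj
  have hrange : Set.range b ⊆ Set.range u := by
    rintro _ ⟨x, rfl⟩
    obtain ⟨y, rfl⟩ := hjsurj x
    have : b (j y) = u (h (a y)) := by
      have := congrArg (fun f : T ⟶ X₁ => f y) hjb
      simpa using this
    rw [this]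
    exact ⟨_, rfl⟩
  have hb₀ : IsOpenImmersion.lift u b hrange ≫ u = b := IsOpenImmersion.lift_fac _ _ _
  have hjb₀ : j ≫ IsOpenImmersion.lift u b hrange = a ≫ h := by
    rw [← cancel_mono u, Category.assoc, hb₀, hjb, Category.assoc]
  obtain ⟨a', ⟨ha1, ha2⟩, hauniq⟩ := huniv T T' j _ a hj hjb₀
  refine ⟨a', ⟨ha1, by rw [← Category.assoc, ha2, hb₀]⟩, ?_⟩
  rintro a'' ⟨h1, h2⟩
  apply hauniq
  refine ⟨h1, ?_⟩
  rw [← cancel_mono u, Category.assoc, h2, hb₀]

/-- Restricting along open immersions. -/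
theorem restrict_openImmersion (hu : OmegaSh.IsUnivThickening h i h') {V V' : Scheme.{u}}
    (u : V ⟶ Z) (u' : V' ⟶ Z') [IsOpenImmersion u'] (iV : V ⟶ V')
    (hsq : IsPullback iV u u' i) : OmegaSh.IsUnivThickening (u ≫ h) iV (u' ≫ h') := by
  obtain ⟨hi, hic, huniv⟩ := hu
  refine ⟨Groth.Agent.H78.UnivThick.firstOrder_of_isPullback hsq hi,
    by rw [← Category.assoc, hsq.w, Category.assoc, hic], ?_⟩
  intro T T' j b a hj hjb
  have hjsurj : Function.Surjective j := hj.1.2.surj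
  have hjb' : j ≫ b = (a ≫ u) ≫ h := by rw [hjb, Category.assoc]
  obtain ⟨a₀, ⟨ha1, ha2⟩, hauniq⟩ := huniv T T' j b (a ≫ u) hj hjb'
  have hrange : Set.range a₀ ⊆ Set.range u' := by
    rintro _ ⟨x, rfl⟩
    obtain ⟨y, rfl⟩ := hjsurj x
    have : a₀ (j y) = u' (iV (a y)) := by
      have := congrArg (fun f : T ⟶ Z' => f y) ha1
      rw [Category.assoc, ← hsq.w] at this
      simpa using this
    rw [this]
    exact ⟨_, rfl⟩
  refine ⟨IsOpenImmersion.lift u' a₀ hrange, ⟨?_, ?_⟩, ?_⟩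
  · rw [← cancel_mono u', Category.assoc, IsOpenImmersion.lift_fac, ha1, Category.assoc,
      Category.assoc, hsq.w]
  · rw [IsOpenImmersion.lift_fac_assoc, ha2]
  · rintro a'' ⟨h1, h2⟩
    rw [← cancel_mono u', IsOpenImmersion.lift_fac]
    apply hauniq
    refine ⟨?_, ?_⟩
    · rw [← Category.assoc, h1, Category.assoc, Category.assoc, hsq.w]
    · rw [Category.assoc, h2]

/-- Two universal first order thickenings of the same morphism are uniquely isomorphic. -/
theorem exists_iso {Z'₂ : Scheme.{u}} {i₂ : Z ⟶ Z'₂} {h'₂ : Z'₂ ⟶ X}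
    (hu : OmegaSh.IsUnivThickening h i h') (hu₂ : OmegaSh.IsUnivThickening h i₂ h'₂) :
    ∃ e : Z' ≅ Z'₂, i ≫ e.hom = i₂ ∧ e.hom ≫ h'₂ = h' := by
  obtain ⟨ψ, ⟨hψ1, hψ2⟩, -⟩ := hu₂.2.2 Z Z' i h' (𝟙 Z) hu.1 (by rw [hu.2.1, Category.id_comp])
  obtain ⟨χ, ⟨hχ1, hχ2⟩, -⟩ := hu.2.2 Z Z'₂ i₂ h'₂ (𝟙 Z) hu₂.1
    (by rw [hu₂.2.1, Category.id_comp])
  rw [Category.id_comp] at hψ1 hχ1
  have e1 : ψ ≫ χ = 𝟙 Z' := by
    obtain ⟨x, -, hx⟩ := hu.2.2 Z Z' i h' (𝟙 Z) hu.1 (by rw [hu.2.1, Category.id_comp])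
    rw [hx (ψ ≫ χ) ⟨by rw [← Category.assoc, hψ1, hχ1, Category.id_comp],
      by rw [Category.assoc, hχ2, hψ2]⟩,
      hx (𝟙 Z') ⟨by rw [Category.comp_id, Category.id_comp], Category.id_comp _⟩]
  have e2 : χ ≫ ψ = 𝟙 Z'₂ := by
    obtain ⟨x, -, hx⟩ := hu₂.2.2 Z Z'₂ i₂ h'₂ (𝟙 Z) hu₂.1 (by rw [hu₂.2.1, Category.id_comp])
    rw [hx (χ ≫ ψ) ⟨by rw [← Category.assoc, hχ1, hψ1, Category.id_comp],
      by rw [Category.assoc, hψ2, hχ2]⟩,
      hx (𝟙 Z'₂) ⟨by rw [Category.comp_id, Category.id_comp], Category.id_comp _⟩]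
  exact ⟨⟨ψ, χ, e1, e2⟩, hψ1, hψ2⟩

end Groth.Agent.H78.UT2
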