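import Mathlib
import Groth.Prelude.Def_Omega3
import Groth.Agent.H78.UT1
import Groth.Agent.H78.UT2
import Groth.Agent.S9426

/-!
# Universal first order thickenings: the affine case
-/

set_option autoImplicit false
set_option maxHeartbeats 400000
universe u

namespace Groth.Agent.H78.UT3

open AlgebraicGeometry CategoryTheory CategoryTheory.Limits TopologicalSpace

section ring

variable {R S S' : Type u} [CommRing R] [CommRing S] [CommRing S'] [Algebra R S] [Algebra R S']
  (π : S' →ₐ[R] S) (hπ : OmegaSh.IsUnivThickeningRing R S S' π)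

include hπ in
/-- Unique lifting against literal affine test pairs. -/
theorem lift_spec {A B : CommRingCat.{u}} (ρ : A ⟶ B) (hρ : Function.Surjective ρ)
    (hker : RingHom.ker ρ.hom ^ 2 = ⊥)
    (b : Spec A ⟶ Spec (CommRingCat.of R)) (a : Spec B ⟶ Spec (CommRingCat.of S))
    (hab : Spec.map ρ ≫ b = a ≫ Spec.map (CommRingCat.ofHom (algebraMap R S))) :
    ∃! a' : Spec A ⟶ Spec (CommRingCat.of S'),
      Spec.map ρ ≫ a' = a ≫ Spec.map (CommRingCat.ofHom π.toRingHom) ∧
      a' ≫ Spec.map (CommRingCat.ofHom (algebraMap R S')) = b := by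
  obtain ⟨β, rfl⟩ := Spec.map_surjective b
  obtain ⟨α, rfl⟩ := Spec.map_surjective a
  rw [← Spec.map_comp, ← Spec.map_comp, Spec.map_inj] at hab
  have hab' : ∀ r : R, ρ (β r) = α (algebraMap R S r) := fun r =>
    congrArg (fun f => f.hom r) hab
  letI : Algebra R A := β.hom.toAlgebra
  have halg : ∀ r : R, algebraMap R A r = β r := fun r => rfl
  let ρ' : (A ⧸ RingHom.ker ρ.hom) ≃+* B := RingHom.quotientKerEquivOfSurjective hρ
  have hρ' : ∀ x : A, ρ' (Ideal.Quotient.mk _ x) = ρ x := fun x =>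
    RingHom.quotientKerEquivOfSurjective_apply_mk hρ x
  have hρ's : ∀ x : A, ρ'.symm (ρ x) = Ideal.Quotient.mk _ x := fun x =>
    RingHom.quotientKerEquivOfSurjective_symm_apply hρ x
  let aR : S →ₐ[R] A ⧸ RingHom.ker ρ.hom :=
    { toRingHom := ρ'.symm.toRingHom.comp α.hom
      commutes' := by
        intro r
        show ρ'.symm (α (algebraMap R S r)) = _
        rw [← hab', hρ's]
        rfl }
  have haR : ∀ s : S, aR s = ρ'.symm (α s) := fun s => rfl
  obtain ⟨α', hα', huniq⟩ := hπ.2.2 A (RingHom.ker ρ.hom) hker aR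
  have hα'' : ∀ s' : S', ρ (α' s') = α (π s') := by
    intro s'
    have := congrArg (fun f => f s') hα'
    simp only [AlgHom.comp_apply, Ideal.Quotient.mkₐ_eq_mk] at this
    rw [haR] at this
    rw [← hρ', this, RingEquiv.apply_symm_apply]
  refine ⟨Spec.map (CommRingCat.ofHom α'.toRingHom), ⟨?_, ?_⟩, ?_⟩
  · rw [← Spec.map_comp, ← Spec.map_comp]
    congr 1
    ext s'
    exact hα'' s'
  · rw [← Spec.map_comp]
    congr 1
    ext r
    exact (α'.commutes r).trans (halg r)
  · rintro a'' ⟨h1, h2⟩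
    obtain ⟨γ, rfl⟩ := Spec.map_surjective a''
    rw [← Spec.map_comp, ← Spec.map_comp, Spec.map_inj] at h1
    rw [← Spec.map_comp, Spec.map_inj] at h2
    have h1' : ∀ s' : S', ρ (γ s') = α (π s') := fun s' =>
      congrArg (fun f => f.hom s') h1
    have h2' : ∀ r : R, γ (algebraMap R S' r) = β r := fun r =>
      congrArg (fun f => f.hom r) h2
    let γR : S' →ₐ[R] A :=
      { toRingHom := γ.hom
        commutes' := fun r => (h2' r).trans (halg r).symm }
    have : γR = α' := by
      apply huniq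
      ext s'
      simp only [AlgHom.comp_apply, Ideal.Quotient.mkₐ_eq_mk]
      rw [haR, ← h1', hρ's]
      rfl
    congr 1
    ext s'
    exact congrArg (fun f => f s') this

include hπ in
/-- Unique lifting against affine test pairs. -/
theorem lift_affine {T T' : Scheme.{u}} [IsAffine T'] (j : T ⟶ T')
    (hj : MoreMor.IsFirstOrderThickening j)
    (b : T' ⟶ Spec (CommRingCat.of R)) (a : T ⟶ Spec (CommRingCat.of S))
    (hab : j ≫ b = a ≫ Spec.map (CommRingCat.ofHom (algebraMap R S))) :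
    ∃! a' : T' ⟶ Spec (CommRingCat.of S'),
      j ≫ a' = a ≫ Spec.map (CommRingCat.ofHom π.toRingHom) ∧
      a' ≫ Spec.map (CommRingCat.ofHom (algebraMap R S')) = b := by
  haveI : IsClosedImmersion j := hj.1.1
  haveI : IsAffine T := isAffine_of_isAffineHom j
  have hρ : Function.Surjective j.appTop :=
    (IsClosedImmersion.isAffine_surjective_of_isAffine (f := j)).2
  have hker : RingHom.ker j.appTop.hom ^ 2 = ⊥ := by
    have := congrArg (fun K => K.ideal ⟨⊤, isAffineOpen_top T'⟩) hj.2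
    simp only [Scheme.IdealSheafData.ideal_mul, Pi.mul_apply,
      Groth.Agent.H93.IdealComap.ideal_top_ker, Scheme.IdealSheafData.ideal_bot,
      Pi.bot_apply] at this
    rw [pow_two]
    exact this
  have hab₁ : Spec.map j.appTop ≫ (T'.isoSpec.inv ≫ b) =
      (T.isoSpec.inv ≫ a) ≫ Spec.map (CommRingCat.ofHom (algebraMap R S)) := by
    rw [Scheme.isoSpec_inv_naturality_assoc, hab, Category.assoc]
  obtain ⟨a₁, ⟨h1, h2⟩, huniq⟩ := lift_spec π hπ j.appTop hρ hker _ _ hab₁
  refine ⟨T'.isoSpec.hom ≫ a₁, ⟨?_, ?_⟩, ?_⟩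
  · rw [← Scheme.isoSpec_hom_naturality_assoc, h1, Category.assoc, Iso.hom_inv_id_assoc]
  · rw [Category.assoc, h2, Iso.hom_inv_id_assoc]
  · rintro a'' ⟨e1, e2⟩
    rw [← Iso.inv_comp_eq]
    apply huniq
    refine ⟨?_, ?_⟩
    · rw [Scheme.isoSpec_inv_naturality_assoc, e1, Category.assoc]
    · rw [Category.assoc, e2]

end ring

/-- The affine case: existence of a universal first order thickening. -/
theorem exists_univ_spec (R S : Type u) [CommRing R] [CommRing S] [Algebra R S]
    [Algebra.FormallyUnramified R S] :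
    ∃ (Z' : Scheme.{u}) (i : Spec (CommRingCat.of S) ⟶ Z') (h' : Z' ⟶ Spec (CommRingCat.of R)),
      OmegaSh.IsUnivThickening (Spec.map (CommRingCat.ofHom (algebraMap R S))) i h' := by
  obtain ⟨S', _, _, π, hπ⟩ := Groth.Agent.S9426.result R S
  refine ⟨Spec (CommRingCat.of S'), Spec.map (CommRingCat.ofHom π.toRingHom),
    Spec.map (CommRingCat.ofHom (algebraMap R S')), ?_, ?_, ?_⟩
  · haveI : IsClosedImmersion (Spec.map (CommRingCat.ofHom π.toRingHom)) :=
      IsClosedImmersion.spec_of_surjective _ hπ.1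
    apply Groth.Agent.H78.UT2.firstOrder_of_closedImmersion
    apply Groth.Agent.H78.UT2.ker_specMap_sq
    exact hπ.2.1
  · rw [← Spec.map_comp]
    congr 1
    ext r
    exact π.commutes r
  · intro T T' j b a hj hjb
    apply Groth.Agent.H78.UT1.existsUnique_of_basis _ _ j b a T'.affineOpens
      T'.isBasis_affineOpens
    intro W hW
    haveI : IsAffine W := hW
    have := lift_affine π hπ (j ∣_ W)
      (Groth.Agent.H78.UnivThick.firstOrder_of_isPullback (isPullback_morphismRestrict j W) hj)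
      (W.ι ≫ b) ((j ⁻¹ᵁ W).ι ≫ a) (by rw [morphismRestrict_ι_assoc, hjb, Category.assoc])
    simpa only [Category.assoc] using this


/-- Existence of a universal first order thickening for an affine open of the source mapping
into an affine open of the target. -/
theorem exists_univ_affineOpen {Z X : Scheme.{u}} (h : Z ⟶ X) [FormallyUnramified h]
    (V : Z.Opens) (hV : IsAffineOpen V) (U : X.Opens) (hU : IsAffineOpen U) (e : V ≤ h ⁻¹ᵁ U) :
    ∃ (Z' : Scheme.{u}) (i : V.toScheme ⟶ Z') (h' : Z' ⟶ X),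
      OmegaSh.IsUnivThickening (V.ι ≫ h) i h' := by
  letI : Algebra Γ(X, U) Γ(Z, V) := (h.appLE U V e).hom.toAlgebra
  haveI : Algebra.FormallyUnramified Γ(X, U) Γ(Z, V) := h.formallyUnramified_appLE hU hV e
  obtain ⟨Z'₀, i₀, h'₀, hu₀⟩ := exists_univ_spec Γ(X, U) Γ(Z, V)
  have hu₁ := Groth.Agent.H78.UT2.postcomp_openImmersion hu₀ hU.fromSpec
  have hsq : IsPullback (hV.isoSpec.hom ≫ i₀) hV.isoSpec.hom (𝟙 Z'₀) i₀ :=
    IsPullback.of_vert_isIso ⟨by simp⟩
  have hu₂ := Groth.Agent.H78.UT2.restrict_openImmersion hu₁ hV.isoSpec.hom (𝟙 _)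
    (hV.isoSpec.hom ≫ i₀) hsq
  refine ⟨Z'₀, hV.isoSpec.hom ≫ i₀, h'₀ ≫ hU.fromSpec, ?_⟩
  have key : hV.isoSpec.hom ≫ Spec.map (CommRingCat.ofHom (algebraMap Γ(X, U) Γ(Z, V))) ≫
      hU.fromSpec = V.ι ≫ h := by
    have : CommRingCat.ofHom (algebraMap Γ(X, U) Γ(Z, V)) = h.appLE U V e := rfl
    rw [this, hU.SpecMap_appLE_fromSpec h hV e, ← Category.assoc, hV.isoSpec_hom_fromSpec]
  rw [← key]
  simpa using hu₂

end Groth.Agent.H78.UT3
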