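import Mathlib
import Groth.Prelude.Def_Omega3
import Groth.Agent.H78.UT1
import Groth.Agent.H78.UT2
import Groth.Agent.H78.UT3

/-!
# Universal first order thickenings: gluing
-/

set_option autoImplicit false
set_option maxHeartbeats 400000
universe u

namespace Groth.Agent.H78.UT4

open AlgebraicGeometry CategoryTheory CategoryTheory.Limits TopologicalSpace

/-- A first order thickening is a homeomorphism: opens of the source come from the target. -/
theorem exists_opens_preimage_eq {T T' : Scheme.{u}} (j : T ⟶ T')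
    (hj : MoreMor.IsFirstOrderThickening j) (O : T.Opens) : ∃ W : T'.Opens, j ⁻¹ᵁ W = O := by
  haveI : IsClosedImmersion j := hj.1.1
  have hinj : Function.Injective j := j.isClosedEmbedding.injective
  refine ⟨⟨(j '' (O : Set T)ᶜ)ᶜ, ?_⟩, ?_⟩
  · rw [isOpen_compl_iff]
    exact j.isClosedEmbedding.isClosedMap _ O.isOpen.isClosed_compl
  · ext t
    simp only [Opens.map_coe, Opens.coe_mk, Set.preimage_compl, Set.mem_compl_iff,
      Set.mem_preimage, Set.mem_image, SetLike.mem_coe, not_exists, not_and]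
    constructor
    · intro ht
      by_contra hO
      exact ht t hO rfl
    · intro ht x hx hxt
      exact hx (hinj hxt ▸ ht)

variable {Z Z' X : Scheme.{u}} {h : Z ⟶ X} {i : Z ⟶ Z'} {h' : Z' ⟶ X}

/-- Unique lifting for test pairs whose source factors through an open on which the thickening
is universal. -/
theorem lift_of_local {V V' : Scheme.{u}} (u : V ⟶ Z) (u' : V' ⟶ Z') [IsOpenImmersion u']
    (iV : V ⟶ V') (hsq : iV ≫ u' = u ≫ i)
    (huV : OmegaSh.IsUnivThickening (u ≫ h) iV (u' ≫ h'))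
    {T T' : Scheme.{u}} (j : T ⟶ T') (hj : MoreMor.IsFirstOrderThickening j) (b : T' ⟶ X)
    (aV : T ⟶ V) (hjb : j ≫ b = aV ≫ u ≫ h) :
    ∃! a' : T' ⟶ Z', j ≫ a' = aV ≫ u ≫ i ∧ a' ≫ h' = b := by
  have hjsurj : Function.Surjective j := hj.1.2.surj
  obtain ⟨c, ⟨hc1, hc2⟩, hcuniq⟩ := huV.2.2 T T' j b aV hj hjb
  refine ⟨c ≫ u', ⟨?_, ?_⟩, ?_⟩
  · rw [← Category.assoc, hc1, Category.assoc, hsq]
  · rw [Category.assoc, hc2]
  · rintro a'' ⟨h1, h2⟩
    have hrange : Set.range a'' ⊆ Set.range u' := by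
      rintro _ ⟨x, rfl⟩
      obtain ⟨y, rfl⟩ := hjsurj x
      have : a'' (j y) = u' (iV (aV y)) := by
        have := congrArg (fun f : T ⟶ Z' => f y) h1
        rw [← hsq] at this
        simpa using this
      rw [this]
      exact ⟨_, rfl⟩
    have hfac : IsOpenImmersion.lift u' a'' hrange ≫ u' = a'' := IsOpenImmersion.lift_fac _ _ _
    have : IsOpenImmersion.lift u' a'' hrange = c := by
      apply hcuniq
      refine ⟨?_, ?_⟩
      · rw [← cancel_mono u', Category.assoc, hfac, h1, Category.assoc, hsq]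
      · rw [← Category.assoc, hfac, h2]
    rw [← hfac, this]


section construction

variable {Z X : Scheme.{u}} (h : Z ⟶ X)

/-- Affine opens of `Z` mapping into an affine open of `X`. -/
def Idx : Set Z.Opens := {V | IsAffineOpen V ∧ ∃ U : X.Opens, IsAffineOpen U ∧ V ≤ h ⁻¹ᵁ U}

lemma isBasis_Idx : Opens.IsBasis (Idx h) := by
  rw [Opens.isBasis_iff_nbhd]
  intro W x hx
  obtain ⟨U, hU, hxU, -⟩ :=
    Opens.isBasis_iff_nbhd.mp X.isBasis_affineOpens (Opens.mem_top (h x))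
  obtain ⟨V, hV, hxV, hVW⟩ := Opens.isBasis_iff_nbhd.mp Z.isBasis_affineOpens
    (show x ∈ W ⊓ h ⁻¹ᵁ U from ⟨hx, hxU⟩)
  exact ⟨V, ⟨hV, U, hU, hVW.trans inf_le_right⟩, hxV, hVW.trans inf_le_left⟩

variable [FormallyUnramified h]

lemma exists_univ (V : Idx h) : ∃ (Z' : Scheme.{u}) (i : V.1.toScheme ⟶ Z') (h' : Z' ⟶ X),
    OmegaSh.IsUnivThickening (V.1.ι ≫ h) i h' := by
  obtain ⟨hV, U, hU, e⟩ := V.2
  exact Groth.Agent.H78.UT3.exists_univ_affineOpen h V.1 hV U hU e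

noncomputable def Zp (V : Idx h) : Scheme.{u} := (exists_univ h V).choose

noncomputable def iV (V : Idx h) : V.1.toScheme ⟶ Zp h V := (exists_univ h V).choose_spec.choose

noncomputable def hV (V : Idx h) : Zp h V ⟶ X :=
  (exists_univ h V).choose_spec.choose_spec.choose

lemma huV (V : Idx h) : OmegaSh.IsUnivThickening (V.1.ι ≫ h) (iV h V) (hV h V) :=
  (exists_univ h V).choose_spec.choose_spec.choose_spec

lemma trans_existsUnique (V₁ V₂ : Idx h) (hle : V₁.1 ≤ V₂.1) :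
    ∃! φ : Zp h V₁ ⟶ Zp h V₂,
      iV h V₁ ≫ φ = Z.homOfLE hle ≫ iV h V₂ ∧ φ ≫ hV h V₂ = hV h V₁ :=
  (huV h V₂).2.2 _ _ (iV h V₁) (hV h V₁) (Z.homOfLE hle) (huV h V₁).1
    (by rw [(huV h V₁).2.1, Scheme.homOfLE_ι_assoc])

noncomputable def tr (V₁ V₂ : Idx h) (hle : V₁.1 ≤ V₂.1) : Zp h V₁ ⟶ Zp h V₂ :=
  (trans_existsUnique h V₁ V₂ hle).exists.choose

lemma tr_spec1 (V₁ V₂ : Idx h) (hle : V₁.1 ≤ V₂.1) :
    iV h V₁ ≫ tr h V₁ V₂ hle = Z.homOfLE hle ≫ iV h V₂ :=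
  (trans_existsUnique h V₁ V₂ hle).exists.choose_spec.1

lemma tr_spec2 (V₁ V₂ : Idx h) (hle : V₁.1 ≤ V₂.1) :
    tr h V₁ V₂ hle ≫ hV h V₂ = hV h V₁ :=
  (trans_existsUnique h V₁ V₂ hle).exists.choose_spec.2

lemma tr_uniq (V₁ V₂ : Idx h) (hle : V₁.1 ≤ V₂.1) (φ : Zp h V₁ ⟶ Zp h V₂)
    (h1 : iV h V₁ ≫ φ = Z.homOfLE hle ≫ iV h V₂) (h2 : φ ≫ hV h V₂ = hV h V₁) :
    φ = tr h V₁ V₂ hle :=
  (trans_existsUnique h V₁ V₂ hle).unique ⟨h1, h2⟩ ⟨tr_spec1 h V₁ V₂ hle, tr_spec2 h V₁ V₂ hle⟩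

/-- The diagram of local universal thickenings. -/
noncomputable def F : Idx h ⥤ Scheme.{u} where
  obj V := Zp h V
  map {V₁ V₂} f := tr h V₁ V₂ (leOfHom f)
  map_id V := (tr_uniq h V V _ (𝟙 _) (by simp) (by simp)).symm
  map_comp {V₁ V₂ V₃} f g := (tr_uniq h V₁ V₃ _ (tr h V₁ V₂ (leOfHom f) ≫ tr h V₂ V₃ (leOfHom g))
    (by rw [← Category.assoc, tr_spec1, Category.assoc, tr_spec1, ← Category.assoc,
      Scheme.homOfLE_homOfLE])
    (by rw [Category.assoc, tr_spec2, tr_spec2])).symm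

lemma isOpenImmersion_tr (V₁ V₂ : Idx h) (hle : V₁.1 ≤ V₂.1) :
    IsOpenImmersion (tr h V₁ V₂ hle) := by
  obtain ⟨W, hW⟩ := exists_opens_preimage_eq (iV h V₂) (huV h V₂).1 (Z.homOfLE hle).opensRange
  have hrange : Set.range (Z.homOfLE hle ≫ iV h V₂) ⊆ Set.range W.ι := by
    rw [Scheme.Opens.range_ι]
    rintro _ ⟨x, rfl⟩
    have : Z.homOfLE hle x ∈ (iV h V₂) ⁻¹ᵁ W := by rw [hW]; exact ⟨x, rfl⟩
    exact this
  have hfac : IsOpenImmersion.lift W.ι (Z.homOfLE hle ≫ iV h V₂) hrange ≫ W.ι =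
      Z.homOfLE hle ≫ iV h V₂ := IsOpenImmersion.lift_fac _ _ _
  have hsq : IsPullback (IsOpenImmersion.lift W.ι (Z.homOfLE hle ≫ iV h V₂) hrange)
      (Z.homOfLE hle) W.ι (iV h V₂) :=
    IsOpenImmersion.isPullback _ (Z.homOfLE hle) W.ι (iV h V₂) hfac.symm
      (by rw [Scheme.Opens.opensRange_ι, hW])
  have hu := Groth.Agent.H78.UT2.restrict_openImmersion (huV h V₂) (Z.homOfLE hle) W.ι _ hsq
  rw [Scheme.homOfLE_ι_assoc] at hu
  obtain ⟨e, he1, he2⟩ := Groth.Agent.H78.UT2.exists_iso (huV h V₁) hu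
  have : e.hom ≫ W.ι = tr h V₁ V₂ hle :=
    tr_uniq h _ _ _ _ (by rw [← Category.assoc, he1, hfac]) (by rw [Category.assoc, he2])
  rw [← this]
  infer_instance

instance {V₁ V₂ : Idx h} (f : V₁ ⟶ V₂) : IsOpenImmersion ((F h).map f) :=
  isOpenImmersion_tr h V₁ V₂ (leOfHom f)

lemma iV_surjective (V : Idx h) : Function.Surjective (iV h V) := (huV h V).1.1.2.surj

lemma iV_injective (V : Idx h) : Function.Injective (iV h V) := by
  haveI : IsClosedImmersion (iV h V) := (huV h V).1.1.1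
  exact (iV h V).isClosedEmbedding.injective

lemma tr_iV_apply (V₁ V₂ : Idx h) (hle : V₁.1 ≤ V₂.1) (z : V₁.1) :
    tr h V₁ V₂ hle (iV h V₁ z) = iV h V₂ (Z.homOfLE hle z) := by
  have := congrArg (fun f : V₁.1.toScheme ⟶ Zp h V₂ => f z) (tr_spec1 h V₁ V₂ hle)
  exact this

end construction

end Groth.Agent.H78.UT4
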