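import Mathlib
import Groth.Prelude.Def_Omega3
import Groth.Agent.H78.UT4
import Groth.Agent.H93.NilPull

/-!
# Universal first order thickenings: the glued thickening
-/

set_option autoImplicit false
set_option maxHeartbeats 400000
universe u

namespace Groth.Agent.H78.UT5

open AlgebraicGeometry CategoryTheory CategoryTheory.Limits TopologicalSpace
open Groth.Agent.H78.UT4

variable {Z X : Scheme.{u}} (h : Z ⟶ X) [FormallyUnramified h]

lemma F_map_apply {V₁ V₂ : Idx h} (f : V₁ ⟶ V₂) (x : Zp h V₁) :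
    ((F h) ⋙ Scheme.forget).map f x = tr h V₁ V₂ (leOfHom f) x := rfl

lemma tr_iV_apply' (V₁ V₂ : Idx h) (hle : V₁.1 ≤ V₂.1) (z : V₁.1.toScheme) :
    tr h V₁ V₂ hle (iV h V₁ z) = iV h V₂ (Z.homOfLE hle z) :=
  tr_iV_apply h V₁ V₂ hle z

lemma homOfLE_eq_of_ι_eq {V₁ V₂ : Z.Opens} (hle : V₁ ≤ V₂) (z₁ : V₁.toScheme) (z₂ : V₂.toScheme)
    (hz : V₁.ι z₁ = (Scheme.Opens.ι V₂) z₂) : Z.homOfLE hle z₁ = z₂ := by
  apply V₂.ι.isOpenEmbedding.injective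
  rw [← Scheme.Hom.comp_apply, Scheme.homOfLE_ι, hz]

lemma exists_point (V : Z.Opens) (z : Z) (hz : z ∈ V) : ∃ zV : V.toScheme, V.ι zV = z := by
  have : z ∈ Set.range V.ι := by rw [Scheme.Opens.range_ι]; exact hz
  exact this

lemma ι_mem (V : Z.Opens) (zV : V.toScheme) : V.ι zV ∈ V := by
  have : V.ι zV ∈ Set.range V.ι := ⟨zV, rfl⟩
  rwa [Scheme.Opens.range_ι] at this

instance : ((F h) ⋙ Scheme.forget).IsLocallyDirected where
  cond {Vi Vj Vk} fi fj xi xj hx := by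
    obtain ⟨zi, rfl⟩ := iV_surjective h Vi xi
    obtain ⟨zj, rfl⟩ := iV_surjective h Vj xj
    have hx' : tr h Vi Vk (leOfHom fi) (iV h Vi zi) = tr h Vj Vk (leOfHom fj) (iV h Vj zj) := hx
    rw [tr_iV_apply', tr_iV_apply'] at hx'
    have hinj := iV_injective h Vk hx'
    have hz : Vi.1.ι zi = Vj.1.ι zj := by
      have := congrArg (fun z => Vk.1.ι z) hinj
      simp only [← Scheme.Hom.comp_apply, Scheme.homOfLE_ι] at this
      exact this
    obtain ⟨Vl, hVl, hzVl, hVlle⟩ := Opens.isBasis_iff_nbhd.mp (isBasis_Idx h)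
      (show Vi.1.ι zi ∈ Vi.1 ⊓ Vj.1 from ⟨ι_mem _ _, hz ▸ ι_mem _ _⟩)
    obtain ⟨zl, hzl⟩ := exists_point Vl _ hzVl
    refine ⟨⟨Vl, hVl⟩, homOfLE (hVlle.trans inf_le_left), homOfLE (hVlle.trans inf_le_right),
      iV h ⟨Vl, hVl⟩ zl, ?_, ?_⟩
    · show tr h ⟨Vl, hVl⟩ Vi (hVlle.trans inf_le_left) (iV h ⟨Vl, hVl⟩ zl) = iV h Vi zi
      rw [tr_iV_apply']
      congr 1
      exact homOfLE_eq_of_ι_eq _ _ _ hzl
    · show tr h ⟨Vl, hVl⟩ Vj (hVlle.trans inf_le_right) (iV h ⟨Vl, hVl⟩ zl) = iV h Vj zj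
      rw [tr_iV_apply']
      congr 1
      exact homOfLE_eq_of_ι_eq _ _ _ (hzl.trans hz)


/-- The glued thickening. -/
noncomputable def Z'g : Scheme.{u} := colimit (F h)

noncomputable def ιg (V : Idx h) : Zp h V ⟶ Z'g h := colimit.ι (F h) V

instance (V : Idx h) : IsOpenImmersion (ιg h V) :=
  inferInstanceAs (IsOpenImmersion (colimit.ι (F h) V))

lemma tr_ιg (V₁ V₂ : Idx h) (hle : V₁.1 ≤ V₂.1) : tr h V₁ V₂ hle ≫ ιg h V₂ = ιg h V₁ :=
  colimit.w (F h) (homOfLE hle)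

/-- The open cover of the glued thickening by the local thickenings. -/
noncomputable def cov : (Z'g h).OpenCover where
  I₀ := Idx h
  X V := Zp h V
  f V := ιg h V
  mem₀ := by
    rw [Scheme.presieve₀_mem_precoverage_iff]
    refine ⟨fun x => ?_, fun V => inferInstanceAs (IsOpenImmersion (ιg h V))⟩
    obtain ⟨V, y, hy⟩ := Scheme.IsLocallyDirected.ι_jointly_surjective (F h) x
    exact ⟨V, y, hy⟩

noncomputable def h'g : Z'g h ⟶ X :=
  colimit.desc (F h) ⟨X, { app := fun V => hV h V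
                           naturality := fun V₁ V₂ f => by
                            simp only [Functor.const_obj_obj, Functor.const_obj_map,
                              Category.comp_id]
                            exact tr_spec2 h V₁ V₂ (leOfHom f) }⟩

lemma ιg_h'g (V : Idx h) : ιg h V ≫ h'g h = hV h V := colimit.ι_desc _ _

lemma compat (V₁ V₂ : Idx h) (hle : V₁.1 ≤ V₂.1) :
    Z.homOfLE hle ≫ iV h V₂ ≫ ιg h V₂ = iV h V₁ ≫ ιg h V₁ := by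
  rw [← Category.assoc, ← tr_spec1, Category.assoc, tr_ιg]

noncomputable def gmap (V : (Groth.Agent.H78.UT1.basisCover Z (Idx h) (isBasis_Idx h)).I₀) :
    (Groth.Agent.H78.UT1.basisCover Z (Idx h) (isBasis_Idx h)).X V ⟶ Z'g h :=
  iV h ⟨V.1, V.2⟩ ≫ ιg h ⟨V.1, V.2⟩

lemma gcompat {V₁ V₂ : (Groth.Agent.H78.UT1.basisCover Z (Idx h) (isBasis_Idx h)).I₀}
    (f : V₁ ⟶ V₂) :
    (Groth.Agent.H78.UT1.basisCover Z (Idx h) (isBasis_Idx h)).trans f ≫ gmap h V₂ =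
      gmap h V₁ :=
  compat h ⟨V₁.1, V₁.2⟩ ⟨V₂.1, V₂.2⟩ (leOfHom f)

noncomputable def ig : Z ⟶ Z'g h :=
  (Groth.Agent.H78.UT1.basisCover Z (Idx h) (isBasis_Idx h)).glueMorphismsOfLocallyDirected
    (gmap h) (gcompat h)

lemma ι_ig (V : Idx h) : V.1.ι ≫ ig h = iV h V ≫ ιg h V :=
  (Groth.Agent.H78.UT1.basisCover Z (Idx h)
    (isBasis_Idx h)).map_glueMorphismsOfLocallyDirected (gmap h) (gcompat h) V

lemma ig_h'g : ig h ≫ h'g h = h := by
  apply (Groth.Agent.H78.UT1.basisCover Z (Idx h) (isBasis_Idx h)).hom_ext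
  intro V
  change V.1.ι ≫ ig h ≫ h'g h = V.1.ι ≫ h
  rw [← Category.assoc, ι_ig h ⟨V.1, V.2⟩, Category.assoc, ιg_h'g, (huV h ⟨V.1, V.2⟩).2.1]

lemma ig_apply (V : Idx h) (zV : V.1.toScheme) : ig h (V.1.ι zV) = ιg h V (iV h V zV) := by
  have := congrArg (fun f : V.1.toScheme ⟶ Z'g h => f zV) (ι_ig h V)
  exact this

lemma preimage_range (V : Idx h) : ig h ⁻¹ᵁ (ιg h V).opensRange = V.1.ι.opensRange := by
  rw [Scheme.Opens.opensRange_ι]
  ext z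
  constructor
  · rintro ⟨x, hx⟩
    obtain ⟨V₂, hV₂, hzV₂, -⟩ := Opens.isBasis_iff_nbhd.mp (isBasis_Idx h) (Opens.mem_top z)
    obtain ⟨z₂, rfl⟩ := exists_point V₂ z hzV₂
    have hx'' : ιg h V x = ιg h ⟨V₂, hV₂⟩ (iV h ⟨V₂, hV₂⟩ z₂) := by
      rw [← ig_apply h ⟨V₂, hV₂⟩ z₂]
      exact hx
    have hx' : colimit.ι (F h) V x = colimit.ι (F h) ⟨V₂, hV₂⟩ (iV h ⟨V₂, hV₂⟩ z₂) := hx''
    obtain ⟨k, fkV, fk2, y, hy1, hy2⟩ := (Scheme.IsLocallyDirected.ι_eq_ι_iff (F h)).mp hx'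
    obtain ⟨zk, rfl⟩ := iV_surjective h k y
    have hy2' : tr h k ⟨V₂, hV₂⟩ (leOfHom fk2) (iV h k zk) = iV h ⟨V₂, hV₂⟩ z₂ := hy2
    rw [tr_iV_apply'] at hy2'
    have hinj := iV_injective h ⟨V₂, hV₂⟩ hy2'
    have hz : k.1.ι zk = (Scheme.Opens.ι V₂) z₂ := by
      have := congrArg (fun z => (Scheme.Opens.ι V₂) z) hinj
      simp only [← Scheme.Hom.comp_apply, Scheme.homOfLE_ι] at this
      exact this
    show (Scheme.Opens.ι V₂) z₂ ∈ V.1
    rw [← hz]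
    exact (leOfHom fkV) (ι_mem _ _)
  · intro hz
    obtain ⟨zV, rfl⟩ := exists_point V.1 z hz
    exact ⟨iV h V zV, (ig_apply h V zV).symm⟩

lemma hsq (V : Idx h) : IsPullback (iV h V) V.1.ι (ιg h V) (ig h) :=
  IsOpenImmersion.isPullback (iV h V) V.1.ι (ιg h V) (ig h) (ι_ig h V) (preimage_range h V)

lemma isClosedImmersion_snd (V : Idx h) : IsClosedImmersion (pullback.snd (ig h) (ιg h V)) := by
  haveI : IsClosedImmersion (iV h V) := (huV h V).1.1.1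
  have e : (hsq h V).flip.isoPullback.hom ≫ pullback.snd (ig h) (ιg h V) = iV h V :=
    (hsq h V).flip.isoPullback_hom_snd
  have : pullback.snd (ig h) (ιg h V) = (hsq h V).flip.isoPullback.inv ≫ iV h V :=
    (Iso.eq_inv_comp _).mpr e
  rw [this]
  infer_instance

lemma isClosedImmersion_ig : IsClosedImmersion (ig h) := by
  apply IsZariskiLocalAtTarget.of_openCover (P := @IsClosedImmersion) (cov h)
  intro V
  exact isClosedImmersion_snd h V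

lemma ig_surjective : Function.Surjective (ig h) := by
  intro x
  obtain ⟨V, y, rfl⟩ := Scheme.IsLocallyDirected.ι_jointly_surjective (F h) x
  obtain ⟨zV, rfl⟩ := iV_surjective h V y
  exact ⟨V.1.ι zV, ig_apply h V zV⟩

lemma ker_sq_le (V : Idx h) : (ig h).ker * (ig h).ker ≤ (ιg h V ≫ 𝟙 (Z'g h)).ker := by
  haveI := isClosedImmersion_ig h
  have h1 : (iV h V).ker = (ig h).ker.comap (ιg h V) :=
    Groth.Agent.H93.NilPull.ker_eq_comap_of_isPullback (hsq h V)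
  have h2 : ((ig h).ker * (ig h).ker).comap (ιg h V) = ⊥ := by
    rw [Groth.Agent.H93.IdealComap.comap_mul, ← h1]
    exact (huV h V).1.2
  rw [Category.comp_id, ← Scheme.IdealSheafData.map_bot (ιg h V),
    Scheme.IdealSheafData.le_map_iff_comap_le, h2]

lemma ker_sq : (ig h).ker * (ig h).ker = ⊥ := by
  have hbot : ⨅ V, ((cov h).f V ≫ 𝟙 (Z'g h)).ker = (⊥ : (Z'g h).IdealSheafData) := by
    rw [Scheme.Hom.iInf_ker_openCover_map_comp, Scheme.Hom.ker_eq_bot_of_isIso]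
  rw [eq_bot_iff, ← hbot, le_iInf_iff]
  intro V
  exact ker_sq_le h V

theorem isUniv : OmegaSh.IsUnivThickening h (ig h) (h'g h) := by
  refine ⟨⟨⟨isClosedImmersion_ig h, ⟨ig_surjective h⟩⟩, ker_sq h⟩, ig_h'g h, ?_⟩
  intro T T' j b a hj hjb
  have hℬ : Opens.IsBasis {W : T'.Opens | ∃ V : Idx h, j ⁻¹ᵁ W ≤ a ⁻¹ᵁ V.1} := by
    rw [Opens.isBasis_iff_nbhd]
    intro W₀ t' ht'
    obtain ⟨t, rfl⟩ := hj.1.2.surj t'
    obtain ⟨V, hV, htV, -⟩ := Opens.isBasis_iff_nbhd.mp (isBasis_Idx h) (Opens.mem_top (a t))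
    obtain ⟨W₁, hW₁⟩ := exists_opens_preimage_eq j hj (a ⁻¹ᵁ V ⊓ j ⁻¹ᵁ W₀)
    refine ⟨W₁, ⟨⟨V, hV⟩, by rw [hW₁]; exact inf_le_left⟩, ?_, ?_⟩
    · show t ∈ j ⁻¹ᵁ W₁
      rw [hW₁]
      exact ⟨htV, ht'⟩
    · intro x hx
      obtain ⟨y, rfl⟩ := hj.1.2.surj x
      have : y ∈ j ⁻¹ᵁ W₁ := hx
      rw [hW₁] at this
      exact this.2
  apply Groth.Agent.H78.UT1.existsUnique_of_basis _ _ j b a _ hℬ
  rintro W ⟨V, hWV⟩
  have hrange : Set.range ((j ⁻¹ᵁ W).ι ≫ a) ⊆ Set.range V.1.ι := by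
    rw [Scheme.Opens.range_ι]
    rintro _ ⟨y, rfl⟩
    exact hWV (ι_mem _ y)
  obtain ⟨aW, haW⟩ : ∃ aW : (j ⁻¹ᵁ W).toScheme ⟶ V.1.toScheme,
      aW ≫ V.1.ι = (j ⁻¹ᵁ W).ι ≫ a :=
    ⟨IsOpenImmersion.lift V.1.ι ((j ⁻¹ᵁ W).ι ≫ a) hrange, IsOpenImmersion.lift_fac _ _ _⟩
  have hloc := lift_of_local (h := h) (i := ig h) (h' := h'g h) V.1.ι (ιg h V) (iV h V)
    (ι_ig h V).symm (by rw [ιg_h'g]; exact huV h V) (j ∣_ W)
    (Groth.Agent.H78.UnivThick.firstOrder_of_isPullback (isPullback_morphismRestrict j W) hj)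
    (W.ι ≫ b) aW
    (by rw [morphismRestrict_ι_assoc, hjb, reassoc_of% haW])
  rw [reassoc_of% haW] at hloc
  exact hloc

end Groth.Agent.H78.UT5
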