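import Groth.Agent.H78.SF
import Mathlib.RingTheory.LocalRing.ResidueField.Ideal

/-!
# Pairs in schematic finite spaces (helper78)
-/

set_option autoImplicit false
set_option maxHeartbeats 400000
universe u
open SchFin TensorProduct

namespace Groth.Agent.H78.SF

/-- two primes with the same contraction are both contractions of a prime of the tensor product -/
theorem exists_prime_tensor {A B C : Type u} [CommRing A] [CommRing B] [CommRing C]
    [Algebra A B] [Algebra A C] (P : Ideal B) [P.IsPrime] (Q : Ideal C) [Q.IsPrime]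
    (h : P.comap (algebraMap A B) = Q.comap (algebraMap A C)) :
    ∃ 𝔮 : Ideal (C ⊗[A] B), 𝔮.IsPrime ∧
      𝔮.comap (Algebra.TensorProduct.includeLeftRingHom : C →+* C ⊗[A] B) = Q ∧
      𝔮.comap (Algebra.TensorProduct.includeRight : B →ₐ[A] C ⊗[A] B).toRingHom = P := by
  haveI : (Q.comap (algebraMap A C)).IsPrime := Ideal.comap_isPrime _ _
  letI : Algebra (Q.comap (algebraMap A C)).ResidueField P.ResidueField :=
    (Ideal.ResidueField.map (Q.comap (algebraMap A C)) P (algebraMap A B) h.symm).toAlgebra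
  letI : Algebra (Q.comap (algebraMap A C)).ResidueField Q.ResidueField :=
    (Ideal.ResidueField.map (Q.comap (algebraMap A C)) Q (algebraMap A C) rfl).toAlgebra
  haveI : Nontrivial (Q.ResidueField ⊗[(Q.comap (algebraMap A C)).ResidueField] P.ResidueField) :=
    inferInstance
  letI : Algebra A (Q.ResidueField ⊗[(Q.comap (algebraMap A C)).ResidueField] P.ResidueField) :=
    ((algebraMap (Q.comap (algebraMap A C)).ResidueField
      (Q.ResidueField ⊗[(Q.comap (algebraMap A C)).ResidueField] P.ResidueField)).comp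
      (algebraMap A (Q.comap (algebraMap A C)).ResidueField)).toAlgebra
  let f₁ : C →ₐ[A] (Q.ResidueField ⊗[(Q.comap (algebraMap A C)).ResidueField] P.ResidueField) :=
    { toRingHom := (Algebra.TensorProduct.includeLeftRingHom).comp (algebraMap C Q.ResidueField)
      commutes' := fun a => by
        show (algebraMap C Q.ResidueField (algebraMap A C a)) ⊗ₜ 1 =
          algebraMap (Q.comap (algebraMap A C)).ResidueField _
            (algebraMap A (Q.comap (algebraMap A C)).ResidueField a)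
        rw [Algebra.TensorProduct.algebraMap_apply]
        congr 1
        exact (Ideal.ResidueField.map_algebraMap _ _ _ rfl a).symm }
  let f₂ : B →ₐ[A] (Q.ResidueField ⊗[(Q.comap (algebraMap A C)).ResidueField] P.ResidueField) :=
    { toRingHom := (Algebra.TensorProduct.includeRight :
        P.ResidueField →ₐ[(Q.comap (algebraMap A C)).ResidueField] _).toRingHom.comp
          (algebraMap B P.ResidueField)
      commutes' := fun a => by
        show (1 : Q.ResidueField) ⊗ₜ (algebraMap B P.ResidueField (algebraMap A B a)) =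
          algebraMap (Q.comap (algebraMap A C)).ResidueField _
            (algebraMap A (Q.comap (algebraMap A C)).ResidueField a)
        have h1 : algebraMap B P.ResidueField (algebraMap A B a) =
            algebraMap (Q.comap (algebraMap A C)).ResidueField P.ResidueField
              (algebraMap A (Q.comap (algebraMap A C)).ResidueField a) :=
          (Ideal.ResidueField.map_algebraMap _ _ _ h.symm a).symm
        rw [h1]
        exact (Algebra.TensorProduct.algebraMap_apply' _).symm }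
  obtain ⟨𝔪, h𝔪⟩ := Ideal.exists_maximal
    (Q.ResidueField ⊗[(Q.comap (algebraMap A C)).ResidueField] P.ResidueField)
  haveI := h𝔪.isPrime
  refine ⟨𝔪.comap (Algebra.TensorProduct.productMap f₁ f₂).toRingHom, Ideal.comap_isPrime _ _, ?_, ?_⟩
  · rw [Ideal.comap_comap]
    have h2 : (Algebra.TensorProduct.productMap f₁ f₂).toRingHom.comp
        (Algebra.TensorProduct.includeLeftRingHom : C →+* C ⊗[A] B) = f₁.toRingHom := by
      ext c
      exact Algebra.TensorProduct.productMap_left_apply f₁ f₂ c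
    rw [h2]
    show Ideal.comap ((Algebra.TensorProduct.includeLeftRingHom).comp (algebraMap C Q.ResidueField)) 𝔪 = Q
    rw [← Ideal.comap_comap, Ideal.eq_bot_of_prime (Ideal.comap _ 𝔪), ← RingHom.ker_eq_comap_bot,
      Ideal.ker_algebraMap_residueField]
  · rw [Ideal.comap_comap]
    have h2 : (Algebra.TensorProduct.productMap f₁ f₂).toRingHom.comp
        (Algebra.TensorProduct.includeRight : B →ₐ[A] C ⊗[A] B).toRingHom = f₂.toRingHom := by
      ext b
      exact Algebra.TensorProduct.productMap_right_apply f₁ f₂ b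
    rw [h2]
    show Ideal.comap ((Algebra.TensorProduct.includeRight :
        P.ResidueField →ₐ[(Q.comap (algebraMap A C)).ResidueField] _).toRingHom.comp
          (algebraMap B P.ResidueField)) 𝔪 = P
    rw [← Ideal.comap_comap, Ideal.eq_bot_of_prime (Ideal.comap _ 𝔪), ← RingHom.ker_eq_comap_bot,
      Ideal.ker_algebraMap_residueField]

/-- the faithful flatness hypothesis carried by the rows on pairs -/
def HFF (X : RSpace.{u}) : Prop :=
  ∀ s a b : X.pt, s ≤ a → s ≤ b → (X.up a ∩ X.up b).Nonempty →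
    Module.FaithfullyFlat (X.sectRing (X.up a ∩ X.up b)) ((q : ↥(X.up a ∩ X.up b)) → X.ring q.1)

theorem pairRel_of_comap_eq (X : RSpace.{u}) (hX : X.IsSchematic) (hff : HFF X)
    {s x y : X.pt} (hx : s ≤ x) (hy : s ≤ y) (P : PrimeSpectrum (X.ring x))
    (Q : PrimeSpectrum (X.ring y))
    (hPQ : PrimeSpectrum.comap (X.res hx) P = PrimeSpectrum.comap (X.res hy) Q) :
    X.PairRel ⟨x, P⟩ ⟨y, Q⟩ := by
  letI : Algebra (X.ring s) (X.ring x) := (X.res hx).toAlgebra
  letI : Algebra (X.ring s) (X.ring y) := (X.res hy).toAlgebra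
  obtain ⟨e, he⟩ := tensor_sect hX hx hy
  obtain ⟨𝔮, h𝔮, hQ, hP⟩ := exists_prime_tensor (A := X.ring s) P.asIdeal Q.asIdeal
    (congrArg PrimeSpectrum.asIdeal hPQ)
  letI : Algebra (X.ring s) (X.sectRing (X.up x ∩ X.up y)) :=
    ((X.resSect y (X.up x ∩ X.up y) Set.inter_subset_right).comp (X.res hy)).toAlgebra
  let F₁ : X.ring y →ₐ[X.ring s] X.sectRing (X.up x ∩ X.up y) :=
    { X.resSect y (X.up x ∩ X.up y) Set.inter_subset_right with commutes' := fun a => rfl }
  let F₂ : X.ring x →ₐ[X.ring s] X.sectRing (X.up x ∩ X.up y) :=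
    { X.resSect x (X.up x ∩ X.up y) Set.inter_subset_left with
      commutes' := fun a => by
        apply Subtype.ext; funext q
        show X.res _ (X.res hx a) = X.res _ (X.res hy a)
        exact (X.res_comp _ _ a).trans (X.res_comp _ _ a).symm }
  have hψ : ∀ t : X.ring y ⊗[X.ring s] X.ring x,
      (Algebra.TensorProduct.productMap F₁ F₂ t).1 = (e t).1 := by
    intro t
    induction t using TensorProduct.induction_on with
    | zero => rw [map_zero, map_zero]; rfl
    | tmul a b =>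
      funext q
      rw [he, Algebra.TensorProduct.productMap_apply_tmul]
      rfl
    | add t t' ht ht' =>
      rw [map_add, map_add]
      show (Algebra.TensorProduct.productMap F₁ F₂ t).1 + (Algebra.TensorProduct.productMap F₁ F₂ t').1 =
        (e t).1 + (e t').1
      rw [ht, ht']
      rfl
  have hψbij : Function.Bijective (Algebra.TensorProduct.productMap F₁ F₂) := by
    constructor
    · intro t t' htt
      apply e.injective
      apply Subtype.ext
      rw [← hψ, ← hψ, htt]
    · intro γ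
      obtain ⟨t, ht⟩ := e.surjective ⟨γ.1, γ.2⟩
      refine ⟨t, Subtype.ext ?_⟩
      rw [hψ, ht]
  let ψe : X.ring y ⊗[X.ring s] X.ring x ≃+* X.sectRing (X.up x ∩ X.up y) :=
    RingEquiv.ofBijective (Algebra.TensorProduct.productMap F₁ F₂) hψbij
  haveI : (𝔮.comap ψe.symm.toRingHom).IsPrime := Ideal.comap_isPrime _ _
  -- the meet is nonempty
  have hne : (X.up x ∩ X.up y).Nonempty := by
    by_contra hempty
    rw [Set.not_nonempty_iff_eq_empty] at hempty
    haveI : IsEmpty ↥(X.up x ∩ X.up y) := by rw [hempty]; infer_instance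
    have h1 : (1 : X.sectRing (X.up x ∩ X.up y)) = 0 := Subtype.ext (funext fun q => isEmptyElim q)
    have h2 : (1 : X.sectRing (X.up x ∩ X.up y)) ∈ 𝔮.comap ψe.symm.toRingHom := by
      rw [h1]; exact Ideal.zero_mem _
    exact (Ideal.IsPrime.ne_top ‹_›) ((Ideal.eq_top_iff_one _).mpr h2)
  haveI := hff s x y hx hy hne
  obtain ⟨𝔯, h𝔯⟩ := PrimeSpectrum.comap_surjective_of_faithfullyFlat
    (A := X.sectRing (X.up x ∩ X.up y)) (B := (q : ↥(X.up x ∩ X.up y)) → X.ring q.1)
    ⟨𝔮.comap ψe.symm.toRingHom, inferInstance⟩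
  obtain ⟨z, r, hr⟩ := PrimeSpectrum.exists_comap_evalRingHom_eq 𝔯
  have key : ∀ γ : X.sectRing (X.up x ∩ X.up y),
      ψe.symm γ ∈ 𝔮 ↔ γ.1 z ∈ r.asIdeal := by
    intro γ
    have h1 := congrArg PrimeSpectrum.asIdeal h𝔯
    have h3 : ψe.symm γ ∈ 𝔮 ↔ γ ∈ (⟨𝔮.comap ψe.symm.toRingHom, inferInstance⟩ :
        PrimeSpectrum (X.sectRing (X.up x ∩ X.up y))).asIdeal := Iff.rfl
    rw [h3, ← h1, ← hr]
    rfl
  refine ⟨z.1, z.2.1, z.2.2, r, ?_, ?_⟩
  · apply PrimeSpectrum.ext
    ext b
    show X.res z.2.1 b ∈ r.asIdeal ↔ b ∈ P.asIdeal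
    have h4 : ψe.symm (F₂ b) = (1 : X.ring y) ⊗ₜ[X.ring s] b := by
      rw [RingEquiv.symm_apply_eq]
      show F₂ b = Algebra.TensorProduct.productMap F₁ F₂ (1 ⊗ₜ b)
      rw [Algebra.TensorProduct.productMap_apply_tmul, map_one, one_mul]
    rw [← hP]
    have h5 := key (F₂ b)
    rw [h4] at h5
    exact h5.symm
  · apply PrimeSpectrum.ext
    ext a
    show X.res z.2.2 a ∈ r.asIdeal ↔ a ∈ Q.asIdeal
    have h4 : ψe.symm (F₁ a) = a ⊗ₜ[X.ring s] (1 : X.ring x) := by
      rw [RingEquiv.symm_apply_eq]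
      show F₁ a = Algebra.TensorProduct.productMap F₁ F₂ (a ⊗ₜ 1)
      rw [Algebra.TensorProduct.productMap_apply_tmul, map_one, mul_one]
    rw [← hQ]
    have h5 := key (F₁ a)
    rw [h4] at h5
    exact h5.symm

lemma comap_res_self (X : RSpace.{u}) {p : X.pt} (h : p ≤ p) (r : PrimeSpectrum (X.ring p)) :
    PrimeSpectrum.comap (X.res h) r = r := by
  apply PrimeSpectrum.ext
  ext b
  show X.res h b ∈ r.asIdeal ↔ _
  rw [show X.res h b = b from X.res_self p b]

lemma comap_res_comp (X : RSpace.{u}) {p q s : X.pt} (h : p ≤ q) (h' : q ≤ s)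
    (r : PrimeSpectrum (X.ring s)) :
    PrimeSpectrum.comap (X.res h) (PrimeSpectrum.comap (X.res h') r) =
      PrimeSpectrum.comap (X.res (h.trans h')) r := by
  apply PrimeSpectrum.ext
  ext b
  show X.res h' (X.res h b) ∈ r.asIdeal ↔ X.res (h.trans h') b ∈ r.asIdeal
  rw [X.res_comp]

theorem pairRel_refl (X : RSpace.{u}) (a : X.Pair) : X.PairRel a a :=
  ⟨a.1, le_rfl, le_rfl, a.2, comap_res_self X _ _, comap_res_self X _ _⟩

theorem pairRel_equivalence (X : RSpace.{u}) (hX : X.IsSchematic) (hff : HFF X) :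
    Equivalence X.PairRel where
  refl a := pairRel_refl X a
  symm := fun ⟨z, hx, hy, r, h1, h2⟩ => ⟨z, hy, hx, r, h2, h1⟩
  trans := by
    rintro a b c ⟨z, hxz, hyz, r, h1, h2⟩ ⟨z', hyz', hwz', r', h1', h2'⟩
    obtain ⟨z'', hz, hz', r'', h3, h3'⟩ :=
      pairRel_of_comap_eq X hX hff hyz hyz' r r' (h2.trans h1'.symm)
    refine ⟨z'', hxz.trans hz, hwz'.trans hz', r'', ?_, ?_⟩
    · exact (comap_res_comp X hxz hz r'').symm.trans (by rw [h3, h1])
    · exact (comap_res_comp X hwz' hz' r'').symm.trans (by rw [h3', h2'])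

theorem existsUnique_maximal_pair (X : RSpace.{u}) (hX : X.IsSchematic) (hff : HFF X)
    (c : X.SchPt) :
    ∃! a : X.Pair, Quot.mk X.PairRel a = c ∧
      ∀ b : X.Pair, Quot.mk X.PairRel b = c → b.1 ≤ a.1 := by
  have heq := pairRel_equivalence X hX hff
  have hquot : ∀ a b : X.Pair, Quot.mk X.PairRel a = Quot.mk X.PairRel b ↔ X.PairRel a b :=
    fun a b => by rw [Quot.eq, heq.eqvGen_iff]
  obtain ⟨a₀, rfl⟩ := Quot.exists_rep c
  obtain ⟨a, ha, hmax⟩ := Set.Finite.exists_maximalFor' (Sigma.fst : X.Pair → X.pt)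
    {b | X.PairRel a₀ b} (Set.toFinite _) ⟨a₀, heq.refl a₀⟩
  have ha' : X.PairRel a₀ a := ha
  have hkey : ∀ b, X.PairRel a₀ b → b.1 ≤ a.1 := by
    intro b hb
    obtain ⟨z, hxz, hyz, r, h1, h2⟩ := heq.trans (heq.symm ha') hb
    have hz : X.PairRel a₀ ⟨z, r⟩ :=
      heq.trans ha' ⟨z, hxz, le_rfl, r, h1, comap_res_self X _ r⟩
    have h3 : z ≤ a.1 := hmax hz hxz
    exact hyz.trans h3
  refine ⟨a, ⟨(hquot a a₀).mpr (heq.symm ha'),
    fun b hb => hkey b (heq.symm ((hquot b a₀).mp hb))⟩, ?_⟩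
  rintro a' ⟨ha'', hmax'⟩
  have h1 : X.PairRel a₀ a' := heq.symm ((hquot a' a₀).mp ha'')
  have hle1 : a'.1 ≤ a.1 := hkey a' h1
  have hle2 : a.1 ≤ a'.1 := hmax' a ((hquot a a₀).mpr (heq.symm ha'))
  have hpt : a'.1 = a.1 := le_antisymm hle1 hle2
  obtain ⟨z, hxz, hyz, r, h3, h4⟩ := heq.trans (heq.symm h1) ha'
  have hz : X.PairRel a₀ ⟨z, r⟩ :=
    heq.trans ha' ⟨z, hyz, le_rfl, r, h4, comap_res_self X _ r⟩
  have hza : z ≤ a.1 := hkey _ hz
  have hz_eq : z = a.1 := le_antisymm hza hyz
  obtain ⟨x', P'⟩ := a'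
  obtain ⟨x, P⟩ := a
  dsimp only at hpt hz_eq hxz hyz h3 h4
  subst hpt
  subst hz_eq
  rw [comap_res_self] at h3 h4
  rw [← h3, ← h4]

end Groth.Agent.H78.SF
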