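import Mathlib

set_option autoImplicit false
set_option maxHeartbeats 400000
universe u

namespace Groth.Agent.H78.DecompHensel

open Polynomial IsLocalRing

section

variable {R L Ks : Type u} [CommRing R] [IsDomain R] [Field L] [Field Ks] [Algebra R L]
  [Algebra R Ks] [Algebra L Ks] [IsScalarTower R L Ks]

/-- The inclusion of integral closures. -/
noncomputable def rho : integralClosure R L →+* integralClosure R Ks :=
  ((algebraMap L Ks).comp (integralClosure R L).val.toRingHom).codRestrict (integralClosure R Ks)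
    (fun c => by
      show IsIntegral R (algebraMap L Ks (c : L))
      exact c.2.map (IsScalarTower.toAlgHom R L Ks))

@[simp] theorem rho_coe (c : integralClosure R L) :
    ((rho (Ks := Ks) c : integralClosure R Ks) : Ks) = algebraMap L Ks (c : L) := rfl

variable (Ps : Ideal (integralClosure R Ks)) [hPs : Ps.IsPrime]
variable (Q : Ideal (integralClosure R L)) [hQp : Q.IsPrime]
variable (O : Type u) [CommRing O] [Algebra (integralClosure R L) O] [IsLocalization.AtPrime O Q]
  [Algebra O L] [IsScalarTower (integralClosure R L) O L] [Algebra O Ks] [IsScalarTower O L Ks]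

include Q in
/-- Clearing denominators of an element integral over `O`. -/
theorem clear_denom (b : Ks) (hb : IsIntegral O b) :
    ∃ t : integralClosure R L, t ∉ Q ∧ IsIntegral R (algebraMap L Ks (t : L) * b) := by
  haveI : IsScalarTower (integralClosure R L) O Ks := IsScalarTower.of_algebraMap_eq (fun c => by
    rw [IsScalarTower.algebraMap_apply O L Ks, ← IsScalarTower.algebraMap_apply (integralClosure R L) O L]
    rfl)
  obtain ⟨m, hm⟩ := IsIntegral.exists_multiple_integral_of_isLocalization Q.primeCompl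
    (Rₘ := O) (S := Ks) b hb
  refine ⟨m.1, m.2, ?_⟩
  have h1 : IsIntegral R (m • b) := isIntegral_trans (A := integralClosure R L) _ hm
  have h2 : m • b = algebraMap L Ks ((m : integralClosure R L) : L) * b := by
    rw [Submonoid.smul_def, Algebra.smul_def]
    rfl
  rw [← h2]
  exact h1

/-- The prime of the integral closure of `O` in `Ks` induced by `Ps`. -/
def PIdeal : Ideal (integralClosure O Ks) where
  carrier := {x | ∃ s : integralClosure R L, s ∉ Q ∧ ∃ p : integralClosure R Ks, p ∈ Ps ∧
      (p : Ks) = algebraMap L Ks (s : L) * (x : Ks)}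
  zero_mem' := ⟨1, fun h => hQp.ne_top ((Ideal.eq_top_iff_one _).mpr h), 0, Ps.zero_mem, by simp⟩
  add_mem' := by
    rintro x y ⟨s, hs, p, hp, hpx⟩ ⟨t, ht, q, hq, hqy⟩
    refine ⟨s * t, ?_, rho t * p + rho s * q, ?_, ?_⟩
    · intro h
      rcases hQp.mem_or_mem h with h | h
      · exact hs h
      · exact ht h
    · exact Ps.add_mem (Ps.mul_mem_left _ hp) (Ps.mul_mem_left _ hq)
    · simp only [Subalgebra.coe_add, Subalgebra.coe_mul, rho_coe, hpx, hqy, map_mul]
      ring
  smul_mem' := by
    rintro b x ⟨s, hs, p, hp, hpx⟩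
    obtain ⟨t, ht, hint⟩ := clear_denom Q O (b : Ks) b.2
    refine ⟨t * s, ?_, ⟨_, hint⟩ * p, Ps.mul_mem_left _ hp, ?_⟩
    · intro h
      rcases hQp.mem_or_mem h with h | h
      · exact ht h
      · exact hs h
    · simp only [Subalgebra.coe_mul, hpx, map_mul, smul_eq_mul]
      ring

theorem mem_PIdeal_iff (x : integralClosure O Ks) :
    x ∈ PIdeal Ps Q O ↔ ∃ s : integralClosure R L, s ∉ Q ∧ ∃ p : integralClosure R Ks, p ∈ Ps ∧
      (p : Ks) = algebraMap L Ks (s : L) * (x : Ks) := Iff.rfl

variable (hQ : ∀ y : integralClosure R L,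
  y ∈ Q ↔ ∃ x : integralClosure R Ks, x ∈ Ps ∧ (x : Ks) = algebraMap L Ks (y : L))

include hQ in
theorem mem_Q_iff (c : integralClosure R L) : c ∈ Q ↔ rho (Ks := Ks) c ∈ Ps := by
  rw [hQ]
  constructor
  · rintro ⟨x, hx, hxc⟩
    have : x = rho c := Subtype.ext hxc
    rwa [← this]
  · intro h
    exact ⟨rho c, h, rfl⟩

include hQ in
theorem PIdeal_isPrime : (PIdeal Ps Q O).IsPrime := by
  refine ⟨?_, ?_⟩
  · intro htop
    have h1 : (1 : integralClosure O Ks) ∈ PIdeal Ps Q O := by rw [htop]; trivial
    obtain ⟨s, hs, p, hp, hps⟩ := h1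
    apply hs
    rw [mem_Q_iff Ps Q hQ]
    have : p = rho s := Subtype.ext (by rw [hps]; simp)
    rwa [← this]
  · intro x y hxy
    obtain ⟨s, hs, p, hp, hps⟩ := hxy
    obtain ⟨t, ht, hxint⟩ := clear_denom Q O (x : Ks) x.2
    obtain ⟨u, hu, hyint⟩ := clear_denom Q O (y : Ks) y.2
    let x₁ : integralClosure R Ks := ⟨_, hxint⟩
    let y₁ : integralClosure R Ks := ⟨_, hyint⟩
    have h1 : x₁ * (y₁ * rho s) ∈ Ps := by
      have : x₁ * (y₁ * rho s) = rho t * rho u * p := by
        apply Subtype.ext
        simp only [Subalgebra.coe_mul, rho_coe, hps, x₁, y₁]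
        ring
      rw [this]
      exact Ps.mul_mem_left _ hp
    rcases hPs.mem_or_mem h1 with h2 | h2
    · left
      exact ⟨t, ht, x₁, h2, rfl⟩
    · rcases hPs.mem_or_mem h2 with h3 | h3
      · right
        exact ⟨u, hu, y₁, h3, rfl⟩
      · exact absurd ((mem_Q_iff Ps Q hQ s).mpr h3) hs

include hQ in
theorem algebraMap_mem_PIdeal_iff (z : O) :
    algebraMap O (integralClosure O Ks) z ∈ PIdeal Ps Q O ↔
      z ∈ @IsLocalRing.maximalIdeal O _ (IsLocalization.AtPrime.isLocalRing O Q) := by
  letI := IsLocalization.AtPrime.isLocalRing O Q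
  obtain ⟨c, t, rfl⟩ := IsLocalization.exists_mk'_eq Q.primeCompl z
  rw [IsLocalization.AtPrime.mk'_mem_maximal_iff O Q]
  have hspec : algebraMap O Ks (IsLocalization.mk' O c t) * algebraMap L Ks ((t : integralClosure R L) : L) =
      algebraMap L Ks (c : L) := by
    have h1 := IsLocalization.mk'_spec O c t
    have h2 := congrArg (algebraMap O L) h1
    rw [map_mul, ← IsScalarTower.algebraMap_apply (integralClosure R L) O L,
      ← IsScalarTower.algebraMap_apply (integralClosure R L) O L] at h2
    have h3 := congrArg (algebraMap L Ks) h2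
    rw [map_mul, ← IsScalarTower.algebraMap_apply O L Ks] at h3
    exact h3
  constructor
  · rintro ⟨s, hs, p, hp, hps⟩
    have h4 : rho (s * c) ∈ Ps := by
      have : rho (Ks := Ks) (s * c) = rho t.1 * p := by
        apply Subtype.ext
        simp only [Subalgebra.coe_mul, rho_coe, hps, map_mul, ← hspec]
        show _ = _ * (_ * algebraMap O Ks _)
        ring
      rw [this]
      exact Ps.mul_mem_left _ hp
    rw [← mem_Q_iff Ps Q hQ] at h4
    rcases hQp.mem_or_mem h4 with h5 | h5
    · exact absurd h5 hs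
    · exact h5
  · intro hc
    refine ⟨t.1, t.2, rho c, (mem_Q_iff Ps Q hQ c).mp hc, ?_⟩
    rw [rho_coe, ← hspec]
    show _ = _ * algebraMap O Ks _
    ring

end

section main

variable {R L Ks : Type u} [CommRing R] [IsDomain R] [Field L] [Field Ks] [Algebra R L]
  [Algebra R Ks] [Algebra L Ks] [IsScalarTower R L Ks] [IsSepClosed Ks]
variable (Ps : Ideal (integralClosure R Ks)) [hPs : Ps.IsPrime]
variable (Q : Ideal (integralClosure R L)) [hQp : Q.IsPrime]
variable (O : Type u) [CommRing O] [IsDomain O] [Algebra (integralClosure R L) O]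
  [IsLocalization.AtPrime O Q]
  [Algebra O L] [IsScalarTower (integralClosure R L) O L] [Algebra O Ks] [IsScalarTower O L Ks]
  [IsFractionRing O L] [IsIntegrallyClosed O]
variable (hQ : ∀ y : integralClosure R L,
  y ∈ Q ↔ ∃ x : integralClosure R Ks, x ∈ Ps ∧ (x : Ks) = algebraMap L Ks (y : L))

theorem sigma_stable (σ : Ks →+* Ks)
    (hσP : ∀ x : integralClosure R Ks, x ∈ Ps →
      ∃ h : σ (x : Ks) ∈ integralClosure R Ks, (⟨σ (x : Ks), h⟩ : integralClosure R Ks) ∈ Ps)
    (hσL : ∀ l : L, σ (algebraMap L Ks l) = algebraMap L Ks l)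
    (x : integralClosure O Ks) (hx : x ∈ PIdeal Ps Q O) :
    ∃ h : σ (x : Ks) ∈ integralClosure O Ks,
      (⟨σ (x : Ks), h⟩ : integralClosure O Ks) ∈ PIdeal Ps Q O := by
  have hσO : ∀ o : O, σ (algebraMap O Ks o) = algebraMap O Ks o := by
    intro o
    rw [IsScalarTower.algebraMap_apply O L Ks, hσL]
  let σO : Ks →ₐ[O] Ks := { σ with commutes' := hσO }
  have hint : IsIntegral O (σ (x : Ks)) := x.2.map σO
  refine ⟨hint, ?_⟩
  obtain ⟨s, hs, p, hp, hps⟩ := hx
  obtain ⟨h', hp'⟩ := hσP p hp
  refine ⟨s, hs, ⟨σ (p : Ks), h'⟩, hp', ?_⟩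
  show σ (p : Ks) = algebraMap L Ks (s : L) * σ (x : Ks)
  rw [hps, map_mul, hσL]

include hQ in
theorem henselian (S : Set (Ks →+* Ks))
    (hSP : ∀ σ ∈ S, ∀ x : integralClosure R Ks, x ∈ Ps →
      ∃ h : σ (x : Ks) ∈ integralClosure R Ks, (⟨σ (x : Ks), h⟩ : integralClosure R Ks) ∈ Ps)
    (hSL : ∀ σ ∈ S, ∀ l : L, σ (algebraMap L Ks l) = algebraMap L Ks l)
    (hfix : ∀ α : Ks, (∀ σ ∈ S, σ α = α) → ∃ l : L, algebraMap L Ks l = α) :
    HenselianLocalRing O := by
  letI hloc : IsLocalRing O := IsLocalization.AtPrime.isLocalRing O Q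
  haveI hP'prime : (PIdeal Ps Q O).IsPrime := PIdeal_isPrime Ps Q O hQ
  have hK1 : ∀ z : O, algebraMap O (integralClosure O Ks) z ∈ PIdeal Ps Q O ↔ z ∈ maximalIdeal O :=
    fun z => algebraMap_mem_PIdeal_iff Ps Q O hQ z
  have hinjOL : Function.Injective (algebraMap O L) := IsFractionRing.injective O L
  have hinjOK : Function.Injective (algebraMap O Ks) := by
    rw [IsScalarTower.algebraMap_eq O L Ks]
    exact (algebraMap L Ks).injective.comp hinjOL
  refine { toIsLocalRing := hloc, is_henselian := ?_ }
  intro f hf a₀ h₁ h₂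
  classical
  -- Step 1: a monic factor of minimal degree vanishing at `a₀` modulo the maximal ideal
  have hex : ∃ n : ℕ, ∃ g : O[X], g.Monic ∧ g ∣ f ∧ g.eval a₀ ∈ maximalIdeal O ∧ g.natDegree = n :=
    ⟨f.natDegree, f, hf, dvd_rfl, h₁, rfl⟩
  obtain ⟨g, hgm, hgf, hga, hgn⟩ := Nat.find_spec hex
  have hmin : ∀ g' : O[X], g'.Monic → g' ∣ f → g'.eval a₀ ∈ maximalIdeal O →
      g.natDegree ≤ g'.natDegree := by
    intro g' h1 h2 h3
    rw [hgn]
    exact Nat.find_min' hex ⟨g', h1, h2, h3, rfl⟩
  obtain ⟨h, rfl⟩ := hgf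
  have hgder : IsUnit (g.derivative.eval a₀) := by
    rw [derivative_mul, eval_add, eval_mul, eval_mul] at h₂
    have h3 : g.eval a₀ * h.derivative.eval a₀ ∈ maximalIdeal O := Ideal.mul_mem_right _ _ hga
    have h4 : IsUnit (g.derivative.eval a₀ * h.eval a₀) := by
      by_contra hnu
      have h5 : g.derivative.eval a₀ * h.eval a₀ ∈ maximalIdeal O :=
        (IsLocalRing.mem_maximalIdeal _).mpr hnu
      exact ((IsLocalRing.mem_maximalIdeal _).mp ((maximalIdeal O).add_mem h5 h3)) h₂
    exact isUnit_of_mul_isUnit_left h4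
  -- Step 2: irreducibility
  have hg1 : g ≠ 1 := by
    rintro rfl
    rw [eval_one] at hga
    exact (Ideal.ne_top_iff_one _).mp (IsLocalRing.maximalIdeal.isMaximal O).ne_top hga
  have hgirr : Irreducible g := by
    rw [hgm.irreducible_iff_natDegree]
    refine ⟨hg1, fun g₁ g₂ hm1 hm2 h12 => ?_⟩
    have hev : g₁.eval a₀ * g₂.eval a₀ ∈ maximalIdeal O := by
      rw [← eval_mul, h12]; exact hga
    have hdeg : g.natDegree = g₁.natDegree + g₂.natDegree := by
      rw [← h12, hm1.natDegree_mul hm2]
    rcases (IsLocalRing.maximalIdeal.isMaximal O).isPrime.mem_or_mem hev with h' | h'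
    · right
      have := hmin g₁ hm1 ⟨g₂ * h, by rw [← mul_assoc, h12]⟩ h'
      omega
    · left
      have := hmin g₂ hm2 ⟨g₁ * h, by rw [← mul_assoc, mul_comm g₂ g₁, h12]⟩ h'
      omega
  have hgLirr : Irreducible (g.map (algebraMap O L)) :=
    (hgm.irreducible_iff_irreducible_map_fraction_map).mp hgirr
  -- Step 3: separable, splits
  have hder0 : g.derivative ≠ 0 := by
    intro h0
    rw [h0, eval_zero] at hgder
    exact not_isUnit_zero hgder
  have hgLsep : (g.map (algebraMap O L)).Separable := by
    rw [separable_iff_derivative_ne_zero hgLirr, derivative_map]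
    exact (Polynomial.map_ne_zero_iff hinjOL).mpr hder0
  have hsplit : ((g.map (algebraMap O L)).map (algebraMap L Ks)).Splits :=
    IsSepClosed.splits_codomain _ hgLsep
  have hmapmap : (g.map (algebraMap O L)).map (algebraMap L Ks) = g.map (algebraMap O Ks) := by
    rw [Polynomial.map_map, ← IsScalarTower.algebraMap_eq]
  rw [hmapmap] at hsplit
  have hgKm : (g.map (algebraMap O Ks)).Monic := hgm.map _
  have hevK : ∀ b : O, (g.map (algebraMap O Ks)).eval (algebraMap O Ks b) =
      algebraMap O Ks (g.eval b) := by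
    intro b
    rw [eval_map, eval₂_at_apply]
  -- the polynomial over the integral closure
  have hmapB : g.map (algebraMap O Ks) =
      (g.map (algebraMap O (integralClosure O Ks))).map (integralClosure O Ks).val.toRingHom := by
    rw [Polynomial.map_map]
    rfl
  have hcoe : ∀ x : integralClosure O Ks,
      (((g.map (algebraMap O (integralClosure O Ks))).eval x : integralClosure O Ks) : Ks) =
        (g.map (algebraMap O Ks)).eval (x : Ks) := by
    intro x
    show (integralClosure O Ks).val.toRingHom
      ((g.map (algebraMap O (integralClosure O Ks))).eval x) = _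
    simp only [eval_map]
    rw [Polynomial.hom_eval₂]
    rfl
  have hroot_int : ∀ α : Ks, (g.map (algebraMap O Ks)).eval α = 0 → IsIntegral O α :=
    fun α hα => ⟨g, hgm, by rw [← eval_map]; exact hα⟩
  -- Step 5: uniqueness of the root congruent to `a₀`
  have huniq : ∀ α α' : integralClosure O Ks,
      (g.map (algebraMap O (integralClosure O Ks))).eval α = 0 →
      (g.map (algebraMap O (integralClosure O Ks))).eval α' = 0 →
      (algebraMap O (integralClosure O Ks) a₀ - α) ∈ PIdeal Ps Q O →
      (algebraMap O (integralClosure O Ks) a₀ - α') ∈ PIdeal Ps Q O → α = α' := by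
    intro α α' h0 h0' hα hα'
    obtain ⟨k, hk⟩ := (g.map (algebraMap O (integralClosure O Ks))).binomExpansion α (α' - α)
    rw [add_sub_cancel, h0', h0, zero_add] at hk
    have hfac : (α' - α) * ((g.map (algebraMap O (integralClosure O Ks))).derivative.eval α +
        k * (α' - α)) = 0 := by
      linear_combination -hk
    rcases mul_eq_zero.mp hfac with h | h
    · exact (sub_eq_zero.mp h).symm
    · exfalso
      have h1 : α' - α ∈ PIdeal Ps Q O := by
        have : α' - α = (algebraMap O (integralClosure O Ks) a₀ - α) -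
            (algebraMap O (integralClosure O Ks) a₀ - α') := by ring
        rw [this]
        exact (PIdeal Ps Q O).sub_mem hα hα'
      obtain ⟨z, hz⟩ := (g.map (algebraMap O (integralClosure O Ks))).derivative.evalSubFactor
        (algebraMap O (integralClosure O Ks) a₀) α
      have h2 : (g.map (algebraMap O (integralClosure O Ks))).derivative.eval
          (algebraMap O (integralClosure O Ks) a₀) ∈ PIdeal Ps Q O := by
        have : (g.map (algebraMap O (integralClosure O Ks))).derivative.eval
            (algebraMap O (integralClosure O Ks) a₀) =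
            ((g.map (algebraMap O (integralClosure O Ks))).derivative.eval α + k * (α' - α)) -
              k * (α' - α) + z * (algebraMap O (integralClosure O Ks) a₀ - α) := by
          linear_combination hz
        rw [this, h, zero_sub]
        exact (PIdeal Ps Q O).add_mem ((PIdeal Ps Q O).neg_mem ((PIdeal Ps Q O).mul_mem_left _ h1))
          ((PIdeal Ps Q O).mul_mem_left _ hα)
      have h3 : (g.map (algebraMap O (integralClosure O Ks))).derivative.eval
          (algebraMap O (integralClosure O Ks) a₀) =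
          algebraMap O (integralClosure O Ks) (g.derivative.eval a₀) := by
        rw [derivative_map, eval_map, eval₂_at_apply]
      rw [h3, hK1] at h2
      exact ((IsLocalRing.mem_maximalIdeal _).mp h2) hgder
  -- Step 4: a root congruent to `a₀`
  have hprod : (g.map (algebraMap O Ks)).eval (algebraMap O Ks a₀) =
      ((g.map (algebraMap O Ks)).roots.map (fun α => algebraMap O Ks a₀ - α)).prod :=
    hsplit.eval_eq_prod_roots_of_monic hgKm _
  have hmemroots : ∀ α ∈ (g.map (algebraMap O Ks)).roots, (g.map (algebraMap O Ks)).eval α = 0 :=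
    fun α hα => (mem_roots hgKm.ne_zero).mp hα
  let lift : {α // α ∈ (g.map (algebraMap O Ks)).roots} → integralClosure O Ks := fun α =>
    ⟨algebraMap O Ks a₀ - α.1, sub_mem ((integralClosure O Ks).algebraMap_mem a₀)
      (hroot_int α.1 (hmemroots α.1 α.2))⟩
  have hm'prod : ((((g.map (algebraMap O Ks)).roots.attach.map lift).prod : integralClosure O Ks) : Ks) =
      (g.map (algebraMap O Ks)).eval (algebraMap O Ks a₀) := by
    rw [hprod]
    have e0 : ((((g.map (algebraMap O Ks)).roots.attach.map lift).prod : integralClosure O Ks) : Ks) =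
        (((g.map (algebraMap O Ks)).roots.attach.map lift).map (integralClosure O Ks).val).prod :=
      map_multiset_prod (integralClosure O Ks).val _
    rw [e0, Multiset.map_map]
    conv_rhs => rw [← Multiset.attach_map_val (g.map (algebraMap O Ks)).roots, Multiset.map_map]
    rfl
  have hm'mem : ((g.map (algebraMap O Ks)).roots.attach.map lift).prod ∈ PIdeal Ps Q O := by
    have : ((g.map (algebraMap O Ks)).roots.attach.map lift).prod =
        algebraMap O (integralClosure O Ks) (g.eval a₀) :=
      Subtype.ext (by rw [hm'prod, hevK]; rfl)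
    rw [this, hK1]
    exact hga
  obtain ⟨b, hbm, hbP⟩ := (hP'prime.multiset_prod_mem_iff_exists_mem _).mp hm'mem
  obtain ⟨⟨α, hα⟩, -, rfl⟩ := Multiset.mem_map.mp hbm
  have hαroot : (g.map (algebraMap O Ks)).eval α = 0 := hmemroots α hα
  let αB : integralClosure O Ks := ⟨α, hroot_int α hαroot⟩
  have hαB0 : (g.map (algebraMap O (integralClosure O Ks))).eval αB = 0 :=
    Subtype.ext (by rw [hcoe]; exact hαroot)
  have hαBP : algebraMap O (integralClosure O Ks) a₀ - αB ∈ PIdeal Ps Q O := hbP
  -- Step 6: invariance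
  have hαfix : ∀ σ ∈ S, σ α = α := by
    intro σ hσ
    have hσO : ∀ o : O, σ (algebraMap O Ks o) = algebraMap O Ks o := by
      intro o
      rw [IsScalarTower.algebraMap_apply O L Ks, hSL σ hσ]
    have hσroot : (g.map (algebraMap O Ks)).eval (σ α) = 0 := by
      have hcomp : σ.comp (algebraMap O Ks) = algebraMap O Ks := RingHom.ext hσO
      rw [eval_map, ← hcomp, ← Polynomial.hom_eval₂, ← eval_map, hαroot, map_zero]
    let σαB : integralClosure O Ks := ⟨σ α, hroot_int _ hσroot⟩
    have h0 : (g.map (algebraMap O (integralClosure O Ks))).eval σαB = 0 :=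
      Subtype.ext (by rw [hcoe]; exact hσroot)
    obtain ⟨hmem, hP⟩ := sigma_stable Ps Q O σ (hSP σ hσ) (hSL σ hσ) _ hαBP
    have hP' : algebraMap O (integralClosure O Ks) a₀ - σαB ∈ PIdeal Ps Q O := by
      have : (⟨σ ((algebraMap O (integralClosure O Ks) a₀ - αB : integralClosure O Ks) : Ks), hmem⟩ :
          integralClosure O Ks) = algebraMap O (integralClosure O Ks) a₀ - σαB := by
        apply Subtype.ext
        show σ (algebraMap O Ks a₀ - α) = algebraMap O Ks a₀ - σ α
        rw [map_sub, hσO]
      rw [← this]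
      exact hP
    have := huniq αB σαB hαB0 h0 hαBP hP'
    exact (congrArg Subtype.val this).symm
  obtain ⟨l, hl⟩ := hfix α hαfix
  have hlint : IsIntegral O l := by
    rw [← isIntegral_algebraMap_iff (algebraMap L Ks).injective (R := O), hl]
    exact hroot_int α hαroot
  obtain ⟨a, ha⟩ := IsIntegrallyClosed.algebraMap_eq_of_integral hlint
  have haα : algebraMap O Ks a = α := by
    rw [IsScalarTower.algebraMap_apply O L Ks, ha, hl]
  refine ⟨a, ?_, ?_⟩
  · show (g * h).eval a = 0
    rw [eval_mul]
    have : g.eval a = 0 := by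
      apply hinjOK
      rw [← hevK, haα, hαroot, map_zero]
    rw [this, zero_mul]
  · rw [← hK1]
    have : algebraMap O (integralClosure O Ks) (a - a₀) =
        -(algebraMap O (integralClosure O Ks) a₀ - αB) := by
      apply Subtype.ext
      show algebraMap O Ks (a - a₀) = -(algebraMap O Ks a₀ - α)
      rw [map_sub, haα]
      ring
    rw [this]
    exact (PIdeal Ps Q O).neg_mem hαBP

end main

end Groth.Agent.H78.DecompHensel
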