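import Mathlib
import Groth.Prelude.Def_MoreMor
import Groth.Agent.H49.DeformFlat
import Groth.Agent.H49.OpenImmFibre
import Groth.Agent.H49.SmoothFibreMap

/-!
# Deforming properties along thickenings of the base (finitely presented case)
-/

set_option autoImplicit false
set_option linter.style.haveILetI false
universe u

open AlgebraicGeometry CategoryTheory Limits

namespace Groth.Agent.H78.DeformFp

variable {X X' Y Y' S S' : Scheme.{u}}

theorem exists_fiber_fac (iY : Y ⟶ Y') (iS : S ⟶ S') (g : Y ⟶ S) (g' : Y' ⟶ S')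
    [IsClosedImmersion iS] (hcY : IsPullback iY g g' iS) (s : S) :
    ∃ aY : g'.fiber (iS s) ⟶ Y, aY ≫ iY = g'.fiberι (iS s) := by
  haveI := Groth.Agent.H49.Deform.isIso_residueFieldMap iS s
  let k : Spec (S'.residueField (iS s)) ⟶ S :=
    Spec.map (inv (iS.residueFieldMap s)) ≫ S.fromSpecResidueField s
  have hk : k ≫ iS = S'.fromSpecResidueField (iS s) := by
    change (Spec.map (inv (iS.residueFieldMap s)) ≫ S.fromSpecResidueField s) ≫ iS = _
    rw [Category.assoc, ← Scheme.Hom.SpecMap_residueFieldMap_fromSpecResidueField,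
      ← Spec.map_comp_assoc, IsIso.hom_inv_id, Spec.map_id, Category.id_comp]
  have hfacY : g'.fiberι (iS s) ≫ g' = (g'.fiberToSpecResidueField (iS s) ≫ k) ≫ iS := by
    rw [Category.assoc, hk]; exact g'.fiber_fac (iS s)
  exact ⟨hcY.lift _ _ hfacY, hcY.lift_fst _ _ hfacY⟩

theorem prop_snd_of_prop (P : MorphismProperty Scheme.{u}) [P.IsStableUnderBaseChange]
    {iX : X ⟶ X'} {iY : Y ⟶ Y'} {f : X ⟶ Y} {f' : X' ⟶ Y'} (hsq : IsPullback iX f f' iY)
    {T : Scheme.{u}} (aY : T ⟶ Y) (hf : P f) : P (pullback.snd f' (aY ≫ iY)) := by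
  have h1 : P (pullback.snd f' iY) := by
    have := hsq.isoPullback_hom_snd
    rw [← this] at hf
    exact (P.cancel_left_of_respectsIso _ _).mp hf
  rw [← pullbackLeftPullbackSndIso_inv_snd_snd f' iY aY, P.cancel_left_of_respectsIso]
  exact P.pullback_snd _ _ h1

theorem deform_fp (P : MorphismProperty Scheme.{u}) [P.IsStableUnderBaseChange]
    (hfib : ∀ {A B C : Scheme.{u}} (φ : A ⟶ B) (ψ : B ⟶ C) [LocallyOfFinitePresentation φ]
      [Flat (φ ≫ ψ)], (∀ s : C, P (pullback.snd φ (ψ.fiberι s))) → P φ)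
    (iX : X ⟶ X') (iY : Y ⟶ Y') (iS : S ⟶ S')
    (f : X ⟶ Y) (f' : X' ⟶ Y') (g : Y ⟶ S) (g' : Y' ⟶ S')
    (hS : MoreMor.IsThickening iS) (hcX : IsPullback iX (f ≫ g) (f' ≫ g') iS)
    (hcY : IsPullback iY g g' iS)
    (w : iX ≫ f' = f ≫ iY) [Flat (f' ≫ g')] [LocallyOfFinitePresentation (f' ≫ g')]
    [LocallyOfFiniteType g'] :
    P f ↔ P f' := by
  haveI : IsClosedImmersion iS := hS.1
  haveI : Surjective iS := hS.2
  have hsq : IsPullback iX f f' iY :=
    (IsPullback.of_right hcX.flip w.symm hcY.flip).flip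
  haveI : LocallyOfFinitePresentation f' :=
    Groth.Agent.H49.SmoothFibreMap.lfp_of_comp_of_lft f' g' inferInstance inferInstance
  constructor
  · intro hf
    apply hfib f' g'
    intro s'
    obtain ⟨s, rfl⟩ := iS.surjective s'
    obtain ⟨aY, haY⟩ := exists_fiber_fac iY iS g g' hcY s
    rw [← haY]
    exact prop_snd_of_prop P hsq aY hf
  · intro hf'
    exact MorphismProperty.of_isPullback hsq hf'

end Groth.Agent.H78.DeformFp
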