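import Mathlib
import Groth.Agent.H93.NilPull

/-!
# Finite presentation lifts along a nilpotent thickening of the base, for flat families (helper78)
-/

set_option autoImplicit false
set_option linter.style.haveILetI false
universe u

open TensorProduct

namespace Groth.Agent.H78.NilTowerFP

/-- If `P/K` is flat over `A`, then `K ∩ I P = I K` (only `≤` is needed). -/
theorem mem_smul_of_flat_quot {A P C : Type u} [CommRing A] [AddCommGroup P] [Module A P]
    [AddCommGroup C] [Module A C] [Module.Flat A C] (fA : P →ₗ[A] C) (hfA : Function.Surjective fA)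
    (I : Ideal A) (z : P) (hzK : z ∈ LinearMap.ker fA) (hzI : z ∈ I • (⊤ : Submodule A P)) :
    (⟨z, hzK⟩ : LinearMap.ker fA) ∈ I • (⊤ : Submodule A (LinearMap.ker fA)) := by
  have hinj := LinearMap.lTensor_injective_of_exact_of_flat fA hfA (LinearMap.ker fA).subtype
    (LinearMap.ker fA).injective_subtype (LinearMap.exact_subtype_ker_map fA) (A ⧸ I)
  have h1 : (1 : A ⧸ I) ⊗ₜ[A] z = (0 : (A ⧸ I) ⊗[A] P) := by
    apply (TensorProduct.quotTensorEquivQuotSMul P I).injective
    rw [TensorProduct.quotTensorEquivQuotSMul_mk_one_tmul, map_zero, Submodule.Quotient.mk_eq_zero]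
    exact hzI
  have h2 : (1 : A ⧸ I) ⊗ₜ[A] (⟨z, hzK⟩ : LinearMap.ker fA) =
      (0 : (A ⧸ I) ⊗[A] (LinearMap.ker fA)) := by
    apply hinj
    rw [LinearMap.lTensor_tmul, map_zero]
    exact h1
  have := congrArg (TensorProduct.quotTensorEquivQuotSMul (LinearMap.ker fA) I) h2
  rw [TensorProduct.quotTensorEquivQuotSMul_mk_one_tmul, map_zero,
    Submodule.Quotient.mk_eq_zero] at this
  exact this

section tower

variable {A' B' C' B C : Type u} [CommRing A'] [CommRing B'] [CommRing C'] [CommRing B] [CommRing C]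
  (a : A' →+* B') (ψ : B' →+* C') (β : B' →+* B) (γ : C' →+* C) (φ : B →+* C)

theorem ring_fp (I : Ideal A') (hI : IsNilpotent I) (hβ : Function.Surjective β)
    (hγ : Function.Surjective γ)
    (hkβ : RingHom.ker β = I.map a) (hkγ : RingHom.ker γ = I.map (ψ.comp a))
    (hcomm : γ.comp ψ = φ.comp β) (hflatA : (ψ.comp a).Flat) (hφ : φ.FinitePresentation) :
    ψ.FinitePresentation := by
  classical
  have hkγ' : RingHom.ker γ = (RingHom.ker β).map ψ := by rw [hkγ, hkβ, Ideal.map_map]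
  have hnilβ : IsNilpotent (RingHom.ker β) := by
    rw [hkβ]
    obtain ⟨m, hm⟩ := hI
    refine ⟨m, ?_⟩
    rw [← Ideal.map_pow, hm, Ideal.zero_eq_bot, Ideal.map_bot]
    rfl
  have hft : ψ.FiniteType :=
    Groth.Agent.H93.NilPull.ring_ft ψ β γ φ hcomm hkγ' hnilβ hβ hγ (RingHom.FiniteType.of_finitePresentation hφ)
  letI : Algebra A' B' := a.toAlgebra
  letI : Algebra B' C' := ψ.toAlgebra
  letI : Algebra A' C' := (ψ.comp a).toAlgebra
  haveI : IsScalarTower A' B' C' := IsScalarTower.of_algebraMap_eq (fun _ => rfl)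
  haveI : Module.Flat A' C' := hflatA
  letI : Algebra B C := φ.toAlgebra
  haveI : Algebra.FinitePresentation B C := hφ
  haveI : Algebra.FiniteType B' C' := hft
  obtain ⟨n, π, hπ⟩ := Algebra.FiniteType.iff_quotient_mvPolynomial''.mp hft
  obtain ⟨μ, hμdef⟩ : ∃ μ : MvPolynomial (Fin n) B' →+* MvPolynomial (Fin n) B,
      μ = MvPolynomial.map β := ⟨_, rfl⟩
  have hμ : Function.Surjective μ := by rw [hμdef]; exact MvPolynomial.map_surjective β hβ
  obtain ⟨π₀, hπ₀def⟩ : ∃ π₀ : MvPolynomial (Fin n) B →ₐ[B] C,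
      π₀ = MvPolynomial.aeval (fun i => γ (π (MvPolynomial.X i))) := ⟨_, rfl⟩
  have hsq : ∀ p, π₀ (μ p) = γ (π p) := by
    have : (π₀ : MvPolynomial (Fin n) B →+* C).comp μ =
        γ.comp (π : MvPolynomial (Fin n) B' →+* C') := by
      apply MvPolynomial.ringHom_ext
      · intro b
        have h1 : π (MvPolynomial.C b) = ψ b := by rw [MvPolynomial.algHom_C]; rfl
        have h2 : π₀ (MvPolynomial.C (β b)) = φ (β b) := by rw [MvPolynomial.algHom_C]; rfl
        show π₀ (μ (MvPolynomial.C b)) = γ (π (MvPolynomial.C b))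
        rw [hμdef, MvPolynomial.map_C, h1, h2]
        exact (congrArg (fun h => h b) hcomm).symm
      · intro i
        show π₀ (μ (MvPolynomial.X i)) = γ (π (MvPolynomial.X i))
        rw [hμdef, MvPolynomial.map_X, hπ₀def]
        exact MvPolynomial.aeval_X _ i
    intro p
    exact congrArg (fun h => h p) this
  have hπ₀ : Function.Surjective π₀ := by
    intro c
    obtain ⟨c', rfl⟩ := hγ c
    obtain ⟨p, rfl⟩ := hπ c'
    exact ⟨μ p, hsq p⟩
  have hK₀ : (RingHom.ker π₀.toRingHom).FG :=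
    Algebra.FinitePresentation.ker_fG_of_surjective π₀ hπ₀
  obtain ⟨s, hs⟩ := hK₀
  obtain ⟨K, hK⟩ : ∃ K : Ideal (MvPolynomial (Fin n) B'), K = RingHom.ker π.toRingHom := ⟨_, rfl⟩
  obtain ⟨N, hN⟩ : ∃ N : Ideal (MvPolynomial (Fin n) B'), N = RingHom.ker μ := ⟨_, rfl⟩
  have hmemK : ∀ x, x ∈ K ↔ π x = 0 := fun x => by rw [hK]; rfl
  have hNmap : N = I.map (algebraMap A' (MvPolynomial (Fin n) B')) := by
    rw [hN, hμdef, MvPolynomial.ker_map, hkβ, Ideal.map_map]
    rfl
  have hnilN : IsNilpotent N := by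
    rw [hNmap]
    obtain ⟨m, hm⟩ := hI
    refine ⟨m, ?_⟩
    rw [← Ideal.map_pow, hm, Ideal.zero_eq_bot, Ideal.map_bot]
    rfl
  have h3 : (RingHom.ker β).map ψ = N.map (π : MvPolynomial (Fin n) B' →+* C') := by
    rw [hN, hμdef, MvPolynomial.ker_map, Ideal.map_map]
    congr 1
    ext b
    show ψ b = π (MvPolynomial.C b)
    rw [MvPolynomial.algHom_C]
    rfl
  have hlift : ∀ q ∈ (s : Set (MvPolynomial (Fin n) B)), ∃ k, k ∈ K ∧ μ k = q := by
    intro q hq
    have hq0 : π₀ q = 0 := by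
      have : q ∈ RingHom.ker π₀.toRingHom := by rw [← hs]; exact Ideal.subset_span hq
      exact this
    obtain ⟨p, rfl⟩ := hμ q
    have h1 : γ (π p) = 0 := by rw [← hsq, hq0]
    have h2 : π p ∈ N.map (π : MvPolynomial (Fin n) B' →+* C') := by
      rw [← h3, ← hkγ']; exact h1
    obtain ⟨p', hp'N, hp'⟩ :=
      (Ideal.mem_map_iff_of_surjective (π : MvPolynomial (Fin n) B' →+* C') hπ).mp h2
    have hp'' : π p' = π p := hp'
    refine ⟨p - p', ?_, ?_⟩
    · rw [hmemK, map_sub, hp'', sub_self]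
    · have : μ p' = 0 := by rw [hN] at hp'N; exact hp'N
      rw [map_sub, this, sub_zero]
  choose! kk hkK hkμ using hlift
  obtain ⟨K₁, hK₁⟩ : ∃ K₁ : Ideal (MvPolynomial (Fin n) B'),
      K₁ = Ideal.span (kk '' (s : Set (MvPolynomial (Fin n) B))) := ⟨_, rfl⟩
  have hK₁K : K₁ ≤ K := by
    rw [hK₁, Ideal.span_le]
    rintro _ ⟨q, hq, rfl⟩
    exact hkK q hq
  -- the flatness input
  have hflatfact : ∀ z ∈ K, z ∈ N → z ∈ N * K := by
    intro z hzK hzN
    let fA : MvPolynomial (Fin n) B' →ₗ[A'] C' := π.toLinearMap.restrictScalars A'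
    have hfA : Function.Surjective fA := hπ
    have hzK' : z ∈ LinearMap.ker fA := (hmemK z).mp hzK
    have hzI : z ∈ I • (⊤ : Submodule A' (MvPolynomial (Fin n) B')) := by
      rw [Ideal.smul_top_eq_map, Submodule.restrictScalars_mem, ← hNmap]; exact hzN
    have h3 := mem_smul_of_flat_quot fA hfA I z hzK' hzI
    have h4 : ∀ w ∈ I • (⊤ : Submodule A' (LinearMap.ker fA)),
        (w : MvPolynomial (Fin n) B') ∈ N * K := by
      intro w hw
      refine Submodule.smul_induction_on hw ?_ ?_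
      · intro i hi k _
        show ((i • k : LinearMap.ker fA) : MvPolynomial (Fin n) B') ∈ N * K
        rw [Submodule.coe_smul, Algebra.smul_def]
        refine Ideal.mul_mem_mul ?_ ((hmemK _).mpr k.2)
        rw [hNmap]; exact Ideal.mem_map_of_mem _ hi
      · intro x y hx hy
        rw [Submodule.coe_add]; exact Ideal.add_mem _ hx hy
    exact h4 _ h3
  have hmap : Ideal.span (s : Set (MvPolynomial (Fin n) B)) = K₁.map μ := by
    rw [hK₁, Ideal.map_span, ← Set.image_comp]
    congr 1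
    ext q
    constructor
    · intro hq; exact ⟨q, hq, hkμ q hq⟩
    · rintro ⟨q', hq', rfl⟩
      rw [Function.comp_apply, hkμ q' hq']; exact hq'
  have hstep : K ≤ K₁ ⊔ N * K := by
    intro x hx
    have hμx : μ x ∈ Ideal.span (s : Set (MvPolynomial (Fin n) B)) := by
      rw [hs]
      show π₀ (μ x) = 0
      rw [hsq, (hmemK x).mp hx, map_zero]
    rw [hmap] at hμx
    obtain ⟨y, hyK₁, hy⟩ := (Ideal.mem_map_iff_of_surjective μ hμ).mp hμx
    have hz : x - y ∈ N := by rw [hN, RingHom.mem_ker, map_sub, hy, sub_self]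
    have hzK : x - y ∈ K := K.sub_mem hx (hK₁K hyK₁)
    have h5 := hflatfact _ hzK hz
    have hxy : x = y + (x - y) := by ring
    rw [hxy]
    exact Ideal.add_mem _ (Ideal.mem_sup_left hyK₁) (Ideal.mem_sup_right h5)
  have hpow : ∀ j : ℕ, K ≤ K₁ ⊔ N ^ j * K := by
    intro j
    induction j with
    | zero => rw [pow_zero, one_mul]; exact le_sup_right
    | succ j ih =>
      refine hstep.trans (sup_le le_sup_left ?_)
      calc N * K ≤ N * (K₁ ⊔ N ^ j * K) := Ideal.mul_mono_right ih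
        _ = N * K₁ ⊔ N * (N ^ j * K) := Ideal.mul_sup _ _ _
        _ ≤ K₁ ⊔ N ^ (j + 1) * K :=
          sup_le_sup Ideal.mul_le_right (by rw [← mul_assoc, ← pow_succ'])
  obtain ⟨m, hm⟩ := hnilN
  have hKK₁ : K = K₁ := by
    refine le_antisymm ?_ hK₁K
    have := hpow m
    rwa [hm, Ideal.zero_eq_bot, Ideal.bot_mul, sup_bot_eq] at this
  have hKfg : (RingHom.ker π.toRingHom).FG := by
    rw [← hK, hKK₁, hK₁]
    exact ⟨s.image kk, by rw [Finset.coe_image]⟩
  exact Algebra.FinitePresentation.of_surjective hπ hKfg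

end tower

end Groth.Agent.H78.NilTowerFP
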