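import Mathlib
import Groth.Agent.H30.NilFlat2
import Groth.Agent.H93.NilPull

/-!
# Ring lemmas for towers over a nilpotent thickening (helper78)

`A' → B' → C'` with `C'` flat over `A'`, `I ⊆ A'` nilpotent.  If `C'/IC'` is flat (resp. of finite
presentation) over `B'/IB'`, then `C'` is flat (resp. of finite presentation) over `B'`.
-/

set_option autoImplicit false
set_option linter.style.haveILetI false
universe u

open TensorProduct

namespace Groth.Agent.H78.NilTowerRing

/-- Nilpotent local criterion with the quotient presented by a surjection of modules. -/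
theorem flat_of_nilpotent_quot {R : Type u} [CommRing R] {M : Type u} [AddCommGroup M] [Module R M]
    (J : Ideal R) (hJ : IsNilpotent J)
    (N : Type u) [AddCommGroup N] [Module R N] [Module (R ⧸ J) N] [IsScalarTower R (R ⧸ J) N]
    [Module.Flat (R ⧸ J) N] (p : M →ₗ[R] N) (hp : Function.Surjective p)
    (hkp : LinearMap.ker p = J • (⊤ : Submodule R M))
    (hinj : Function.Injective (LinearMap.rTensor M J.subtype)) : Module.Flat R M := by
  refine Groth.Agent.H30.NilFlat.flat_of_nilpotent J hJ ?_ hinj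
  let e₁ : ((R ⧸ J) ⊗[R] M) ≃ₗ[R] M ⧸ (J • (⊤ : Submodule R M)) :=
    TensorProduct.quotTensorEquivQuotSMul M J
  let e₂ : (M ⧸ (J • (⊤ : Submodule R M))) ≃ₗ[R] N :=
    (Submodule.quotEquivOfEq _ _ hkp.symm).trans (p.quotKerEquivOfSurjective hp)
  have hs : Function.Surjective (algebraMap R (R ⧸ J)) := Ideal.Quotient.mk_surjective
  let e : ((R ⧸ J) ⊗[R] M) ≃ₗ[R ⧸ J] N := LinearEquiv.extendScalarsOfSurjective hs (e₁.trans e₂)
  exact Module.Flat.of_linearEquiv e

theorem rTensor_injective_of_flat_base {A B C : Type u} [CommRing A] [CommRing B] [CommRing C]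
    [Algebra A B] [Algebra B C] [Algebra A C] [IsScalarTower A B C] [Module.Flat A C]
    (I : Ideal A) :
    Function.Injective (LinearMap.rTensor C (I.map (algebraMap A B)).subtype) := by
  classical
  obtain ⟨J, hJ⟩ : ∃ J : Ideal B, J = I.map (algebraMap A B) := ⟨_, rfl⟩
  rw [← hJ]
  have hmem : ∀ i : I, algebraMap A B i ∈ J := fun i => by
    rw [hJ]; exact Ideal.mem_map_of_mem _ i.2
  let ιlin : I →ₗ[A] J :=
    { toFun := fun i => ⟨algebraMap A B i, hmem i⟩
      map_add' := fun x y => Subtype.ext (by simp)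
      map_smul' := fun r x => Subtype.ext (by simp [Algebra.smul_def]) }
  let Φ : I ⊗[A] C →ₗ[A] J ⊗[B] C :=
    (TensorProduct.mapOfCompatibleSMul B A A J C) ∘ₗ (LinearMap.rTensor C ιlin)
  have hΦ : ∀ (i : I) (c : C), Φ (i ⊗ₜ c) = (ιlin i) ⊗ₜ[B] c := fun i c => by
    simp [Φ]
  have hsurj : ∀ x : J ⊗[B] C, ∃ y, Φ y = x := by
    intro x
    induction x using TensorProduct.induction_on with
    | zero => exact ⟨0, map_zero _⟩
    | add x y hx hy =>
      obtain ⟨x', rfl⟩ := hx
      obtain ⟨y', rfl⟩ := hy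
      exact ⟨x' + y', map_add _ _ _⟩
    | tmul j c =>
      obtain ⟨j, hj⟩ := j
      have hj' : j ∈ Submodule.span B ((algebraMap A B) '' (I : Set A)) := by
        rw [hJ] at hj; exact hj
      have key : ∀ (j : B) (hj' : j ∈ Submodule.span B ((algebraMap A B) '' (I : Set A)))
          (hj : j ∈ J) (c : C), ∃ y, Φ y = (⟨j, hj⟩ : J) ⊗ₜ[B] c := by
        intro j hj'
        refine Submodule.span_induction
          (p := fun j _ => ∀ (hj : j ∈ J) (c : C), ∃ y, Φ y = (⟨j, hj⟩ : J) ⊗ₜ[B] c)
          ?_ ?_ ?_ ?_ hj'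
        · rintro _ ⟨i, hi, rfl⟩ hj c
          exact ⟨(⟨i, hi⟩ : I) ⊗ₜ c, hΦ _ _⟩
        · intro hj c
          refine ⟨0, ?_⟩
          show Φ 0 = (0 : J) ⊗ₜ[B] c
          rw [map_zero, TensorProduct.zero_tmul]
        · intro x y hx hy ihx ihy hxy c
          have hxJ : x ∈ J := by rw [hJ]; exact hx
          have hyJ : y ∈ J := by rw [hJ]; exact hy
          obtain ⟨x', hx'⟩ := ihx hxJ c
          obtain ⟨y', hy'⟩ := ihy hyJ c
          refine ⟨x' + y', ?_⟩
          rw [map_add, hx', hy', ← TensorProduct.add_tmul]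
          rfl
        · intro b x hx ih hbx c
          have hxJ : x ∈ J := by rw [hJ]; exact hx
          obtain ⟨y, hy⟩ := ih hxJ (b • c)
          refine ⟨y, ?_⟩
          rw [hy, ← TensorProduct.smul_tmul]
          rfl
      exact key j hj' hj c
  have hF2 : Function.Injective
      ((TensorProduct.lid A C).toLinearMap ∘ₗ (LinearMap.rTensor C I.subtype)) :=
    (TensorProduct.lid A C).injective.comp
      (Module.Flat.rTensor_preserves_injective_linearMap _ I.injective_subtype)
  have hcomp : ∀ y : I ⊗[A] C,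
      (TensorProduct.lid B C) (LinearMap.rTensor C J.subtype (Φ y)) =
        (TensorProduct.lid A C) (LinearMap.rTensor C I.subtype y) := by
    intro y
    induction y using TensorProduct.induction_on with
    | zero => simp
    | add x y hx hy => simp only [map_add, hx, hy]
    | tmul i c =>
      rw [hΦ]
      simp [ιlin]
  rw [injective_iff_map_eq_zero]
  intro x hx
  obtain ⟨y, rfl⟩ := hsurj x
  have h1 := hcomp y
  rw [hx, map_zero] at h1
  have hy : y = 0 := by
    apply hF2
    rw [map_zero, LinearMap.comp_apply]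
    exact h1.symm
  rw [hy, map_zero]

section tower

variable {A' B' C' B C : Type u} [CommRing A'] [CommRing B'] [CommRing C'] [CommRing B] [CommRing C]
  (a : A' →+* B') (ψ : B' →+* C') (β : B' →+* B) (γ : C' →+* C) (φ : B →+* C)

theorem ring_flat (I : Ideal A') (hI : IsNilpotent I) (hβ : Function.Surjective β)
    (hγ : Function.Surjective γ)
    (hkβ : RingHom.ker β = I.map a) (hkγ : RingHom.ker γ = I.map (ψ.comp a))
    (hcomm : γ.comp ψ = φ.comp β) (hflatA : (ψ.comp a).Flat) (hφ : φ.Flat) : ψ.Flat := by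
  letI : Algebra A' B' := a.toAlgebra
  letI : Algebra B' C' := ψ.toAlgebra
  letI : Algebra A' C' := (ψ.comp a).toAlgebra
  haveI : IsScalarTower A' B' C' := IsScalarTower.of_algebraMap_eq (fun _ => rfl)
  haveI : Module.Flat A' C' := hflatA
  obtain ⟨J, hJdef⟩ : ∃ J : Ideal B', J = I.map (algebraMap A' B') := ⟨_, rfl⟩
  have hJa : J = I.map a := hJdef
  have hJ : IsNilpotent J := by
    obtain ⟨m, hm⟩ := hI
    refine ⟨m, ?_⟩
    rw [hJa, ← Ideal.map_pow, hm, Ideal.zero_eq_bot, Ideal.map_bot]
    rfl
  have hJker : ∀ x ∈ J, β x = 0 := by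
    intro x hx
    have : x ∈ RingHom.ker β := by rw [hkβ, ← hJa]; exact hx
    exact this
  have hJle : ∀ x ∈ J, (φ.comp β) x = 0 := by
    intro x hx
    rw [RingHom.comp_apply, hJker x hx, map_zero]
  letI algBC : Algebra B' C := (φ.comp β).toAlgebra
  letI algQC : Algebra (B' ⧸ J) C := (Ideal.Quotient.lift J (φ.comp β) hJle).toAlgebra
  haveI : IsScalarTower B' (B' ⧸ J) C := IsScalarTower.of_algebraMap_eq (fun x => by
    show (φ.comp β) x = Ideal.Quotient.lift J (φ.comp β) hJle (Ideal.Quotient.mk J x)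
    rw [Ideal.Quotient.lift_mk])
  haveI : Module.Flat (B' ⧸ J) C := by
    have h1 : (Ideal.Quotient.lift J β hJker).Flat := by
      apply RingHom.Flat.of_bijective
      constructor
      · rw [injective_iff_map_eq_zero]
        intro x hx
        obtain ⟨x, rfl⟩ := Ideal.Quotient.mk_surjective x
        rw [Ideal.Quotient.lift_mk] at hx
        rw [Ideal.Quotient.eq_zero_iff_mem, hJa, ← hkβ]
        exact hx
      · exact Ideal.Quotient.lift_surjective_of_surjective J _ hβ
    have e : Ideal.Quotient.lift J (φ.comp β) hJle = φ.comp (Ideal.Quotient.lift J β hJker) := by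
      apply Ideal.Quotient.ringHom_ext
      ext x
      simp
    have h2 : (Ideal.Quotient.lift J (φ.comp β) hJle).Flat := by
      rw [e]
      exact RingHom.Flat.comp h1 hφ
    exact h2
  let p : C' →ₗ[B'] C :=
    { toFun := γ
      map_add' := map_add γ
      map_smul' := fun b c => by
        show γ (ψ b * c) = (φ.comp β) b * γ c
        rw [map_mul, ← hcomm]
        rfl }
  have hkp : LinearMap.ker p = J • (⊤ : Submodule B' C') := by
    rw [Ideal.smul_top_eq_map]
    ext x
    rw [Submodule.restrictScalars_mem, LinearMap.mem_ker]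
    show γ x = 0 ↔ x ∈ Ideal.map ψ J
    rw [hJa, Ideal.map_map, ← hkγ, RingHom.mem_ker]
  have hinj : Function.Injective (LinearMap.rTensor C' J.subtype) := by
    rw [hJdef]
    exact rTensor_injective_of_flat_base (A := A') (B := B') (C := C') I
  exact flat_of_nilpotent_quot J hJ C p hγ hkp hinj

end tower

end Groth.Agent.H78.NilTowerRing
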