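import Mathlib
import Groth.Prelude.Def_MoreMor
import Groth.Agent.H78.NilTowerRing
import Groth.Agent.H78.NilTowerFP
import Groth.Agent.H93.NilPull

/-!
# Towers `X' ⟶ Y' ⟶ S'` over a finite order thickening `S ⟶ S'` with `X'` flat over `S'` (helper78)

Flatness and local finite presentation of `X ⟶ Y` lift to `X' ⟶ Y'`.
-/

set_option autoImplicit false
set_option linter.style.haveILetI false
universe u

open AlgebraicGeometry CategoryTheory Limits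

namespace Groth.Agent.H78.NilTower

variable {X X' Y Y' S S' : Scheme.{u}}

/-- Ring-level data of an affine tower. -/
theorem affine_tower_data (iX : X ⟶ X') (iY : Y ⟶ Y') (iS : S ⟶ S') (f : X ⟶ Y) (f' : X' ⟶ Y')
    (g : Y ⟶ S) (g' : Y' ⟶ S') (h : X ⟶ S) (h' : X' ⟶ S') (hh : h = f ≫ g) (hh' : h' = f' ≫ g')
    [IsAffine X'] [IsAffine Y'] [IsAffine S'] [IsClosedImmersion iS]
    (hcX : IsPullback iX h h' iS) (hcY : IsPullback iY g g' iS) (w : iX ≫ f' = f ≫ iY) :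
    Function.Surjective iY.appTop.hom ∧ Function.Surjective iX.appTop.hom ∧
    RingHom.ker iY.appTop.hom = (RingHom.ker iS.appTop.hom).map g'.appTop.hom ∧
    RingHom.ker iX.appTop.hom =
      (RingHom.ker iS.appTop.hom).map (f'.appTop.hom.comp g'.appTop.hom) ∧
    iX.appTop.hom.comp f'.appTop.hom = f.appTop.hom.comp iY.appTop.hom ∧
    h'.appTop.hom = f'.appTop.hom.comp g'.appTop.hom ∧ IsAffine X ∧ IsAffine Y := by
  subst hh hh'
  have hsq : IsPullback iX f f' iY :=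
    (IsPullback.of_right hcX.flip w.symm hcY.flip).flip
  haveI : IsClosedImmersion iY := Groth.Agent.H93.NilPull.closedImm_top hcY
  haveI : IsClosedImmersion iX := Groth.Agent.H93.NilPull.closedImm_top hcX
  have hh'' : (f' ≫ g').appTop.hom = f'.appTop.hom.comp g'.appTop.hom := by
    rw [Scheme.Hom.comp_appTop]; rfl
  refine ⟨(IsClosedImmersion.isAffine_surjective_of_isAffine (f := iY)).2,
    (IsClosedImmersion.isAffine_surjective_of_isAffine (f := iX)).2,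
    Groth.Agent.H93.NilPull.affine_ker hcY, ?_, Groth.Agent.H93.NilPull.comm_appTop hsq, hh'',
    isAffine_of_isAffineHom iX, isAffine_of_isAffineHom iY⟩
  rw [← hh'']
  exact Groth.Agent.H93.NilPull.affine_ker hcX

theorem flat_aff (iX : X ⟶ X') (iY : Y ⟶ Y') (iS : S ⟶ S') (f : X ⟶ Y) (f' : X' ⟶ Y')
    (g : Y ⟶ S) (g' : Y' ⟶ S') (h : X ⟶ S) (h' : X' ⟶ S') (hh : h = f ≫ g) (hh' : h' = f' ≫ g')
    [IsAffine X'] [IsAffine Y'] [IsAffine S'] [IsClosedImmersion iS]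
    (hcX : IsPullback iX h h' iS) (hcY : IsPullback iY g g' iS) (w : iX ≫ f' = f ≫ iY)
    (hnil : IsNilpotent (RingHom.ker iS.appTop.hom)) [Flat h'] (hf : Flat f) : Flat f' := by
  obtain ⟨hβ, hγ, hkβ, hkγ, hcomm, hh'', hXa, hYa⟩ :=
    affine_tower_data iX iY iS f f' g g' h h' hh hh' hcX hcY w
  have hA : Flat h' := inferInstance
  rw [HasRingHomProperty.iff_of_isAffine (P := @Flat)] at hf hA ⊢
  rw [hh''] at hA
  exact Groth.Agent.H78.NilTowerRing.ring_flat g'.appTop.hom f'.appTop.hom iY.appTop.hom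
    iX.appTop.hom f.appTop.hom _ hnil hβ hγ hkβ hkγ hcomm hA hf

theorem lfp_aff (iX : X ⟶ X') (iY : Y ⟶ Y') (iS : S ⟶ S') (f : X ⟶ Y) (f' : X' ⟶ Y')
    (g : Y ⟶ S) (g' : Y' ⟶ S') (h : X ⟶ S) (h' : X' ⟶ S') (hh : h = f ≫ g) (hh' : h' = f' ≫ g')
    [IsAffine X'] [IsAffine Y'] [IsAffine S'] [IsClosedImmersion iS]
    (hcX : IsPullback iX h h' iS) (hcY : IsPullback iY g g' iS) (w : iX ≫ f' = f ≫ iY)
    (hnil : IsNilpotent (RingHom.ker iS.appTop.hom)) [Flat h']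
    (hf : LocallyOfFinitePresentation f) : LocallyOfFinitePresentation f' := by
  obtain ⟨hβ, hγ, hkβ, hkγ, hcomm, hh'', hXa, hYa⟩ :=
    affine_tower_data iX iY iS f f' g g' h h' hh hh' hcX hcY w
  have hA : Flat h' := inferInstance
  rw [HasRingHomProperty.iff_of_isAffine (P := @Flat)] at hA
  rw [HasRingHomProperty.iff_of_isAffine (P := @LocallyOfFinitePresentation)] at hf ⊢
  rw [hh''] at hA
  exact Groth.Agent.H78.NilTowerFP.ring_fp g'.appTop.hom f'.appTop.hom iY.appTop.hom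
    iX.appTop.hom f.appTop.hom _ hnil hβ hγ hkβ hkγ hcomm hA hf

/-- Globalization over affine opens of `S'`, `Y'`, `X'`. -/
theorem globalize (P : MorphismProperty Scheme.{u}) [IsZariskiLocalAtSource P]
    [IsZariskiLocalAtTarget P] [P.RespectsRight @IsOpenImmersion]
    (Haff : ∀ {X X' Y Y' S S' : Scheme.{u}} (iX : X ⟶ X') (iY : Y ⟶ Y') (iS : S ⟶ S') (f : X ⟶ Y)
      (f' : X' ⟶ Y') (g : Y ⟶ S) (g' : Y' ⟶ S') (h : X ⟶ S) (h' : X' ⟶ S') (_ : h = f ≫ g)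
      (_ : h' = f' ≫ g') [IsAffine X'] [IsAffine Y'] [IsAffine S'] [IsClosedImmersion iS]
      (_ : IsPullback iX h h' iS) (_ : IsPullback iY g g' iS) (_ : iX ≫ f' = f ≫ iY)
      (_ : IsNilpotent (RingHom.ker iS.appTop.hom)) [Flat h'], P f → P f')
    (iX : X ⟶ X') (iY : Y ⟶ Y') (iS : S ⟶ S') (f : X ⟶ Y) (f' : X' ⟶ Y') (g : Y ⟶ S)
    (g' : Y' ⟶ S') (hS : MoreMor.IsFiniteOrderThickening iS)
    (hcX : IsPullback iX (f ≫ g) (f' ≫ g') iS) (hcY : IsPullback iY g g' iS)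
    (w : iX ≫ f' = f ≫ iY) [Flat (f' ≫ g')] (hf : P f) : P f' := by
  haveI : IsClosedImmersion iS := hS.1.1
  obtain ⟨m, hm⟩ := hS.2
  rw [IsZariskiLocalAtSource.iff_exists_resLE (P := P)]
  intro x'
  obtain ⟨V', hV', hxV'⟩ : ∃ V' : S'.Opens, IsAffineOpen V' ∧ g' (f' x') ∈ V' := by
    obtain ⟨_, ⟨V', hV', rfl⟩, hxV', -⟩ := S'.isBasis_affineOpens.exists_subset_of_mem_open
      (show g' (f' x') ∈ (⊤ : S'.Opens) from trivial) (⊤ : S'.Opens).2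
    exact ⟨V', hV', hxV'⟩
  obtain ⟨W', hW', hxW', hWV⟩ : ∃ W' : Y'.Opens, IsAffineOpen W' ∧ f' x' ∈ W' ∧
      W' ≤ g' ⁻¹ᵁ V' := by
    obtain ⟨_, ⟨W', hW', rfl⟩, hxW', hWV⟩ := Y'.isBasis_affineOpens.exists_subset_of_mem_open
      (show f' x' ∈ g' ⁻¹ᵁ V' from hxV') (g' ⁻¹ᵁ V').2
    exact ⟨W', hW', hxW', hWV⟩
  obtain ⟨U', hU', hxU', hUW⟩ : ∃ U' : X'.Opens, IsAffineOpen U' ∧ x' ∈ U' ∧
      U' ≤ f' ⁻¹ᵁ W' := by
    obtain ⟨_, ⟨U', hU', rfl⟩, hxU', hUW⟩ := X'.isBasis_affineOpens.exists_subset_of_mem_open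
      (show x' ∈ f' ⁻¹ᵁ W' from hxW') (f' ⁻¹ᵁ W').2
    exact ⟨U', hU', hxU', hUW⟩
  refine ⟨W', U', hxU', hUW, ?_⟩
  have hWV' : iY ⁻¹ᵁ W' ≤ g ⁻¹ᵁ (iS ⁻¹ᵁ V') := by
    rw [← Scheme.Hom.comp_preimage, ← hcY.w, Scheme.Hom.comp_preimage]
    exact iY.preimage_mono hWV
  have hUW' : iX ⁻¹ᵁ U' ≤ f ⁻¹ᵁ (iY ⁻¹ᵁ W') := by
    rw [← Scheme.Hom.comp_preimage, ← w, Scheme.Hom.comp_preimage]
    exact iX.preimage_mono hUW
  have hUV : U' ≤ (f' ≫ g') ⁻¹ᵁ V' := by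
    rw [Scheme.Hom.comp_preimage]; exact hUW.trans (f'.preimage_mono hWV)
  have hUV' : iX ⁻¹ᵁ U' ≤ (f ≫ g) ⁻¹ᵁ (iS ⁻¹ᵁ V') := by
    rw [Scheme.Hom.comp_preimage]; exact hUW'.trans (f.preimage_mono hWV')
  have hcY' := Scheme.Hom.isPullback_resLE hcY (US := V') (UT := iS ⁻¹ᵁ V') (UX := W') le_rfl hWV
    (UY := iY ⁻¹ᵁ W') (le_antisymm (le_inf le_rfl hWV') inf_le_left)
  have hcX' := Scheme.Hom.isPullback_resLE hcX (US := V') (UT := iS ⁻¹ᵁ V') (UX := U') le_rfl hUV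
    (UY := iX ⁻¹ᵁ U') (le_antisymm (le_inf le_rfl hUV') inf_le_left)
  haveI : IsAffine U'.toScheme := hU'
  haveI : IsAffine W'.toScheme := hW'
  haveI : IsAffine V'.toScheme := hV'
  haveI : IsClosedImmersion (iS.resLE V' (iS ⁻¹ᵁ V') le_rfl) := by
    rw [Scheme.Hom.resLE_eq_morphismRestrict]
    infer_instance
  have hnil : IsNilpotent (RingHom.ker (iS.resLE V' (iS ⁻¹ᵁ V') le_rfl).appTop.hom) := by
    have hker : (iS.resLE V' (iS ⁻¹ᵁ V') le_rfl).ker = iS.ker.comap V'.ι := by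
      apply Groth.Agent.H93.NilPull.ker_eq_comap_of_isPullback (b := (iS ⁻¹ᵁ V').ι)
      rw [Scheme.Hom.resLE_eq_morphismRestrict]
      exact isPullback_morphismRestrict iS V'
    rw [← Groth.Agent.H93.IdealComap.ideal_top_ker]
    have h2 : (iS.resLE V' (iS ⁻¹ᵁ V') le_rfl).ker ^ m = ⊥ := by
      rw [hker, ← Groth.Agent.H93.IdealComap.comap_pow, hm]
      exact Scheme.IdealSheafData.comap_bot _
    exact Groth.Agent.H93.NilPull.nil_of_pow_eq_bot _ m h2 ⟨⊤, isAffineOpen_top _⟩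
  refine Haff (iX.resLE U' (iX ⁻¹ᵁ U') le_rfl) (iY.resLE W' (iY ⁻¹ᵁ W') le_rfl)
    (iS.resLE V' (iS ⁻¹ᵁ V') le_rfl) (f.resLE (iY ⁻¹ᵁ W') (iX ⁻¹ᵁ U') hUW') (f'.resLE W' U' hUW)
    (g.resLE (iS ⁻¹ᵁ V') (iY ⁻¹ᵁ W') hWV') (g'.resLE V' W' hWV)
    ((f ≫ g).resLE (iS ⁻¹ᵁ V') (iX ⁻¹ᵁ U') hUV') ((f' ≫ g').resLE V' U' hUV)
    (by rw [Scheme.Hom.resLE_comp_resLE]) (by rw [Scheme.Hom.resLE_comp_resLE]) hcX' hcY' ?_
    hnil (IsZariskiLocalAtSource.resLE hUW' hf)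
  rw [← cancel_mono W'.ι]
  simp only [Category.assoc, Scheme.Hom.resLE_comp_ι, Scheme.Hom.resLE_comp_ι_assoc, w]

theorem lfp_respectsRight :
    MorphismProperty.RespectsRight (@LocallyOfFinitePresentation.{u}) (@IsOpenImmersion.{u}) :=
  ⟨fun i _ f hf => by
    haveI : LocallyOfFinitePresentation f := hf
    exact (inferInstance : LocallyOfFinitePresentation (f ≫ i))⟩

set_option backward.isDefEq.respectTransparency.types false in
theorem flat_of_flat (iX : X ⟶ X') (iY : Y ⟶ Y') (iS : S ⟶ S') (f : X ⟶ Y) (f' : X' ⟶ Y')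
    (g : Y ⟶ S) (g' : Y' ⟶ S') (hS : MoreMor.IsFiniteOrderThickening iS)
    (hcX : IsPullback iX (f ≫ g) (f' ≫ g') iS) (hcY : IsPullback iY g g' iS)
    (w : iX ≫ f' = f ≫ iY) [Flat (f' ≫ g')] (hf : Flat f) : Flat f' :=
  globalize @Flat
    (fun iX iY iS f f' g g' h h' hh hh' _ _ _ _ hcX hcY w hnil _ hf =>
      flat_aff iX iY iS f f' g g' h h' hh hh' hcX hcY w hnil hf)
    iX iY iS f f' g g' hS hcX hcY w hf

set_option backward.isDefEq.respectTransparency.types false in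
theorem lfp_of_lfp (iX : X ⟶ X') (iY : Y ⟶ Y') (iS : S ⟶ S') (f : X ⟶ Y) (f' : X' ⟶ Y')
    (g : Y ⟶ S) (g' : Y' ⟶ S') (hS : MoreMor.IsFiniteOrderThickening iS)
    (hcX : IsPullback iX (f ≫ g) (f' ≫ g') iS) (hcY : IsPullback iY g g' iS)
    (w : iX ≫ f' = f ≫ iY) [Flat (f' ≫ g')] (hf : LocallyOfFinitePresentation f) :
    LocallyOfFinitePresentation f' :=
  haveI := lfp_respectsRight.{u}
  globalize @LocallyOfFinitePresentation
    (fun iX iY iS f f' g g' h h' hh hh' _ _ _ _ hcX hcY w hnil _ hf =>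
      lfp_aff iX iY iS f f' g g' h h' hh hh' hcX hcY w hnil hf)
    iX iY iS f f' g g' hS hcX hcY w hf

theorem isPullback_sq (iX : X ⟶ X') (iY : Y ⟶ Y') (iS : S ⟶ S') (f : X ⟶ Y) (f' : X' ⟶ Y')
    (g : Y ⟶ S) (g' : Y' ⟶ S')
    (hcX : IsPullback iX (f ≫ g) (f' ≫ g') iS) (hcY : IsPullback iY g g' iS)
    (w : iX ≫ f' = f ≫ iY) : IsPullback iX f f' iY :=
  (IsPullback.of_right hcX.flip w.symm hcY.flip).flip

end Groth.Agent.H78.NilTower
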