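import Mathlib
import Groth.Prelude.Def_MoreMor
import Groth.Agent.H78.DeformFp
import Groth.Agent.H78.NilTower

/-!
# Deforming properties along finite order thickenings of the base (flat families; helper78)
-/

set_option autoImplicit false
set_option linter.style.haveILetI false
universe u

open AlgebraicGeometry CategoryTheory Limits

namespace Groth.Agent.H78.DeformFin

variable {X X' Y Y' S S' : Scheme.{u}}

theorem deform_fin (P : MorphismProperty Scheme.{u}) [P.IsStableUnderBaseChange]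
    (hlfp : ∀ {A B : Scheme.{u}} (φ : A ⟶ B), P φ → LocallyOfFinitePresentation φ)
    (hfib : ∀ {A B C : Scheme.{u}} (φ : A ⟶ B) (ψ : B ⟶ C) [LocallyOfFinitePresentation φ]
      [Flat (φ ≫ ψ)], (∀ s : C, P (pullback.snd φ (ψ.fiberι s))) → P φ)
    (iX : X ⟶ X') (iY : Y ⟶ Y') (iS : S ⟶ S')
    (f : X ⟶ Y) (f' : X' ⟶ Y') (g : Y ⟶ S) (g' : Y' ⟶ S')
    (hS : MoreMor.IsFiniteOrderThickening iS) (hcX : IsPullback iX (f ≫ g) (f' ≫ g') iS)
    (hcY : IsPullback iY g g' iS)
    (w : iX ≫ f' = f ≫ iY) [Flat (f' ≫ g')] :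
    P f ↔ P f' := by
  haveI : IsClosedImmersion iS := hS.1.1
  haveI : Surjective iS := hS.1.2
  have hsq : IsPullback iX f f' iY :=
    Groth.Agent.H78.NilTower.isPullback_sq iX iY iS f f' g g' hcX hcY w
  constructor
  · intro hf
    haveI : LocallyOfFinitePresentation f' :=
      Groth.Agent.H78.NilTower.lfp_of_lfp iX iY iS f f' g g' hS hcX hcY w (hlfp f hf)
    apply hfib f' g'
    intro s'
    obtain ⟨s, rfl⟩ := iS.surjective s'
    obtain ⟨aY, haY⟩ := Groth.Agent.H78.DeformFp.exists_fiber_fac iY iS g g' hcY s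
    rw [← haY]
    exact Groth.Agent.H78.DeformFp.prop_snd_of_prop P hsq aY hf
  · intro hf'
    exact MorphismProperty.of_isPullback hsq hf'

end Groth.Agent.H78.DeformFin
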