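import Mathlib
import Groth.Prelude.Def_Red
import Groth.Prelude.Def_SGA3x
import Groth.Agent.H63.BCPoints

/-!
# Fibres of a group scheme over a base (helper78)

For an `S`-group scheme `G` and a point `s` of `S`, the fibre group `fib G s` over the residue
field, its projection `π G s` to `G` (an embedding onto the set-theoretic fibre), the unit point,
the description of the neutral component of the fibre, and compatibility of multiplication.
-/

set_option autoImplicit false
universe u
open CategoryTheory CategoryTheory.Limits MonoidalCategory CartesianMonoidalCategory MonObj GrpObj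
  AlgebraicGeometry

namespace Groth.Agent.H78.GrpFibre

theorem homeo_image_cc {X Y : Type*} [TopologicalSpace X] [TopologicalSpace Y] (e : X ≃ₜ Y)
    (x : X) : e '' connectedComponent x = connectedComponent (e x) := by
  apply Set.Subset.antisymm (e.continuous.image_connectedComponent_subset x)
  intro y hy
  have h1 := e.symm.continuous.image_connectedComponent_subset (e x) ⟨y, hy, rfl⟩
  rw [e.symm_apply_apply] at h1
  exact ⟨e.symm y, h1, e.apply_symm_apply y⟩

theorem pt' {S : Scheme.{u}} {A B C : Over S} (a : A ⟶ B) (b : B ⟶ C) (c : A ⟶ C)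
    (h : a ≫ b = c) (z : A.left) : b.left.base (a.left.base z) = c.left.base z := by
  subst h
  rfl

variable {S : Scheme.{u}} (G : Over S) [GrpObj G] (s : S)

/-- The fibre of `G` over `s`, a group scheme over the residue field. -/
noncomputable abbrev fib : Over (Spec (S.residueField s)) := Red.bc (S.fromSpecResidueField s) G

/-- The projection from the fibre to `G`. -/
noncomputable abbrev π : (fib G s).left ⟶ G.left := pullback.fst G.hom (S.fromSpecResidueField s)

set_option backward.isDefEq.respectTransparency.types false in
theorem range_π : Set.range ⇑(π G s) = ⇑G.hom.base ⁻¹' {s} := by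
  rw [Scheme.Pullback.range_fst, Scheme.range_fromSpecResidueField]

theorem isEmbedding_π : Topology.IsEmbedding ⇑(π G s) :=
  (π G s).isEmbedding

set_option backward.isDefEq.respectTransparency.types false in
theorem π_unit (pt : ↥(𝟙_ (Over (Spec (S.residueField s)))).left) :
    (π G s).base (η[fib G s].left.base pt) = η[G].left.base s := by
  have h := congrArg (fun m => m.left.base pt)
    (Groth.Agent.H63.BCPoints.under_one (S.fromSpecResidueField s) (G := G)
      (T := 𝟙_ (Over (Spec (S.residueField s)))))
  have h2 : η[fib G s] = (1 : 𝟙_ (Over (Spec (S.residueField s))) ⟶ fib G s) := MonObj.one_eq_one _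
  rw [h2]
  refine h.trans ?_
  show η[G].left.base ((S.fromSpecResidueField s).base _) = η[G].left.base s
  congr 1
  exact Scheme.fromSpecResidueField_apply s _

set_option backward.isDefEq.respectTransparency.types false in
theorem unit_mem_fibre : η[G].left.base s ∈ ⇑G.hom.base ⁻¹' {s} := by
  have h := congrArg (fun m : (𝟙_ (Over S)).left ⟶ S => m.base s) (Over.w η[G])
  exact h

set_option backward.isDefEq.respectTransparency.types false in
/-- The neutral component of the set-theoretic fibre is the image of the neutral component of the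
fibre group scheme. -/
theorem neutral_fibre (pt : ↥(𝟙_ (Over (Spec (S.residueField s)))).left) :
    connectedComponentIn (⇑G.hom.base ⁻¹' {s}) (η[G].left.base s) =
      ⇑(π G s) '' connectedComponent (η[fib G s].left.base pt) := by
  have he := unit_mem_fibre G s
  rw [connectedComponentIn_eq_image he]
  obtain ⟨Ψ, hΨ⟩ : ∃ Ψ : ↥(fib G s).left ≃ₜ ↥(⇑G.hom.base ⁻¹' {s}),
      ∀ z, (Ψ z : G.left) = (π G s).base z :=
    ⟨(isEmbedding_π G s).toHomeomorph.trans (Homeomorph.setCongr (range_π G s)), fun z => rfl⟩
  have h1 := homeo_image_cc Ψ (η[fib G s].left.base pt)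
  have h2 : Ψ (η[fib G s].left.base pt) = ⟨η[G].left.base s, he⟩ :=
    Subtype.ext ((hΨ _).trans (π_unit G s pt))
  rw [h2] at h1
  rw [← h1, Set.image_image]
  apply Set.image_congr
  intro z _
  exact hΨ z

set_option backward.isDefEq.respectTransparency.types false in
theorem neutralSet_eq :
    SGA3x.neutralSet G = ⋃ s : S, ⇑(π G s) ''
      connectedComponent (η[fib G s].left.base (IsLocalRing.closedPoint (S.residueField s))) := by
  unfold SGA3x.neutralSet
  apply Set.iUnion_congr
  intro p
  exact neutral_fibre G p _

set_option backward.isDefEq.respectTransparency.types false in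
/-- Compatibility of the multiplication of the fibre with that of `G`. -/
theorem mul_compat (z : ↥((fib G s) ⊗ (fib G s)).left) :
    ∃ z' : ↥(G ⊗ G).left, (fst G G).left.base z' = (π G s).base ((fst (fib G s) (fib G s)).left.base z) ∧
      (snd G G).left.base z' = (π G s).base ((snd (fib G s) (fib G s)).left.base z) ∧
      μ[G].left.base z' = (π G s).base (μ[fib G s].left.base z) := by
  obtain ⟨c, hc⟩ : ∃ c, c = Groth.Agent.H63.BCPoints.under (S.fromSpecResidueField s)
      (fst (fib G s) (fib G s)) := ⟨_, rfl⟩
  obtain ⟨d, hd⟩ : ∃ d, d = Groth.Agent.H63.BCPoints.under (S.fromSpecResidueField s)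
      (snd (fib G s) (fib G s)) := ⟨_, rfl⟩
  refine ⟨(lift c d).left.base z, ?_, ?_, ?_⟩
  · refine (pt' _ _ _ (lift_fst c d) z).trans ?_
    rw [hc]
    rfl
  · refine (pt' _ _ _ (lift_snd c d) z).trans ?_
    rw [hd]
    rfl
  · have h1 : lift c d ≫ μ[G] = Groth.Agent.H63.BCPoints.under (S.fromSpecResidueField s)
        μ[fib G s] := by
      rw [MonObj.mul_eq_mul (fib G s), Groth.Agent.H63.BCPoints.under_mul, ← hc, ← hd]
      rfl
    refine (pt' _ _ _ h1 z).trans ?_
    rfl

end Groth.Agent.H78.GrpFibre
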