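import Groth.Prelude.Def_W4c2invhilbsl2HJ
import Mathlib.Tactic

/-!
# Hirzebruch–Jung continued fractions: the bookkeeping of `Def_W4c2invhilbsl2HJ`

For `IsHJDigits p q m c` we prove `P_{r+1} = b`, `Q_{r+1} = t`, that `τ_i = t P_i - b Q_i`
decreases strictly from `τ_0 = b` to `τ_{r+1} = 0` with `τ_r = 1`, that `P_i` increases strictly,
`n_i = g τ_i`, and the lattice (best approximation) property of the `(P_i, τ_i)`.
-/

set_option autoImplicit false
set_option maxHeartbeats 400000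

namespace Groth.Agent.H78.HJ

open W4c2invhilbsl2 HJFrac

/-! ### recursion facts valid for every list -/

lemma hjP_succ_succ (c : List ℤ) (i : ℕ) :
    hjP c (i + 2) = c.getD i 0 * hjP c (i + 1) - hjP c i := by
  rw [hjP]

lemma hjQ_succ_succ (c : List ℤ) (i : ℕ) :
    hjQ c (i + 2) = c.getD i 0 * hjQ c (i + 1) - hjQ c i := by
  rw [hjQ]

@[simp] lemma hjP_zero (c : List ℤ) : hjP c 0 = 0 := by rw [hjP]
@[simp] lemma hjP_one (c : List ℤ) : hjP c 1 = 1 := by rw [hjP]
@[simp] lemma hjQ_zero (c : List ℤ) : hjQ c 0 = -1 := by rw [hjQ]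
@[simp] lemma hjQ_one (c : List ℤ) : hjQ c 1 = 0 := by rw [hjQ]

lemma hj_cons (a : ℤ) (l : List ℤ) : ∀ i : ℕ,
    (hjP (a :: l) (i + 1) = a * hjP l i - hjQ l i ∧ hjQ (a :: l) (i + 1) = hjP l i) ∧
    (hjP (a :: l) (i + 2) = a * hjP l (i + 1) - hjQ l (i + 1) ∧
      hjQ (a :: l) (i + 2) = hjP l (i + 1)) := by
  intro i
  induction i with
  | zero =>
    refine ⟨⟨by simp, by simp⟩, ?_, ?_⟩
    · rw [hjP_succ_succ]; simp
    · rw [hjQ_succ_succ]; simp
  | succ i ih =>
    obtain ⟨⟨h1, h2⟩, h3, h4⟩ := ih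
    refine ⟨⟨h3, h4⟩, ?_, ?_⟩
    · rw [hjP_succ_succ (a :: l) (i + 1), h3, h1, hjP_succ_succ l i, hjQ_succ_succ l i]
      simp only [List.getD_cons_succ]
      ring
    · rw [hjQ_succ_succ (a :: l) (i + 1), h4, h2, hjP_succ_succ l i]
      simp only [List.getD_cons_succ]

lemma hjP_cons (a : ℤ) (l : List ℤ) (i : ℕ) :
    hjP (a :: l) (i + 1) = a * hjP l i - hjQ l i := (hj_cons a l i).1.1

lemma hjQ_cons (a : ℤ) (l : List ℤ) (i : ℕ) :
    hjQ (a :: l) (i + 1) = hjP l i := (hj_cons a l i).1.2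

lemma det (c : List ℤ) : ∀ i : ℕ, hjP c i * hjQ c (i + 1) - hjP c (i + 1) * hjQ c i = 1 := by
  intro i
  induction i with
  | zero => simp
  | succ i ih =>
    rw [hjP_succ_succ, hjQ_succ_succ]
    linear_combination ih

lemma val (l : List ℤ) (hl : ∀ x ∈ l, (2 : ℤ) ≤ x) :
    0 ≤ hjQ l (l.length + 1) ∧ hjQ l (l.length + 1) < hjP l (l.length + 1) ∧
      (hjVal l)⁻¹ = (hjQ l (l.length + 1) : ℚ) / hjP l (l.length + 1) := by
  induction l with
  | nil => simp [hjVal]
  | cons a l ih =>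
    have ha : (2 : ℤ) ≤ a := hl a (List.mem_cons_self)
    obtain ⟨h0, h1, h2⟩ := ih (fun x hx => hl x (List.mem_cons_of_mem _ hx))
    rw [List.length_cons, hjP_cons, hjQ_cons]
    have hP : (0 : ℤ) < hjP l (l.length + 1) := lt_of_le_of_lt h0 h1
    refine ⟨hP.le, by nlinarith, ?_⟩
    rw [hjVal, h2]
    have hPq : (hjP l (l.length + 1) : ℚ) ≠ 0 := by exact_mod_cast hP.ne'
    push_cast
    rw [← inv_div]
    congr 1
    field_simp

/-! ### arithmetic of `g, b, t, α` -/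

lemma arith_facts (p q m : ℕ) (hpq : p < q) (hcop : Nat.Coprime p q) (hm : 0 < m) :
    0 < gcdK p q m ∧ 0 < bB p q m ∧ 0 < tT p q m ∧
    q - p = gcdK p q m * bB p q m ∧
    m * p + gcdK p q m * tT p q m = (alpha p q m + 1) * (q - p) ∧
    Nat.Coprime (bB p q m) (tT p q m) := by
  unfold bB tT alpha gcdK
  have hr : 0 < q - p := Nat.sub_pos_of_lt hpq
  generalize hrdef : q - p = r at *
  have hg : 0 < Nat.gcd m r := Nat.gcd_pos_of_pos_left r hm
  have hgr : Nat.gcd m r ∣ r := Nat.gcd_dvd_right m r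
  have hgm : Nat.gcd m r ∣ m := Nat.gcd_dvd_left m r
  have hb : Nat.gcd m r * (r / Nat.gcd m r) = r := Nat.mul_div_cancel' hgr
  have hbpos : 0 < r / Nat.gcd m r := Nat.div_pos (Nat.le_of_dvd hr hgr) hg
  have hβ : m * p % r < r := Nat.mod_lt _ hr
  have hdiv : r * (m * p / r) + m * p % r = m * p := Nat.div_add_mod _ _
  have hgβ : Nat.gcd m r ∣ m * p % r := (Nat.dvd_mod_iff hgr).mpr (Dvd.dvd.mul_right hgm p)
  have hgsub : Nat.gcd m r ∣ r - m * p % r := Nat.dvd_sub hgr hgβ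
  have ht : Nat.gcd m r * ((r - m * p % r) / Nat.gcd m r) = r - m * p % r :=
    Nat.mul_div_cancel' hgsub
  have htpos : 0 < (r - m * p % r) / Nat.gcd m r :=
    Nat.div_pos (Nat.le_of_dvd (Nat.sub_pos_of_lt hβ) hgsub) hg
  refine ⟨hg, hbpos, htpos, hb.symm, ?_, ?_⟩
  · rw [ht]
    have h1 : r - m * p % r + m * p % r = r := Nat.sub_add_cancel hβ.le
    nlinarith
  · -- coprimality
    set g := Nat.gcd m r with hgdef
    set b := r / g with hbdef
    set t := (r - m * p % r) / g with htdef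
    set d := Nat.gcd b t with hddef
    have hdb : d ∣ b := Nat.gcd_dvd_left b t
    have hdt : d ∣ t := Nat.gcd_dvd_right b t
    have hab : Nat.Coprime (m / g) b := Nat.coprime_div_gcd_div_gcd hg
    have hma : g * (m / g) = m := Nat.mul_div_cancel' hgm
    have h1 : g * d ∣ r := by rw [← hb]; exact Nat.mul_dvd_mul_left g hdb
    have h2 : g * d ∣ r - m * p % r := by rw [← ht]; exact Nat.mul_dvd_mul_left g hdt
    have h3 : g * d ∣ m * p % r := by
      have := (Nat.dvd_sub_iff_right hβ.le h1).mp h2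
      exact this
    have h4 : g * d ∣ m * p := by
      rw [← hdiv]
      exact dvd_add (Dvd.dvd.mul_right h1 _) h3
    have h5 : d ∣ (m / g) * p := by
      have : g * d ∣ g * ((m / g) * p) := by rw [← mul_assoc, hma]; exact h4
      exact Nat.dvd_of_mul_dvd_mul_left hg this
    have hrp : Nat.Coprime r p := by
      rw [← hrdef]
      exact (Nat.coprime_sub_self_left hpq.le).mpr hcop.symm
    have hdr : d ∣ r := Dvd.dvd.trans hdb ⟨g, by rw [mul_comm]; exact hb.symm⟩
    have hdp : Nat.Coprime d p := Nat.Coprime.coprime_dvd_left hdr hrp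
    have h6 : d ∣ m / g := hdp.dvd_of_dvd_mul_right h5
    have h7 : d ∣ Nat.gcd (m / g) b := Nat.dvd_gcd h6 hdb
    rw [hab] at h7
    exact Nat.dvd_one.mp h7

/-! ### consequences of `IsHJDigits` -/

/-- `τ_i = t P_i - b Q_i`. -/
def tau (p q m : ℕ) (c : List ℤ) (i : ℕ) : ℤ :=
  (tT p q m : ℤ) * hjP c i - (bB p q m : ℤ) * hjQ c i

lemma tau_succ_succ (p q m : ℕ) (c : List ℤ) (i : ℕ) :
    tau p q m c (i + 2) = c.getD i 0 * tau p q m c (i + 1) - tau p q m c i := by
  unfold tau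
  rw [hjP_succ_succ, hjQ_succ_succ]
  ring

lemma tau_zero (p q m : ℕ) (c : List ℤ) : tau p q m c 0 = bB p q m := by
  unfold tau; simp

lemma tau_one (p q m : ℕ) (c : List ℤ) : tau p q m c 1 = tT p q m := by
  unfold tau; simp

lemma digit_ge_two {p q m : ℕ} {c : List ℤ} (hc : IsHJDigits p q m c) {i : ℕ} (hi : i < c.length) :
    (2 : ℤ) ≤ c.getD i 0 := by
  rw [List.getD_eq_getElem c 0 hi]
  exact hc.1 _ (List.getElem_mem hi)

section digits
variable {p q m : ℕ} {c : List ℤ} (hpq : p < q) (hcop : Nat.Coprime p q) (hm : 0 < m)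
  (hc : IsHJDigits p q m c)

include hpq hcop hm hc

lemma last : hjP c (c.length + 1) = bB p q m ∧ hjQ c (c.length + 1) = tT p q m := by
  obtain ⟨hg, hb, ht, _, _, hbt⟩ := arith_facts p q m hpq hcop hm
  obtain ⟨h0, h1, h2⟩ := val c hc.1
  have hv := hc.2
  have hP : (0 : ℤ) < hjP c (c.length + 1) := lt_of_le_of_lt h0 h1
  have hPq : (hjP c (c.length + 1) : ℚ) ≠ 0 := by exact_mod_cast hP.ne'
  have hbq : ((bB p q m : ℕ) : ℚ) ≠ 0 := by exact_mod_cast hb.ne'
  have hbZ : (0 : ℤ) < (bB p q m : ℤ) := by exact_mod_cast hb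
  rw [hv, inv_div, div_eq_div_iff hbq hPq] at h2
  have h3 : (tT p q m : ℤ) * hjP c (c.length + 1) = hjQ c (c.length + 1) * (bB p q m : ℤ) := by
    exact_mod_cast h2
  have hcop1 : IsCoprime ((bB p q m : ℕ) : ℤ) ((tT p q m : ℕ) : ℤ) := Nat.isCoprime_iff_coprime.mpr hbt
  have hcop2 : IsCoprime (hjP c (c.length + 1)) (hjQ c (c.length + 1)) :=
    ⟨-hjQ c c.length, hjP c c.length, by linear_combination det c c.length⟩
  have hd1 : ((bB p q m : ℕ) : ℤ) ∣ hjP c (c.length + 1) :=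
    hcop1.dvd_of_dvd_mul_left ⟨hjQ c (c.length + 1), by rw [h3]; ring⟩
  have hd2 : hjP c (c.length + 1) ∣ ((bB p q m : ℕ) : ℤ) :=
    hcop2.dvd_of_dvd_mul_left ⟨(tT p q m : ℤ), by rw [← h3]; ring⟩
  have hPb : hjP c (c.length + 1) = bB p q m := Int.dvd_antisymm hP.le hbZ.le hd2 hd1
  refine ⟨hPb, ?_⟩
  rw [hPb] at h3
  have := mul_right_cancel₀ hbZ.ne' h3
  exact this.symm

lemma tau_last : tau p q m c (c.length + 1) = 0 := by
  obtain ⟨h1, h2⟩ := last hpq hcop hm hc
  unfold tau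
  rw [h1, h2]; ring

lemma tau_length : tau p q m c c.length = 1 := by
  obtain ⟨h1, h2⟩ := last hpq hcop hm hc
  unfold tau
  rw [← h1, ← h2]
  linear_combination det c c.length

/-- `τ` is strictly decreasing and non-negative on `0, …, r+1`. -/
lemma tau_desc : ∀ k i : ℕ, i + k = c.length →
    tau p q m c (i + 1) < tau p q m c i ∧ 0 ≤ tau p q m c (i + 1) := by
  intro k
  induction k with
  | zero =>
    intro i hi
    rw [add_zero] at hi
    subst hi
    rw [tau_last hpq hcop hm hc, tau_length hpq hcop hm hc]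
    exact ⟨by norm_num, le_rfl⟩
  | succ k ih =>
    intro i hi
    obtain ⟨h1, h2⟩ := ih (i + 1) (by omega)
    have hd : (2 : ℤ) ≤ c.getD i 0 := digit_ge_two hc (by omega)
    have hrec := tau_succ_succ p q m c i
    have hpos : 0 < tau p q m c (i + 1) := lt_of_le_of_lt h2 h1
    refine ⟨?_, hpos.le⟩
    nlinarith [mul_nonneg (sub_nonneg.mpr hd) hpos.le]

lemma tau_lt (i : ℕ) (hi : i ≤ c.length) : tau p q m c (i + 1) < tau p q m c i :=
  (tau_desc hpq hcop hm hc (c.length - i) i (by omega)).1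

lemma tau_nonneg (i : ℕ) (hi : i ≤ c.length + 1) : 0 ≤ tau p q m c i := by
  rcases Nat.eq_zero_or_pos i with h | h
  · subst h
    rw [tau_zero]; positivity
  · obtain ⟨j, rfl⟩ := Nat.exists_eq_succ_of_ne_zero h.ne'
    exact (tau_desc hpq hcop hm hc (c.length - j) j (by omega)).2

lemma tau_pos (i : ℕ) (hi : i ≤ c.length) : 0 < tau p q m c i :=
  lt_of_le_of_lt (tau_nonneg hpq hcop hm hc (i + 1) (by omega)) (tau_lt hpq hcop hm hc i hi)

omit hpq hcop hm in
/-- `P` is strictly increasing and non-negative on `0, …, r+1`. -/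
lemma hjP_incr : ∀ i : ℕ, i ≤ c.length → 0 ≤ hjP c i ∧ hjP c i < hjP c (i + 1) := by
  intro i
  induction i with
  | zero => intro _; simp
  | succ i ih =>
    intro hi
    obtain ⟨h1, h2⟩ := ih (by omega)
    have hd : (2 : ℤ) ≤ c.getD i 0 := digit_ge_two hc (by omega)
    have hpos : 0 < hjP c (i + 1) := lt_of_le_of_lt h1 h2
    refine ⟨hpos.le, ?_⟩
    rw [hjP_succ_succ]
    nlinarith [mul_nonneg (sub_nonneg.mpr hd) hpos.le]

omit hpq hcop hm in
lemma hjP_pos (i : ℕ) (hi0 : 1 ≤ i) (hi : i ≤ c.length + 1) : 0 < hjP c i := by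
  obtain ⟨j, rfl⟩ := Nat.exists_eq_succ_of_ne_zero (by omega : i ≠ 0)
  obtain ⟨h1, h2⟩ := hjP_incr hc j (by omega)
  exact lt_of_le_of_lt h1 h2

/-- The lattice property: for `1 ≤ j`, `j + 1 ≤ r` and `0 < x < P_{j+1}`, the residue of `t x`
modulo `b` is at least `τ_j`. -/
lemma lattice_lower (j : ℕ) (hj : 1 ≤ j) (hjr : j + 1 ≤ c.length) (x : ℤ) (hx0 : 0 < x)
    (hx : x < hjP c (j + 1)) :
    tau p q m c j ≤ ((tT p q m : ℤ) * x) % (bB p q m : ℤ) := by
  obtain ⟨hg, hb, ht, _, _, hbt⟩ := arith_facts p q m hpq hcop hm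
  have hbZ : (0 : ℤ) < (bB p q m : ℤ) := by exact_mod_cast hb
  set ρ := ((tT p q m : ℤ) * x) % (bB p q m : ℤ) with hρdef
  set y := ((tT p q m : ℤ) * x) / (bB p q m : ℤ) with hydef
  have hdiv : (bB p q m : ℤ) * y + ρ = (tT p q m : ℤ) * x := Int.mul_ediv_add_emod _ _
  have hρ0 : 0 ≤ ρ := Int.emod_nonneg _ hbZ.ne'
  -- basis data
  have hPj : 0 < hjP c j := hjP_pos hc j hj (by omega)
  have hPlt : hjP c j < hjP c (j + 1) := (hjP_incr hc j (by omega)).2
  have hτlt : tau p q m c (j + 1) < tau p q m c j := tau_lt hpq hcop hm hc j (by omega)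
  have hτpos : 0 < tau p q m c (j + 1) := tau_pos hpq hcop hm hc (j + 1) hjr
  have hD := det c j
  set u := x * hjQ c (j + 1) - y * hjP c (j + 1) with hu
  set v := y * hjP c j - x * hjQ c j with hv
  have hxuv : x = u * hjP c j + v * hjP c (j + 1) := by
    rw [hu, hv]; linear_combination (-x) * hD
  have hρuv : ρ = u * tau p q m c j + v * tau p q m c (j + 1) := by
    rw [hu, hv]; unfold tau
    linear_combination (-ρ) * hD +
      (hjP c j * hjQ c (j + 1) - hjP c (j + 1) * hjQ c j) * hdiv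
  by_contra hcon
  push Not at hcon
  set P0 := hjP c j
  set P1 := hjP c (j + 1)
  set T0 := tau p q m c j
  set T1 := tau p q m c (j + 1)
  rcases le_or_gt 1 u with hu1 | hu0
  · rcases le_or_gt 0 v with hv0 | hv1
    · -- u ≥ 1, v ≥ 0
      nlinarith [mul_nonneg (sub_nonneg.mpr hu1) (hτpos.le.trans hτlt.le), mul_nonneg hv0 hτpos.le]
    · -- u ≥ 1, v ≤ -1
      have hv1' : v ≤ -1 := by omega
      have huw : u ≤ -v := by
        by_contra h
        push Not at h
        have h' : 0 ≤ u - 1 + v := by omega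
        nlinarith [mul_nonneg h' (hτpos.le.trans hτlt.le),
          mul_nonneg (by omega : (0 : ℤ) ≤ -v) (sub_nonneg.mpr hτlt.le)]
      nlinarith [mul_nonneg (sub_nonneg.mpr huw) hPj.le,
        mul_pos (by omega : (0 : ℤ) < -v) (sub_pos.mpr hPlt)]
  · -- u ≤ 0
    have hu0' : u ≤ 0 := by omega
    have hP1pos : 0 < P1 := hPj.trans hPlt
    have hv1 : 1 ≤ v := by
      by_contra h
      push Not at h
      have : v ≤ 0 := by omega
      nlinarith [mul_nonneg (neg_nonneg.mpr hu0') hPj.le, mul_nonneg (neg_nonneg.mpr this) hP1pos.le]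
    have hsv : v ≤ -u := by
      by_contra h
      push Not at h
      have h' : 0 ≤ v - 1 + u := by omega
      nlinarith [mul_nonneg h' hPj.le, mul_nonneg (by omega : (0 : ℤ) ≤ v - 1) (sub_nonneg.mpr hPlt.le)]
    nlinarith [mul_nonneg (by omega : (0 : ℤ) ≤ -u - v) (hτpos.le.trans hτlt.le),
      mul_pos (by omega : (0 : ℤ) < v) (sub_pos.mpr hτlt)]

end digits

end Groth.Agent.H78.HJ
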