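import Groth.Agent.H78.HJ

/-!
# Hirzebruch–Jung bookkeeping, part 2: `n_i = g τ_i`, monotonicity, two-sided lattice bounds
-/

set_option autoImplicit false
set_option maxHeartbeats 400000

namespace Groth.Agent.H78.HJ

open W4c2invhilbsl2 HJFrac

/-- Integer forms of the arithmetic facts. -/
lemma arith_factsZ (p q m : ℕ) (hpq : p < q) (hcop : Nat.Coprime p q) (hm : 0 < m) :
    (0 : ℤ) < (gcdK p q m : ℤ) ∧ (0 : ℤ) < (bB p q m : ℤ) ∧ (0 : ℤ) < (tT p q m : ℤ) ∧
    (q : ℤ) - p = (gcdK p q m : ℤ) * (bB p q m : ℤ) ∧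
    (m : ℤ) * p + (gcdK p q m : ℤ) * (tT p q m : ℤ) = ((alpha p q m : ℤ) + 1) * ((q : ℤ) - p) := by
  obtain ⟨hg, hb, ht, h4, h5, _⟩ := arith_facts p q m hpq hcop hm
  have hqp : ((q - p : ℕ) : ℤ) = (q : ℤ) - p := Nat.cast_sub hpq.le
  refine ⟨by exact_mod_cast hg, by exact_mod_cast hb, by exact_mod_cast ht, ?_, ?_⟩
  · rw [← hqp]; exact_mod_cast h4
  · rw [← hqp]; exact_mod_cast h5

lemma nN_eq (p q m : ℕ) (hpq : p < q) (hcop : Nat.Coprime p q) (hm : 0 < m) (c : List ℤ) (i : ℕ) :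
    nN p q m c i = (gcdK p q m : ℤ) * tau p q m c i := by
  obtain ⟨_, _, _, h4, h5⟩ := arith_factsZ p q m hpq hcop hm
  unfold nN eE lL tau
  push_cast
  linear_combination (-(hjP c i)) * h5 - (hjQ c i) * h4

section digits
variable {p q m : ℕ} {c : List ℤ} (hpq : p < q) (hcop : Nat.Coprime p q) (hm : 0 < m)
  (hc : IsHJDigits p q m c)

include hpq hcop hm hc

lemma tau_lt_of_lt : ∀ j i : ℕ, i < j → j ≤ c.length + 1 → tau p q m c j < tau p q m c i := by
  intro j
  induction j with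
  | zero => intro i hi; omega
  | succ j ih =>
    intro i hi hj
    have h1 := tau_lt hpq hcop hm hc j (by omega)
    rcases Nat.lt_or_ge i j with h | h
    · exact h1.trans (ih i h (by omega))
    · have : i = j := by omega
      subst this
      exact h1

lemma tau_lt_b (i : ℕ) (hi0 : 1 ≤ i) (hi : i ≤ c.length + 1) : tau p q m c i < (bB p q m : ℤ) := by
  have := tau_lt_of_lt hpq hcop hm hc i 0 (by omega) hi
  rwa [tau_zero] at this

omit hpq hcop hm hc in
lemma t_mul_hjP (i : ℕ) :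
    (tT p q m : ℤ) * hjP c i = tau p q m c i + (bB p q m : ℤ) * hjQ c i := by
  unfold tau; ring

/-- Two-sided bounds for the residue of `t x` modulo `b`, `0 < x < P_{j+1}`. -/
lemma lattice_bounds (j : ℕ) (hj : 1 ≤ j) (hjr : j + 1 ≤ c.length) (x : ℤ) (hx0 : 0 < x)
    (hx : x < hjP c (j + 1)) :
    tau p q m c j ≤ ((tT p q m : ℤ) * x) % (bB p q m : ℤ) ∧
    ((tT p q m : ℤ) * x) % (bB p q m : ℤ) ≤
      (bB p q m : ℤ) + tau p q m c (j + 1) - tau p q m c j := by
  obtain ⟨hgZ, hbZ, htZ, _, _⟩ := arith_factsZ p q m hpq hcop hm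
  have hlow := lattice_lower hpq hcop hm hc j hj hjr x hx0 hx
  refine ⟨hlow, ?_⟩
  have hlow' := lattice_lower hpq hcop hm hc j hj hjr (hjP c (j + 1) - x) (by linarith) (by linarith)
  set ρ := ((tT p q m : ℤ) * x) % (bB p q m : ℤ) with hρdef
  set y := ((tT p q m : ℤ) * x) / (bB p q m : ℤ) with hydef
  have hdiv : (bB p q m : ℤ) * y + ρ = (tT p q m : ℤ) * x := Int.mul_ediv_add_emod _ _
  have hρb : ρ < (bB p q m : ℤ) := Int.emod_lt_of_pos _ hbZ
  have hτlt : tau p q m c (j + 1) < tau p q m c j := tau_lt hpq hcop hm hc j (by omega)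
  have hτpos : 0 < tau p q m c (j + 1) := tau_pos hpq hcop hm hc (j + 1) hjr
  have hexp : (tT p q m : ℤ) * (hjP c (j + 1) - x) =
      (tau p q m c (j + 1) - ρ + (bB p q m : ℤ)) + (bB p q m : ℤ) * (hjQ c (j + 1) - y - 1) := by
    rw [mul_sub, t_mul_hjP (p := p) (q := q) (m := m) (c := c) (j + 1), ← hdiv]; ring
  rw [hexp, Int.add_mul_emod_self_left, Int.emod_eq_of_lt (by linarith) (by linarith)] at hlow'
  linarith

end digits

end Groth.Agent.H78.HJ
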