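import Groth.Agent.H78.HJ2

/-!
# Hirzebruch–Jung bookkeeping, part 3: the key monomial lemma

A monomial `X₀^d₀ X₁^d₁ X₂^d₂` of weight `(n_i, 0)` with `d₀ < n_i` is divisible by
`X₁^(e_i) X₂^(l_i)`.
-/

set_option autoImplicit false
set_option maxHeartbeats 400000

namespace Groth.Agent.H78.HJ

open W4c2invhilbsl2 HJFrac

lemma eE_sub_lL (p q m : ℕ) (c : List ℤ) (i : ℕ) :
    eE p q m c i - lL p q m c i = (m : ℤ) * hjP c i := by
  unfold eE lL; push_cast; ring

lemma nN_eq' (p q m : ℕ) (c : List ℤ) (i : ℕ) :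
    nN p q m c i = ((q : ℤ) - p) * lL p q m c i - (p : ℤ) * m * hjP c i := by
  have h := eE_sub_lL p q m c i
  have : eE p q m c i = lL p q m c i + (m : ℤ) * hjP c i := by linarith
  unfold nN
  rw [this]; ring

section digits
variable {p q m : ℕ} {c : List ℤ} (hpq : p < q) (hcop : Nat.Coprime p q) (hm : 0 < m)
  (hc : IsHJDigits p q m c)

include hpq hcop hm hc

lemma nN_pos (i : ℕ) (hir : i ≤ c.length) : 0 < nN p q m c i := by
  obtain ⟨hgZ, _, _, _, _⟩ := arith_factsZ p q m hpq hcop hm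
  rw [nN_eq p q m hpq hcop hm]
  exact mul_pos hgZ (tau_pos hpq hcop hm hc i hir)

lemma nN_lt (i : ℕ) (hi : 1 ≤ i) (hir : i ≤ c.length + 1) : nN p q m c i < (q : ℤ) - p := by
  obtain ⟨hgZ, _, _, h4, _⟩ := arith_factsZ p q m hpq hcop hm
  rw [nN_eq p q m hpq hcop hm, h4]
  exact mul_lt_mul_of_pos_left (tau_lt_b hpq hcop hm hc i hi hir) hgZ

lemma lL_pos (i : ℕ) (hi : 1 ≤ i) (hir : i ≤ c.length) : 0 < lL p q m c i := by
  have h1 := nN_eq' p q m c i
  have h2 := nN_pos hpq hcop hm hc i hir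
  have hP : 0 < hjP c i := hjP_pos hc i hi (by omega)
  have hqp : (0 : ℤ) < (q : ℤ) - p := by
    have : (p : ℤ) < q := by exact_mod_cast hpq
    linarith
  have h3 : (0 : ℤ) ≤ (p : ℤ) * m * hjP c i := by positivity
  have h4 : 0 < ((q : ℤ) - p) * lL p q m c i := by linarith
  exact pos_of_mul_pos_left_aux hqp h4
where
  pos_of_mul_pos_left_aux {a b : ℤ} (ha : 0 < a) (h : 0 < a * b) : 0 < b := by
    by_contra hb
    push Not at hb
    have : a * b ≤ 0 := mul_nonpos_of_nonneg_of_nonpos ha.le hb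
    linarith

lemma eE_pos (i : ℕ) (hi : 1 ≤ i) (hir : i ≤ c.length) : 0 < eE p q m c i := by
  have h1 := eE_sub_lL p q m c i
  have h2 := lL_pos hpq hcop hm hc i hi hir
  have hP : 0 < hjP c i := hjP_pos hc i hi (by omega)
  have : (0 : ℤ) ≤ (m : ℤ) * hjP c i := by positivity
  linarith

/-- The key monomial lemma. -/
lemma key (i : ℕ) (hi : 1 ≤ i) (hir : i ≤ c.length) (d0 d1 d2 : ℕ)
    (hw : (d0 : ℤ) - p * d1 + q * d2 = nN p q m c i) (hdvd : (m : ℤ) ∣ (d1 : ℤ) - d2)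
    (hlt : (d0 : ℤ) < nN p q m c i) :
    eE p q m c i ≤ d1 ∧ lL p q m c i ≤ d2 := by
  obtain ⟨hgZ, hbZ, htZ, h4, h5⟩ := arith_factsZ p q m hpq hcop hm
  have hmZ : (0 : ℤ) < m := by exact_mod_cast hm
  have hpZ : (0 : ℤ) ≤ p := by positivity
  have hqp : (0 : ℤ) < (q : ℤ) - p := by
    have : (p : ℤ) < q := by exact_mod_cast hpq
    linarith
  have hnlt := nN_lt hpq hcop hm hc i hi (by omega)
  have hnN := nN_eq p q m hpq hcop hm c i
  have hn' := nN_eq' p q m c i
  have hel := eE_sub_lL p q m c i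
  obtain ⟨x, hx⟩ := hdvd
  set n := nN p q m c i with hn
  set y := n - d0 with hy
  have hy0 : 0 < y := by linarith
  have hd0 : (0 : ℤ) ≤ d0 := by positivity
  have hd1 : (0 : ℤ) ≤ d1 := by positivity
  have hd2 : (0 : ℤ) ≤ d2 := by positivity
  have hyn : y ≤ n := by linarith
  have hyx : y = ((q : ℤ) - p) * d2 - (p : ℤ) * m * x := by
    have : (d1 : ℤ) = d2 + m * x := by linarith
    rw [hy, ← hw, this]; ring
  -- Step 1
  have hx1 : 1 ≤ x := by
    by_contra hcon
    push Not at hcon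
    have hx0 : x ≤ 0 := by omega
    have h6 : (p : ℤ) * m * x ≤ 0 := mul_nonpos_of_nonneg_of_nonpos (by positivity) hx0
    have h7 : ((q : ℤ) - p) * d2 < ((q : ℤ) - p) * 1 := by linarith
    have h8 : (d2 : ℤ) < 1 := lt_of_mul_lt_mul_left h7 hqp.le
    have h9 : (d2 : ℤ) = 0 := by omega
    have h10 : (m : ℤ) * x ≤ 0 := mul_nonpos_of_nonneg_of_nonpos hmZ.le hx0
    have h11 : (m : ℤ) * x = 0 := by linarith
    have h12 : (p : ℤ) * m * x = 0 := by rw [mul_assoc, h11, mul_zero]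
    rw [h9, h12] at hyx
    linarith
  -- Step 2
  have hPx : hjP c i ≤ x := by
    rcases Nat.lt_or_ge i 2 with hi2 | hi2
    · have : i = 1 := by omega
      subst this
      simpa using hx1
    · obtain ⟨j, rfl⟩ : ∃ j, i = j + 1 := ⟨i - 1, by omega⟩
      by_contra hcon
      push Not at hcon
      have hlow := lattice_lower hpq hcop hm hc j (by omega) hir x (by omega) hcon
      set ρ := ((tT p q m : ℤ) * x) % (bB p q m : ℤ) with hρdef
      set y' := ((tT p q m : ℤ) * x) / (bB p q m : ℤ) with hy'def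
      have hdiv : (bB p q m : ℤ) * y' + ρ = (tT p q m : ℤ) * x := Int.mul_ediv_add_emod _ _
      have hρ0 : 0 ≤ ρ := Int.emod_nonneg _ hbZ.ne'
      have hρb : ρ < (bB p q m : ℤ) := Int.emod_lt_of_pos _ hbZ
      have hτlt : tau p q m c (j + 1) < tau p q m c j := tau_lt hpq hcop hm hc j (by omega)
      have hK : y - (gcdK p q m : ℤ) * ρ =
          ((q : ℤ) - p) * ((d2 : ℤ) - ((alpha p q m : ℤ) + 1) * x + y') := by
        have h5' : (m : ℤ) * p = ((alpha p q m : ℤ) + 1) * ((q : ℤ) - p) -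
            (gcdK p q m : ℤ) * (tT p q m : ℤ) := by linarith
        have e1 : (p : ℤ) * m * x = ((m : ℤ) * p) * x := by ring
        rw [hyx, e1, h5']
        have e2 : (gcdK p q m : ℤ) * (tT p q m : ℤ) * x =
            (gcdK p q m : ℤ) * ((bB p q m : ℤ) * y' + ρ) := by rw [hdiv]; ring
        linear_combination e2 - y' * h4
      have hgρ0 : 0 ≤ (gcdK p q m : ℤ) * ρ := mul_nonneg hgZ.le hρ0
      have hgρb : (gcdK p q m : ℤ) * ρ < (q : ℤ) - p := by
        rw [h4]; exact mul_lt_mul_of_pos_left hρb hgZ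
      have habs : |y - (gcdK p q m : ℤ) * ρ| < (q : ℤ) - p := by
        rw [abs_lt]; constructor <;> linarith
      have hzero : y - (gcdK p q m : ℤ) * ρ = 0 :=
        Int.eq_zero_of_abs_lt_dvd ⟨_, hK⟩ habs
      have h13 : (gcdK p q m : ℤ) * ρ ≤ (gcdK p q m : ℤ) * tau p q m c (j + 1) := by
        rw [← hnN]; linarith
      have h14 : ρ ≤ tau p q m c (j + 1) := le_of_mul_le_mul_left h13 hgZ
      linarith
  -- Step 3
  have hl : lL p q m c i ≤ d2 := by
    have h15 : ((q : ℤ) - p) * ((d2 : ℤ) - lL p q m c i + 1) =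
        y + (p : ℤ) * m * (x - hjP c i) + ((q : ℤ) - p - n) := by
      rw [hyx, hn']; ring
    have h16 : (0 : ℤ) ≤ (p : ℤ) * m * (x - hjP c i) :=
      mul_nonneg (by positivity) (by linarith)
    have h17 : 0 < ((q : ℤ) - p) * ((d2 : ℤ) - lL p q m c i + 1) := by linarith
    have h18 : 0 < (d2 : ℤ) - lL p q m c i + 1 := by
      by_contra hb
      push Not at hb
      have : ((q : ℤ) - p) * ((d2 : ℤ) - lL p q m c i + 1) ≤ 0 :=
        mul_nonpos_of_nonneg_of_nonpos hqp.le hb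
      linarith
    linarith
  refine ⟨?_, hl⟩
  have h19 : (m : ℤ) * hjP c i ≤ m * x := mul_le_mul_of_nonneg_left hPx hmZ.le
  linarith

end digits

end Groth.Agent.H78.HJ
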