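import Groth.Agent.H78.HJ3

/-!
# Hirzebruch–Jung bookkeeping, part 4: the second key lemma

A monomial `X₁^b₁ X₂^b₂` of weight `(a, 0)` with `0 < a < n_{i-1}` is divisible by
`X₁^(e_i) X₂^(l_i)`.
-/

set_option autoImplicit false
set_option maxHeartbeats 400000

namespace Groth.Agent.H78.HJ

open W4c2invhilbsl2 HJFrac

section digits
variable {p q m : ℕ} {c : List ℤ} (hpq : p < q) (hcop : Nat.Coprime p q) (hm : 0 < m)
  (hc : IsHJDigits p q m c)

include hpq hcop hm hc

lemma nN_le_zero (i : ℕ) (hir : i ≤ c.length + 1) : nN p q m c i ≤ (q : ℤ) - p := by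
  rcases Nat.eq_zero_or_pos i with h | h
  · subst h
    obtain ⟨_, _, _, h4, _⟩ := arith_factsZ p q m hpq hcop hm
    rw [nN_eq p q m hpq hcop hm, tau_zero, h4]
  · exact (nN_lt hpq hcop hm hc i h hir).le

/-- The second key monomial lemma. -/
lemma key2 (i : ℕ) (hi : 1 ≤ i) (hir : i ≤ c.length) (b1 b2 : ℕ) (a : ℤ)
    (hw : a = -(p : ℤ) * b1 + q * b2) (hdvd : (m : ℤ) ∣ (b1 : ℤ) - b2)
    (ha0 : 0 < a) (halt : a < nN p q m c (i - 1)) :
    eE p q m c i ≤ b1 ∧ lL p q m c i ≤ b2 := by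
  obtain ⟨hgZ, hbZ, htZ, h4, h5⟩ := arith_factsZ p q m hpq hcop hm
  have hmZ : (0 : ℤ) < m := by exact_mod_cast hm
  have hpZ : (0 : ℤ) ≤ p := by positivity
  have hqp : (0 : ℤ) < (q : ℤ) - p := by
    have : (p : ℤ) < q := by exact_mod_cast hpq
    linarith
  have hnprev := nN_le_zero hpq hcop hm hc (i - 1) (by omega)
  have hnlt := nN_lt hpq hcop hm hc i hi (by omega)
  have hn' := nN_eq' p q m c i
  have hel := eE_sub_lL p q m c i
  obtain ⟨x, hx⟩ := hdvd
  have hd1 : (0 : ℤ) ≤ b1 := by positivity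
  have hd2 : (0 : ℤ) ≤ b2 := by positivity
  have haq : a < (q : ℤ) - p := by linarith
  have hyx : a = ((q : ℤ) - p) * b2 - (p : ℤ) * m * x := by
    have : (b1 : ℤ) = b2 + m * x := by linarith
    rw [hw, this]; ring
  -- Step 1
  have hx1 : 1 ≤ x := by
    by_contra hcon
    push Not at hcon
    have hx0 : x ≤ 0 := by omega
    have h6 : (p : ℤ) * m * x ≤ 0 := mul_nonpos_of_nonneg_of_nonpos (by positivity) hx0
    have h7 : ((q : ℤ) - p) * b2 < ((q : ℤ) - p) * 1 := by linarith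
    have h8 : (b2 : ℤ) < 1 := lt_of_mul_lt_mul_left h7 hqp.le
    have h9 : (b2 : ℤ) = 0 := by omega
    have h10 : (m : ℤ) * x ≤ 0 := mul_nonpos_of_nonneg_of_nonpos hmZ.le hx0
    have h11 : (m : ℤ) * x = 0 := by linarith
    have h12 : (p : ℤ) * m * x = 0 := by rw [mul_assoc, h11, mul_zero]
    rw [h9, h12] at hyx
    linarith
  -- Step 2
  have hPx : hjP c i ≤ x := by
    rcases Nat.lt_or_ge i 2 with hi2 | hi2
    · have : i = 1 := by omega
      subst this
      simpa using hx1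
    · obtain ⟨j, rfl⟩ : ∃ j, i = j + 1 := ⟨i - 1, by omega⟩
      by_contra hcon
      push Not at hcon
      have hlow := lattice_lower hpq hcop hm hc j (by omega) hir x (by omega) hcon
      set ρ := ((tT p q m : ℤ) * x) % (bB p q m : ℤ) with hρdef
      set y' := ((tT p q m : ℤ) * x) / (bB p q m : ℤ) with hy'def
      have hdiv : (bB p q m : ℤ) * y' + ρ = (tT p q m : ℤ) * x := Int.mul_ediv_add_emod _ _
      have hρ0 : 0 ≤ ρ := Int.emod_nonneg _ hbZ.ne'
      have hρb : ρ < (bB p q m : ℤ) := Int.emod_lt_of_pos _ hbZ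
      have hK : a - (gcdK p q m : ℤ) * ρ =
          ((q : ℤ) - p) * ((b2 : ℤ) - ((alpha p q m : ℤ) + 1) * x + y') := by
        have h5' : (m : ℤ) * p = ((alpha p q m : ℤ) + 1) * ((q : ℤ) - p) -
            (gcdK p q m : ℤ) * (tT p q m : ℤ) := by linarith
        have e1 : (p : ℤ) * m * x = ((m : ℤ) * p) * x := by ring
        rw [hyx, e1, h5']
        have e2 : (gcdK p q m : ℤ) * (tT p q m : ℤ) * x =
            (gcdK p q m : ℤ) * ((bB p q m : ℤ) * y' + ρ) := by rw [hdiv]; ring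
        linear_combination e2 - y' * h4
      have hgρ0 : 0 ≤ (gcdK p q m : ℤ) * ρ := mul_nonneg hgZ.le hρ0
      have hgρb : (gcdK p q m : ℤ) * ρ < (q : ℤ) - p := by
        rw [h4]; exact mul_lt_mul_of_pos_left hρb hgZ
      have habs : |a - (gcdK p q m : ℤ) * ρ| < (q : ℤ) - p := by
        rw [abs_lt]; constructor <;> linarith
      have hzero : a - (gcdK p q m : ℤ) * ρ = 0 :=
        Int.eq_zero_of_abs_lt_dvd ⟨_, hK⟩ habs
      have hprev : nN p q m c (j + 1 - 1) = (gcdK p q m : ℤ) * tau p q m c j := by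
        rw [Nat.add_sub_cancel]; exact nN_eq p q m hpq hcop hm c j
      rw [hprev] at halt
      have h13 : (gcdK p q m : ℤ) * ρ < (gcdK p q m : ℤ) * tau p q m c j := by linarith
      have h14 : ρ < tau p q m c j := lt_of_mul_lt_mul_left h13 hgZ.le
      linarith
  -- Step 3
  have hl : lL p q m c i ≤ b2 := by
    have h15 : ((q : ℤ) - p) * ((b2 : ℤ) - lL p q m c i + 1) =
        a + (p : ℤ) * m * (x - hjP c i) + ((q : ℤ) - p - nN p q m c i) := by
      rw [hyx, hn']; ring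
    have h16 : (0 : ℤ) ≤ (p : ℤ) * m * (x - hjP c i) :=
      mul_nonneg (by positivity) (by linarith)
    have h17 : 0 < ((q : ℤ) - p) * ((b2 : ℤ) - lL p q m c i + 1) := by linarith
    have h18 : 0 < (b2 : ℤ) - lL p q m c i + 1 := by
      by_contra hb
      push Not at hb
      have : ((q : ℤ) - p) * ((b2 : ℤ) - lL p q m c i + 1) ≤ 0 :=
        mul_nonpos_of_nonneg_of_nonpos hqp.le hb
      linarith
    linarith
  refine ⟨?_, hl⟩
  have h19 : (m : ℤ) * hjP c i ≤ m * x := mul_le_mul_of_nonneg_left hPx hmZ.le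
  linarith

end digits

end Groth.Agent.H78.HJ
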