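import Mathlib.RingTheory.GradedAlgebra.Homogeneous.Ideal
import Mathlib.RingTheory.GradedAlgebra.Radical
import Mathlib.RingTheory.Ideal.Operations
import Mathlib.Order.Preorder.Finite

set_option autoImplicit false
set_option maxHeartbeats 400000

namespace Groth.Agent.H78

open DirectSum

variable {R A : Type*} [CommRing R] [CommRing A] [Algebra R A]
  (𝒜 : ℕ → Submodule R A) [GradedRing 𝒜]

/-- A homogeneous ideal not contained in a prime has a homogeneous element outside it. -/
theorem exists_homogeneous_notMem {K p : Ideal A} (hK : K.IsHomogeneous 𝒜) (hKp : ¬ K ≤ p) :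
    ∃ (i : ℕ) (w : A), w ∈ 𝒜 i ∧ w ∈ K ∧ w ∉ p := by
  classical
  obtain ⟨x, hxK, hxp⟩ := SetLike.not_le_iff_exists.mp hKp
  by_contra hcon
  push Not at hcon
  apply hxp
  rw [← DirectSum.sum_support_decompose 𝒜 x]
  refine Ideal.sum_mem _ fun i _ => ?_
  exact hcon i _ (SetLike.coe_mem _) (hK i hxK)

/-- Homogeneous prime avoidance for homogeneous primes. -/
theorem exists_homogeneous_notMem_of_primes (J : Ideal A) (hJ : J.IsHomogeneous 𝒜)
    (hJirr : J ≤ (HomogeneousIdeal.irrelevant 𝒜).toIdeal)
    (Q : Finset (Ideal A)) (hQ : ∀ q ∈ Q, q.IsPrime ∧ q.IsHomogeneous 𝒜 ∧ ¬ J ≤ q) :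
    ∃ (z : A) (n : ℕ), 0 < n ∧ z ∈ 𝒜 n ∧ z ∈ J ∧ ∀ q ∈ Q, z ∉ q := by
  classical
  induction hn : Q.card using Nat.strong_induction_on generalizing Q with
  | _ N ih =>
    rcases Q.eq_empty_or_nonempty with rfl | hne
    · exact ⟨0, 1, Nat.one_pos, zero_mem _, zero_mem _, by simp⟩
    obtain ⟨p0, hp0⟩ := Q.exists_minimal hne
    have hp0Q : p0 ∈ Q := hp0.prop
    have hp0prime : p0.IsPrime := (hQ p0 hp0Q).1
    obtain ⟨z', n', hn', hz'deg, hz'J, hz'⟩ := ih (Q.erase p0).card
      (by rw [← hn]; exact Finset.card_erase_lt_of_mem hp0Q) (Q.erase p0)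
      (fun q hq => hQ q (Finset.mem_of_mem_erase hq)) rfl
    by_cases hmem : z' ∈ p0
    · have hprodhom : (J * (Q.erase p0).prod id).IsHomogeneous 𝒜 := by
        apply hJ.mul
        have : ∀ (T : Finset (Ideal A)), (∀ q ∈ T, q.IsHomogeneous 𝒜) →
            (T.prod id).IsHomogeneous 𝒜 := by
          intro T
          induction T using Finset.induction_on with
          | empty =>
            intro _
            rw [Finset.prod_empty, Ideal.one_eq_top]
            exact Ideal.IsHomogeneous.top 𝒜
          | insert a T ha ihT =>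
            intro hT
            rw [Finset.prod_insert ha]
            exact (hT a (Finset.mem_insert_self _ _)).mul
              (ihT fun q hq => hT q (Finset.mem_insert_of_mem hq))
        exact this _ fun q hq => (hQ q (Finset.mem_of_mem_erase hq)).2.1
      have hprod : ¬ J * (Q.erase p0).prod id ≤ p0 := by
        rw [hp0prime.mul_le, hp0prime.prod_le]
        rintro (h1 | ⟨q, hq, hqle⟩)
        · exact (hQ p0 hp0Q).2.2 h1
        · have hqQ : q ∈ Q := Finset.mem_of_mem_erase hq
          have hne' : q ≠ p0 := Finset.ne_of_mem_erase hq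
          have : p0 ≤ q := hp0.le_of_le hqQ hqle
          exact hne' (le_antisymm hqle this)
      obtain ⟨i, w, hwdeg, hwK, hwp0⟩ := exists_homogeneous_notMem 𝒜 hprodhom hprod
      have hwJ : w ∈ J := (Ideal.mul_le_left (I := J) (J := (Q.erase p0).prod id)) hwK
      have hwq : ∀ q ∈ Q.erase p0, w ∈ q := by
        intro q hq
        have h1 : J * (Q.erase p0).prod id ≤ (Q.erase p0).prod id := Ideal.mul_le_right
        have h2 : (Q.erase p0).prod id ≤ (Q.erase p0).inf id := Ideal.prod_le_inf
        have h3 : (Q.erase p0).inf id ≤ id q := Finset.inf_le hq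
        exact h3 (h2 (h1 hwK))
      have hi : 0 < i := by
        rcases Nat.eq_zero_or_pos i with rfl | hi
        · exfalso
          apply hwp0
          have hirr : w ∈ HomogeneousIdeal.irrelevant 𝒜 := hJirr hwJ
          rw [HomogeneousIdeal.mem_irrelevant_iff, GradedRing.proj_apply,
            DirectSum.decompose_of_mem_same _ hwdeg] at hirr
          rw [hirr]; exact zero_mem _
        · exact hi
      refine ⟨z' ^ i + w ^ n', n' * i, Nat.mul_pos hn' hi, ?_, ?_, ?_⟩
      · apply Submodule.add_mem
        · have := SetLike.pow_mem_graded i hz'deg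
          rwa [smul_eq_mul, mul_comm] at this
        · have := SetLike.pow_mem_graded n' hwdeg
          rwa [smul_eq_mul] at this
      · exact J.add_mem (J.pow_mem_of_mem hz'J i hi) (J.pow_mem_of_mem hwJ n' hn')
      · intro q hq hcontra
        by_cases hqp0 : q = p0
        · subst hqp0
          have h1 : z' ^ i ∈ q := q.pow_mem_of_mem hmem i hi
          have h2 : w ^ n' ∈ q := by
            have := q.sub_mem hcontra h1
            simpa using this
          exact hwp0 (hp0prime.mem_of_pow_mem _ h2)
        · have hqe : q ∈ Q.erase p0 := Finset.mem_erase.mpr ⟨hqp0, hq⟩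
          have hqprime : q.IsPrime := (hQ q hq).1
          have h1 : w ^ n' ∈ q := q.pow_mem_of_mem (hwq q hqe) n' hn'
          have h2 : z' ^ i ∈ q := by
            have := q.sub_mem hcontra h1
            simpa using this
          exact hz' q hqe (hqprime.mem_of_pow_mem _ h2)
    · refine ⟨z', n', hn', hz'deg, hz'J, ?_⟩
      intro q hq
      by_cases hqp0 : q = p0
      · subst hqp0; exact hmem
      · exact hz' q (Finset.mem_erase.mpr ⟨hqp0, hq⟩)

end Groth.Agent.H78
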