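import Mathlib.RingTheory.MvPolynomial.WeightedHomogeneous
import Mathlib.RingTheory.Ideal.Quotient.Operations
import Mathlib.LinearAlgebra.Dimension.FreeAndStrongRankCondition
import Mathlib.Tactic

/-!
# Rank of the image of a weight piece in a quotient of a polynomial ring

If any two monomials of weight `ν` have proportional images in `k[X]/I`, then the image of the
weight-`ν` piece has dimension at most one.
-/

set_option autoImplicit false
set_option maxHeartbeats 400000

namespace Groth.Agent.H78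

open MvPolynomial

theorem rank_map_weightedHomogeneousSubmodule_le_one {σ : Type*} {k : Type*} [Field k]
    {M : Type*} [AddCommMonoid M]
    (w : σ → M) (I : Ideal (MvPolynomial σ k)) (ν : M)
    (h : ∀ d e : σ →₀ ℕ, Finsupp.weight w d = ν → Finsupp.weight w e = ν →
      (∃ a : k, Ideal.Quotient.mkₐ k I (monomial d 1) = a • Ideal.Quotient.mkₐ k I (monomial e 1)) ∨
      (∃ a : k, Ideal.Quotient.mkₐ k I (monomial e 1) = a • Ideal.Quotient.mkₐ k I (monomial d 1))) :
    Module.rank k (Submodule.map (Ideal.Quotient.mkₐ k I).toLinearMap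
      (weightedHomogeneousSubmodule k w ν)) ≤ 1 := by
  have : Module.Free k ↥(Submodule.map (Ideal.Quotient.mkₐ k I).toLinearMap
      (weightedHomogeneousSubmodule k w ν)) := Module.Free.of_divisionRing _ _
  rw [rank_submodule_le_one_iff']
  have hv : ∃ v₀ : MvPolynomial σ k ⧸ I, ∀ d : σ →₀ ℕ, Finsupp.weight w d = ν →
      ∃ a : k, Ideal.Quotient.mkₐ k I (monomial d 1) = a • v₀ := by
    by_cases hall : ∀ d : σ →₀ ℕ, Finsupp.weight w d = ν →
        Ideal.Quotient.mkₐ k I (monomial d (1 : k)) = 0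
    · exact ⟨0, fun d hd => ⟨0, by rw [hall d hd, smul_zero]⟩⟩
    · push Not at hall
      obtain ⟨d₀, hd₀, hne⟩ := hall
      refine ⟨Ideal.Quotient.mkₐ k I (monomial d₀ 1), fun d hd => ?_⟩
      rcases h d d₀ hd hd₀ with ⟨a, ha⟩ | ⟨a, ha⟩
      · exact ⟨a, ha⟩
      · have ha0 : a ≠ 0 := by
          rintro rfl
          rw [zero_smul] at ha
          exact hne ha
        refine ⟨a⁻¹, ?_⟩
        rw [ha, smul_smul, inv_mul_cancel₀ ha0, one_smul]
  obtain ⟨v₀, hv₀⟩ := hv
  refine ⟨v₀, ?_⟩
  rintro _ ⟨f, hf, rfl⟩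
  have hf' : f = ∑ d ∈ f.support, (coeff d f) • monomial d (1 : k) := by
    conv_lhs => rw [f.as_sum]
    refine Finset.sum_congr rfl fun d _ => ?_
    rw [smul_monomial, smul_eq_mul, mul_one]
  change (Ideal.Quotient.mkₐ k I) f ∈ _
  rw [hf', map_sum]
  refine Submodule.sum_mem _ fun d hd => ?_
  rw [map_smul]
  refine Submodule.smul_mem _ _ ?_
  have hwd : Finsupp.weight w d = ν := hf (mem_support_iff.mp hd)
  obtain ⟨a, ha⟩ := hv₀ d hwd
  rw [ha]
  exact Submodule.smul_mem _ _ (Submodule.mem_span_singleton_self _)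

end Groth.Agent.H78
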