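import Mathlib.RingTheory.MvPolynomial.WeightedHomogeneous
import Mathlib.RingTheory.Ideal.Quotient.Operations
import Mathlib.Tactic

/-!
# Weighted homogeneous pieces: reduction to monomials, and "generated over the weight-zero
subring modulo an ideal" as a submodule
-/

set_option autoImplicit false
set_option maxHeartbeats 400000

namespace Groth.Agent.H78

open MvPolynomial

section
variable {σ : Type*} {k : Type*} [CommRing k] {M : Type*} [AddCommMonoid M]

/-- A `k`-submodule of the polynomial ring containing all monomials of weight `ν` contains the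
whole weight-`ν` piece. -/
theorem weightedHomogeneousSubmodule_le_of_monomial_mem (w : σ → M) (ν : M)
    (T : Submodule k (MvPolynomial σ k))
    (h : ∀ d : σ →₀ ℕ, Finsupp.weight w d = ν → monomial d (1 : k) ∈ T) :
    weightedHomogeneousSubmodule k w ν ≤ T := by
  intro f hf
  have hf' : f = ∑ d ∈ f.support, (coeff d f) • monomial d (1 : k) := by
    conv_lhs => rw [f.as_sum]
    refine Finset.sum_congr rfl fun d _ => ?_
    rw [smul_monomial, smul_eq_mul, mul_one]
  rw [hf']
  refine Submodule.sum_mem _ fun d hd => ?_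
  refine Submodule.smul_mem _ _ (h d ?_)
  exact hf (mem_support_iff.mp hd)

/-- The set of `f` that are, modulo the ideal `P`, combinations `∑ i ∈ s, a i * gens i` with
coefficients in the submodule `W`; it is a `k`-submodule. -/
def genSub (W : Submodule k (MvPolynomial σ k)) (P : Ideal (MvPolynomial σ k)) {ι : Type*}
    (s : Finset ι) (gens : ι → MvPolynomial σ k) : Submodule k (MvPolynomial σ k) where
  carrier := {f | ∃ a : ι → MvPolynomial σ k, (∀ i, a i ∈ W) ∧ f - ∑ i ∈ s, a i * gens i ∈ P}
  zero_mem' := ⟨0, fun _ => W.zero_mem, by simp⟩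
  add_mem' := by
    rintro f f' ⟨a, ha, hf⟩ ⟨a', ha', hf'⟩
    refine ⟨a + a', fun i => W.add_mem (ha i) (ha' i), ?_⟩
    have : f + f' - ∑ i ∈ s, (a + a') i * gens i =
        (f - ∑ i ∈ s, a i * gens i) + (f' - ∑ i ∈ s, a' i * gens i) := by
      simp only [Pi.add_apply, add_mul, Finset.sum_add_distrib]; ring
    rw [this]; exact P.add_mem hf hf'
  smul_mem' := by
    rintro c f ⟨a, ha, hf⟩
    refine ⟨c • a, fun i => W.smul_mem c (ha i), ?_⟩
    have : c • f - ∑ i ∈ s, (c • a) i * gens i = c • (f - ∑ i ∈ s, a i * gens i) := by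
      simp only [Pi.smul_apply, smul_mul_assoc, ← Finset.smul_sum, smul_sub]
    rw [this, ← C_mul']
    exact P.mul_mem_left _ hf

lemma mem_genSub_iff {W : Submodule k (MvPolynomial σ k)} {P : Ideal (MvPolynomial σ k)}
    {ι : Type*} {s : Finset ι} {gens : ι → MvPolynomial σ k} {f : MvPolynomial σ k} :
    f ∈ genSub W P s gens ↔
      ∃ a : ι → MvPolynomial σ k, (∀ i, a i ∈ W) ∧ f - ∑ i ∈ s, a i * gens i ∈ P := Iff.rfl

lemma mem_genSub_of_mem_ideal {W : Submodule k (MvPolynomial σ k)} {P : Ideal (MvPolynomial σ k)}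
    {ι : Type*} {s : Finset ι} {gens : ι → MvPolynomial σ k} {f : MvPolynomial σ k} (hf : f ∈ P) :
    f ∈ genSub W P s gens :=
  ⟨0, fun _ => W.zero_mem, by simpa using hf⟩

lemma mul_gen_mem_genSub {W : Submodule k (MvPolynomial σ k)} {P : Ideal (MvPolynomial σ k)}
    {ι : Type*} {s : Finset ι} {gens : ι → MvPolynomial σ k} {a₀ : MvPolynomial σ k} {i₀ : ι}
    (hi₀ : i₀ ∈ s) (ha₀ : a₀ ∈ W) : a₀ * gens i₀ ∈ genSub W P s gens := by
  classical
  refine ⟨fun i => if i = i₀ then a₀ else 0, fun i => ?_, ?_⟩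
  · by_cases h : i = i₀
    · simp only [h, if_true]; exact ha₀
    · simp only [h, if_false]; exact W.zero_mem
  · have : ∑ i ∈ s, (if i = i₀ then a₀ else 0) * gens i = a₀ * gens i₀ := by
      simp only [ite_mul, zero_mul]
      rw [Finset.sum_ite_eq' s i₀]
      simp [hi₀]
    rw [this, sub_self]
    exact P.zero_mem

/-- If `f ≡ a₀ * gens i₀` modulo `P`, then `f ∈ genSub`. -/
lemma mem_genSub_of_sub_mem {W : Submodule k (MvPolynomial σ k)} {P : Ideal (MvPolynomial σ k)}
    {ι : Type*} {s : Finset ι} {gens : ι → MvPolynomial σ k} {f g : MvPolynomial σ k}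
    (hg : g ∈ genSub W P s gens) (h : f - g ∈ P) : f ∈ genSub W P s gens := by
  have : f = (f - g) + g := by ring
  rw [this]
  exact (genSub W P s gens).add_mem (mem_genSub_of_mem_ideal h) hg

end

end Groth.Agent.H78
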