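import Groth.Prelude.Def_W4c2invhilbsl2
import Groth.Agent.H78.WHom
import Mathlib.Tactic

/-!
# Monomials and weights for the gradings `wt5` and `wt3` of `Def_W4c2invhilbsl2`
-/

set_option autoImplicit false
set_option maxHeartbeats 400000

namespace Groth.Agent.H78

open MvPolynomial W4c2invhilbsl2

lemma monomial5 (k : Type*) [CommSemiring k] (d : Fin 5 →₀ ℕ) :
    (monomial d (1:k)) = X 0 ^ d 0 * X 1 ^ d 1 * X 2 ^ d 2 * X 3 ^ d 3 * X 4 ^ d 4 := by
  rw [monomial_eq, C_1, one_mul, Finsupp.prod_fintype _ _ (fun i => pow_zero _), Fin.prod_univ_five]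

lemma weight5 (p q m : ℕ) (d : Fin 5 →₀ ℕ) :
    Finsupp.weight (wt5 p q m) d = ((d 0 : ℤ) - p * d 1 - p * d 2 + q * d 3 + q * d 4,
      -(d 1 : ZMod m) - d 2 + d 3 + d 4) := by
  rw [Finsupp.weight_apply, Finsupp.sum_fintype _ _ (fun i => by simp), Fin.sum_univ_five]
  simp [wt5]
  constructor <;> ring

lemma monomial3 (k : Type*) [CommSemiring k] (d : Fin 3 →₀ ℕ) :
    (monomial d (1:k)) = X 0 ^ d 0 * X 1 ^ d 1 * X 2 ^ d 2 := by
  rw [monomial_eq, C_1, one_mul, Finsupp.prod_fintype _ _ (fun i => pow_zero _), Fin.prod_univ_three]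

lemma weight3 (p q m : ℕ) (d : Fin 3 →₀ ℕ) :
    Finsupp.weight (wt3 p q m) d = ((d 0 : ℤ) - p * d 1 + q * d 2, -(d 1 : ZMod m) + d 2) := by
  rw [Finsupp.weight_apply, Finsupp.sum_fintype _ _ (fun i => by simp), Fin.sum_univ_three]
  simp [wt3]
  ring

lemma isWH5 (k : Type*) [CommSemiring k] (p q m : ℕ) (a0 a1 a2 a3 a4 : ℕ) (ν : ℤ × ZMod m)
    (hν : ν = ((a0 : ℤ) - p * a1 - p * a2 + q * a3 + q * a4, -(a1 : ZMod m) - a2 + a3 + a4)) :
    (X 0 ^ a0 * X 1 ^ a1 * X 2 ^ a2 * X 3 ^ a3 * X 4 ^ a4 : MvPolynomial (Fin 5) k) ∈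
      weightedHomogeneousSubmodule k (wt5 p q m) ν := by
  have h := ((((isWeightedHomogeneous_X k (wt5 p q m) 0).pow a0).mul
    ((isWeightedHomogeneous_X k (wt5 p q m) 1).pow a1)).mul
    ((isWeightedHomogeneous_X k (wt5 p q m) 2).pow a2)).mul
    ((isWeightedHomogeneous_X k (wt5 p q m) 3).pow a3) |>.mul
    ((isWeightedHomogeneous_X k (wt5 p q m) 4).pow a4)
  rw [mem_weightedHomogeneousSubmodule]
  convert h using 1
  rw [hν]
  simp [wt5]
  constructor <;> ring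

lemma isWH3 (k : Type*) [CommSemiring k] (p q m : ℕ) (a0 a1 a2 : ℕ) (ν : ℤ × ZMod m)
    (hν : ν = ((a0 : ℤ) - p * a1 + q * a2, -(a1 : ZMod m) + a2)) :
    (X 0 ^ a0 * X 1 ^ a1 * X 2 ^ a2 : MvPolynomial (Fin 3) k) ∈
      weightedHomogeneousSubmodule k (wt3 p q m) ν := by
  have h := (((isWeightedHomogeneous_X k (wt3 p q m) 0).pow a0).mul
    ((isWeightedHomogeneous_X k (wt3 p q m) 1).pow a1)).mul
    ((isWeightedHomogeneous_X k (wt3 p q m) 2).pow a2)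
  rw [mem_weightedHomogeneousSubmodule]
  convert h using 1
  rw [hν]
  simp [wt3]
  ring

end Groth.Agent.H78
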