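import Groth.Agent.H78.HJ4
import Groth.Agent.H78.Wt5
import Groth.Agent.H78.PieceRank

/-!
# The weight pieces of `k[X₀,X₁,X₂] ⧸ idealL` have dimension at most one (any parameter `s`)
-/

set_option autoImplicit false
set_option maxHeartbeats 400000

namespace Groth.Agent.H78.IdealL

open MvPolynomial W4c2invhilbsl2 Groth.Agent.H78 Groth.Agent.H78.HJ

universe u

section
variable (k : Type u) [Field k] (p q m : ℕ) (c : List ℤ) (i : ℕ) (s : k)

/-- two polynomials have proportional images in the quotient by `idealL` -/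
def Rel (M M' : MvPolynomial (Fin 3) k) : Prop :=
  (∃ a : k, Ideal.Quotient.mkₐ k (idealL k p q m c i s) M =
      a • Ideal.Quotient.mkₐ k (idealL k p q m c i s) M') ∨
  (∃ a : k, Ideal.Quotient.mkₐ k (idealL k p q m c i s) M' =
      a • Ideal.Quotient.mkₐ k (idealL k p q m c i s) M)

variable {k p q m c i s}

lemma rel_refl (M : MvPolynomial (Fin 3) k) : Rel k p q m c i s M M :=
  Or.inl ⟨1, (one_smul _ _).symm⟩

lemma rel_zero_left {M M' : MvPolynomial (Fin 3) k} (h : M ∈ idealL k p q m c i s) :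
    Rel k p q m c i s M M' := by
  refine Or.inl ⟨0, ?_⟩
  rw [zero_smul, Ideal.Quotient.mkₐ_eq_mk, Ideal.Quotient.eq_zero_iff_mem]
  exact h

lemma rel_zero_right {M M' : MvPolynomial (Fin 3) k} (h : M' ∈ idealL k p q m c i s) :
    Rel k p q m c i s M M' := by
  refine Or.inr ⟨0, ?_⟩
  rw [zero_smul, Ideal.Quotient.mkₐ_eq_mk, Ideal.Quotient.eq_zero_iff_mem]
  exact h

lemma rel_smul {M M' M'' : MvPolynomial (Fin 3) k} (s' : k)
    (h : M' - C s' * M'' ∈ idealL k p q m c i s) (hr : Rel k p q m c i s M M'') :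
    Rel k p q m c i s M M' := by
  have h' : Ideal.Quotient.mkₐ k (idealL k p q m c i s) M' =
      s' • Ideal.Quotient.mkₐ k (idealL k p q m c i s) M'' := by
    rw [← map_smul, Ideal.Quotient.mkₐ_eq_mk, Ideal.Quotient.eq, ← C_mul']
    exact h
  rcases hr with ⟨a, ha⟩ | ⟨a, ha⟩
  · by_cases hs : s' = 0
    · refine Or.inr ⟨0, ?_⟩
      rw [h', hs, zero_smul, zero_smul]
    · refine Or.inl ⟨a * s'⁻¹, ?_⟩
      rw [ha, h', smul_smul, mul_assoc, inv_mul_cancel₀ hs, mul_one]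
  · refine Or.inr ⟨s' * a, ?_⟩
    rw [h', ha, smul_smul]

lemma rel_symm {M M' : MvPolynomial (Fin 3) k} (h : Rel k p q m c i s M M') :
    Rel k p q m c i s M' M := Or.symm h

variable (k p q m c i s)

lemma F1_mem : (X 0 ^ (nN p q m c (i - 1)).toNat : MvPolynomial (Fin 3) k) ∈ idealL k p q m c i s :=
  Ideal.mem_sup_left (Ideal.subset_span (by simp))

lemma F2_mem : (C s * X 0 ^ (nN p q m c i).toNat -
    X 1 ^ (eE p q m c i).toNat * X 2 ^ (lL p q m c i).toNat : MvPolynomial (Fin 3) k) ∈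
    idealL k p q m c i s :=
  Ideal.mem_sup_left (Ideal.subset_span (by simp))

/-- weight-zero monomials other than `1` lie in `idealL` -/
lemma kmem (z0 z1 z2 : ℕ) (hz : ¬ (z0 = 0 ∧ z1 = 0 ∧ z2 = 0))
    (hw : (z0 : ℤ) - p * z1 + q * z2 = 0) (hdvd : (m : ℤ) ∣ (z1 : ℤ) - z2) :
    (X 0 ^ z0 * X 1 ^ z1 * X 2 ^ z2 : MvPolynomial (Fin 3) k) ∈ idealL k p q m c i s := by
  refine Ideal.mem_sup_right (Ideal.subset_span ?_)
  let z : Fin 3 →₀ ℕ := Finsupp.equivFunOnFinite.symm ![z0, z1, z2]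
  have hz0 : z 0 = z0 := rfl
  have hz1 : z 1 = z1 := rfl
  have hz2 : z 2 = z2 := rfl
  refine ⟨z, ?_, ?_, ?_⟩
  · intro h
    apply hz
    refine ⟨?_, ?_, ?_⟩
    · rw [← hz0, h]; rfl
    · rw [← hz1, h]; rfl
    · rw [← hz2, h]; rfl
  · rw [weight3, hz0, hz1, hz2, Prod.zero_eq_mk, Prod.mk.injEq]
    refine ⟨hw, ?_⟩
    have h3 : ((-(z1 : ℤ) + z2 : ℤ) : ZMod m) = 0 := by
      rw [ZMod.intCast_zmod_eq_zero_iff_dvd]
      have : -(z1 : ℤ) + z2 = -((z1 : ℤ) - z2) := by ring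
      rw [this]
      exact (dvd_neg).mpr hdvd
    push_cast at h3
    exact h3
  · rw [monomial3, hz0, hz1, hz2]

end

section main
variable {k : Type u} [Field k] {p q m : ℕ} {c : List ℤ} {i : ℕ} (s : k)
  (hpq : p < q) (hcop : Nat.Coprime p q) (hm : 0 < m)
  (hc : IsHJDigits p q m c) (hi : 1 ≤ i) (hir : i ≤ c.length)

include hpq hcop hm hc hi hir

lemma typeI : ∀ a : ℕ, ∀ g0 g1 g2 b1 b2 : ℕ, (a : ℤ) = -(p : ℤ) * b1 + q * b2 →
    (m : ℤ) ∣ (b1 : ℤ) - b2 →
    Rel k p q m c i s (X 0 ^ (g0 + a) * X 1 ^ g1 * X 2 ^ g2)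
      (X 0 ^ g0 * X 1 ^ (g1 + b1) * X 2 ^ (g2 + b2)) := by
  intro a
  induction a using Nat.strong_induction_on with
  | _ a ih =>
  intro g0 g1 g2 b1 b2 ha hdvd
  have hn0 : 0 < nN p q m c i := nN_pos hpq hcop hm hc i hir
  have hnp0 : 0 < nN p q m c (i - 1) := nN_pos hpq hcop hm hc (i - 1) (by omega)
  have he0 : 0 < eE p q m c i := eE_pos hpq hcop hm hc i hi hir
  have hl0 : 0 < lL p q m c i := lL_pos hpq hcop hm hc i hi hir
  have hnT : ((nN p q m c i).toNat : ℤ) = nN p q m c i := Int.toNat_of_nonneg hn0.le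
  have hnpT : ((nN p q m c (i - 1)).toNat : ℤ) = nN p q m c (i - 1) := Int.toNat_of_nonneg hnp0.le
  have heT : ((eE p q m c i).toNat : ℤ) = eE p q m c i := Int.toNat_of_nonneg he0.le
  have hlT : ((lL p q m c i).toNat : ℤ) = lL p q m c i := Int.toNat_of_nonneg hl0.le
  have hel := eE_sub_lL p q m c i
  have hnd : nN p q m c i = -(p : ℤ) * eE p q m c i + (q : ℤ) * lL p q m c i := rfl
  rcases Nat.eq_zero_or_pos a with ha0 | ha0
  · subst ha0
    by_cases hb : b1 = 0 ∧ b2 = 0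
    · obtain ⟨rfl, rfl⟩ := hb
      exact rel_refl _
    · refine rel_zero_right ?_
      have e : (X 0 ^ g0 * X 1 ^ (g1 + b1) * X 2 ^ (g2 + b2) : MvPolynomial (Fin 3) k) =
          (X 0 ^ g0 * X 1 ^ g1 * X 2 ^ g2) * (X 0 ^ 0 * X 1 ^ b1 * X 2 ^ b2) := by ring
      rw [e]
      refine Ideal.mul_mem_left _ _ (kmem k p q m c i s 0 b1 b2 (fun h => hb ⟨h.2.1, h.2.2⟩) ?_ hdvd)
      push_cast at ha ⊢
      linarith
  · rcases Nat.lt_or_ge a (nN p q m c (i - 1)).toNat with hlt | hge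
    · have haZ : (a : ℤ) < nN p q m c (i - 1) := by rw [← hnpT]; exact_mod_cast hlt
      have haZ0 : (0 : ℤ) < a := by exact_mod_cast ha0
      obtain ⟨hE, hL⟩ := key2 hpq hcop hm hc i hi hir b1 b2 (a : ℤ) ha hdvd haZ0 haZ
      have hE' : (eE p q m c i).toNat ≤ b1 := by
        have : ((eE p q m c i).toNat : ℤ) ≤ b1 := by rw [heT]; exact hE
        exact_mod_cast this
      have hL' : (lL p q m c i).toNat ≤ b2 := by
        have : ((lL p q m c i).toNat : ℤ) ≤ b2 := by rw [hlT]; exact hL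
        exact_mod_cast this
      obtain ⟨c1, hc1⟩ := Nat.exists_eq_add_of_le hE'
      obtain ⟨c2, hc2⟩ := Nat.exists_eq_add_of_le hL'
      have hc1Z : (b1 : ℤ) = eE p q m c i + c1 := by rw [← heT, hc1]; push_cast; ring
      have hc2Z : (b2 : ℤ) = lL p q m c i + c2 := by rw [← hlT, hc2]; push_cast; ring
      -- M' ≡ s • M''
      have hsm : (X 0 ^ g0 * X 1 ^ (g1 + b1) * X 2 ^ (g2 + b2) : MvPolynomial (Fin 3) k) -
          C s * (X 0 ^ (g0 + (nN p q m c i).toNat) * X 1 ^ (g1 + c1) * X 2 ^ (g2 + c2)) ∈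
          idealL k p q m c i s := by
        have e : (X 0 ^ g0 * X 1 ^ (g1 + b1) * X 2 ^ (g2 + b2) : MvPolynomial (Fin 3) k) -
            C s * (X 0 ^ (g0 + (nN p q m c i).toNat) * X 1 ^ (g1 + c1) * X 2 ^ (g2 + c2)) =
            (-(X 0 ^ g0 * X 1 ^ (g1 + c1) * X 2 ^ (g2 + c2))) *
              (C s * X 0 ^ (nN p q m c i).toNat -
                X 1 ^ (eE p q m c i).toNat * X 2 ^ (lL p q m c i).toNat) := by
          rw [hc1, hc2]; ring
        rw [e]
        exact Ideal.mul_mem_left _ _ (F2_mem k p q m c i s)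
      refine rel_smul s hsm ?_
      have hcw : -(p : ℤ) * c1 + q * c2 = (a : ℤ) - nN p q m c i := by
        rw [ha, hc1Z, hc2Z, hnd]; ring
      have hcdvd : (m : ℤ) ∣ (c1 : ℤ) - c2 := by
        have : (c1 : ℤ) - c2 = ((b1 : ℤ) - b2) - (m : ℤ) * hjP c i := by
          rw [hc1Z, hc2Z]; linarith
        rw [this]
        exact dvd_sub hdvd (Dvd.intro _ rfl)
      rcases Nat.lt_or_ge a (nN p q m c i).toNat with hlt2 | hge2
      · -- M'' is a multiple of a weight-zero monomial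
        refine rel_zero_right ?_
        obtain ⟨j, hj⟩ := Nat.exists_eq_add_of_lt hlt2
        have e : (X 0 ^ (g0 + (nN p q m c i).toNat) * X 1 ^ (g1 + c1) * X 2 ^ (g2 + c2) :
            MvPolynomial (Fin 3) k) =
            (X 0 ^ (g0 + a) * X 1 ^ g1 * X 2 ^ g2) * (X 0 ^ (j + 1) * X 1 ^ c1 * X 2 ^ c2) := by
          rw [hj]; ring
        rw [e]
        refine Ideal.mul_mem_left _ _ (kmem k p q m c i s (j + 1) c1 c2 (fun h => by omega) ?_ hcdvd)
        have hjZ : nN p q m c i = (a : ℤ) + j + 1 := by rw [← hnT, hj]; push_cast; ring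
        push_cast
        linarith
      · obtain ⟨a', ha'⟩ := Nat.exists_eq_add_of_le hge2
        have hNpos : 0 < (nN p q m c i).toNat := by
          have : (0 : ℤ) < ((nN p q m c i).toNat : ℤ) := by rw [hnT]; exact hn0
          exact_mod_cast this
        have hlt' : a' < a := by omega
        have ha'Z : (a' : ℤ) = -(p : ℤ) * c1 + q * c2 := by
          rw [hcw, ← hnT, ha']; push_cast; ring
        have := ih a' hlt' (g0 + (nN p q m c i).toNat) g1 g2 c1 c2 ha'Z hcdvd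
        rw [add_assoc, ← ha'] at this
        exact this
    · refine rel_zero_left ?_
      obtain ⟨j, hj⟩ := Nat.exists_eq_add_of_le hge
      have e : (X 0 ^ (g0 + a) * X 1 ^ g1 * X 2 ^ g2 : MvPolynomial (Fin 3) k) =
          (X 0 ^ (g0 + j) * X 1 ^ g1 * X 2 ^ g2) * X 0 ^ (nN p q m c (i - 1)).toNat := by
        rw [hj]; ring
      rw [e]
      exact Ideal.mul_mem_left _ _ (F1_mem k p q m c i s)

lemma pair (hp : 0 < p) (d0 d1 d2 e0 e1 e2 : ℕ)
    (hw1 : (d0 : ℤ) - p * d1 + q * d2 = (e0 : ℤ) - p * e1 + q * e2)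
    (hw2 : (m : ℤ) ∣ ((d1 : ℤ) - d2) - ((e1 : ℤ) - e2)) (h0 : e0 ≤ d0) :
    Rel k p q m c i s (X 0 ^ d0 * X 1 ^ d1 * X 2 ^ d2) (X 0 ^ e0 * X 1 ^ e1 * X 2 ^ e2) := by
  obtain ⟨a, rfl⟩ := Nat.exists_eq_add_of_le h0
  have hpZ : (0 : ℤ) < p := by exact_mod_cast hp
  have hqZ : (0 : ℤ) < q := by
    have : 0 < q := by omega
    exact_mod_cast this
  push_cast at hw1
  rcases Nat.lt_or_ge e1 d1 with h1 | h1
  · obtain ⟨a1, ha1⟩ := Nat.exists_eq_add_of_lt h1
    rcases Nat.lt_or_ge e2 d2 with h2 | h2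
    · -- (D)
      obtain ⟨a2, ha2⟩ := Nat.exists_eq_add_of_lt h2
      refine rel_zero_left ?_
      have e : (X 0 ^ (e0 + a) * X 1 ^ d1 * X 2 ^ d2 : MvPolynomial (Fin 3) k) =
          (X 0 ^ e0 * X 1 ^ e1 * X 2 ^ e2) * (X 0 ^ a * X 1 ^ (a1 + 1) * X 2 ^ (a2 + 1)) := by
        rw [ha1, ha2]; ring
      rw [e]
      refine Ideal.mul_mem_left _ _ (kmem k p q m c i s a (a1 + 1) (a2 + 1) (fun h => by omega) ?_ ?_)
      · rw [ha1, ha2] at hw1; push_cast at hw1 ⊢; linarith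
      · rw [ha1, ha2] at hw2; push_cast at hw2 ⊢
        convert hw2 using 1; ring
    · -- (B)
      obtain ⟨b2, hb2⟩ := Nat.exists_eq_add_of_le h2
      rcases Nat.eq_zero_or_pos b2 with hb0 | hb0
      · subst hb0
        rw [add_zero] at hb2
        rw [hb2] at hw1 hw2 ⊢
        refine rel_zero_left ?_
        have e : (X 0 ^ (e0 + a) * X 1 ^ d1 * X 2 ^ d2 : MvPolynomial (Fin 3) k) =
            (X 0 ^ e0 * X 1 ^ e1 * X 2 ^ d2) * (X 0 ^ a * X 1 ^ (a1 + 1) * X 2 ^ 0) := by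
          rw [ha1]; ring
        rw [e]
        refine Ideal.mul_mem_left _ _ (kmem k p q m c i s a (a1 + 1) 0 (fun h => by omega) ?_ ?_)
        · rw [ha1] at hw1; push_cast at hw1 ⊢; linarith
        · rw [ha1] at hw2; push_cast at hw2 ⊢
          convert hw2 using 1; ring
      · -- a ≥ q
        refine rel_zero_left ?_
        have hnprev := nN_le_zero hpq hcop hm hc (i - 1) (by omega)
        have hnp0 : 0 < nN p q m c (i - 1) := nN_pos hpq hcop hm hc (i - 1) (by omega)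
        have hnpT : ((nN p q m c (i - 1)).toNat : ℤ) = nN p q m c (i - 1) :=
          Int.toNat_of_nonneg hnp0.le
        have haq : (q : ℤ) ≤ a := by
          rw [ha1, hb2] at hw1; push_cast at hw1
          have hb0' : (1 : ℤ) ≤ b2 := by exact_mod_cast hb0
          have : (0 : ℤ) ≤ (p : ℤ) * (a1 + 1) := by positivity
          nlinarith
        have hge : (nN p q m c (i - 1)).toNat ≤ e0 + a := by
          have : ((nN p q m c (i - 1)).toNat : ℤ) ≤ ((e0 + a : ℕ) : ℤ) := by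
            rw [hnpT]; push_cast
            have : (0 : ℤ) ≤ e0 := by positivity
            linarith
          exact_mod_cast this
        obtain ⟨j, hj⟩ := Nat.exists_eq_add_of_le hge
        have e : (X 0 ^ (e0 + a) * X 1 ^ d1 * X 2 ^ d2 : MvPolynomial (Fin 3) k) =
            (X 0 ^ j * X 1 ^ d1 * X 2 ^ d2) * X 0 ^ (nN p q m c (i - 1)).toNat := by
          rw [hj]; ring
        rw [e]
        exact Ideal.mul_mem_left _ _ (F1_mem k p q m c i s)
  · obtain ⟨b1, hb1⟩ := Nat.exists_eq_add_of_le h1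
    rcases Nat.lt_or_ge e2 d2 with h2 | h2
    · -- (C) impossible
      exfalso
      obtain ⟨a2, ha2⟩ := Nat.exists_eq_add_of_lt h2
      rw [hb1, ha2] at hw1
      push_cast at hw1
      have h3 : (0 : ℤ) ≤ a := by positivity
      have h4 : (0 : ℤ) ≤ (p : ℤ) * b1 := by positivity
      have h5 : (0 : ℤ) ≤ (q : ℤ) * a2 := by positivity
      nlinarith
    · -- (A)
      obtain ⟨b2, hb2⟩ := Nat.exists_eq_add_of_le h2
      subst hb1 hb2
      refine typeI s hpq hcop hm hc hi hir a e0 d1 d2 b1 b2 ?_ ?_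
      · push_cast at hw1; linarith
      · push_cast at hw2
        have : (b1 : ℤ) - b2 = -(((d1 : ℤ) - d2) - ((d1 : ℤ) + b1 - ((d2 : ℤ) + b2))) := by ring
        rw [this]
        exact (dvd_neg).mpr hw2

theorem rank_piece_le_one (hp : 0 < p) (ν : ℤ × ZMod m) :
    Module.rank k (piece k (wt3 p q m) (idealL k p q m c i s) ν) ≤ 1 := by
  refine rank_map_weightedHomogeneousSubmodule_le_one (wt3 p q m) (idealL k p q m c i s) ν
    (fun d e hd he => ?_)
  have hde : Finsupp.weight (wt3 p q m) d = Finsupp.weight (wt3 p q m) e := hd.trans he.symm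
  rw [weight3, weight3, Prod.mk.injEq] at hde
  obtain ⟨hw1, hw2⟩ := hde
  have hdvd : (m : ℤ) ∣ ((d 1 : ℤ) - d 2) - ((e 1 : ℤ) - e 2) := by
    have h3 : (((-(d 1 : ℤ) + d 2 : ℤ)) : ZMod m) = ((-(e 1 : ℤ) + e 2 : ℤ) : ZMod m) := by
      push_cast; exact hw2
    rw [ZMod.intCast_eq_intCast_iff_dvd_sub] at h3
    convert h3 using 1
    ring
  rw [monomial3, monomial3]
  rcases le_total (e 0) (d 0) with h | h
  · exact pair s hpq hcop hm hc hi hir hp (d 0) (d 1) (d 2) (e 0) (e 1) (e 2) hw1 hdvd h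
  · refine rel_symm (pair s hpq hcop hm hc hi hir hp (e 0) (e 1) (e 2) (d 0) (d 1) (d 2) hw1.symm ?_ h)
    have : ((e 1 : ℤ) - e 2) - ((d 1 : ℤ) - d 2) = -(((d 1 : ℤ) - d 2) - ((e 1 : ℤ) - e 2)) := by ring
    rw [this]
    exact (dvd_neg).mpr hdvd

end main

end Groth.Agent.H78.IdealL
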