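import Mathlib
import Groth.Agent.H78.Inertia

set_option autoImplicit false
set_option maxHeartbeats 400000

namespace Groth.Agent.H78.Inertia

open scoped Pointwise

universe u v

section Main

attribute [local instance] Ideal.Quotient.field

lemma exists_inv_lift (A B G : Type u) [CommRing A] [CommRing B] [Algebra A B] [Group G]
    [Finite G] [MulSemiringAction G B] [SMulCommClass G A B] (m : Ideal B) [m.IsMaximal]
    [Algebra.IsSeparable (A ⧸ m.comap (algebraMap A B)) (B ⧸ m)] (b : B) :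
    ∃ y : B, (∀ γ : G, γ ∈ m.inertia G → γ • y = y) ∧ b - y ∈ m := by
  rw [Groth.Agent.S12937.result B G m b]
  obtain ⟨f, hf⟩ := Polynomial.map_surjective (Ideal.Quotient.mk (m.comap (algebraMap A B)))
    Ideal.Quotient.mk_surjective
    (minpoly (A ⧸ m.comap (algebraMap A B)) (Ideal.Quotient.mk m b))
  have hcomm : (Ideal.Quotient.mk m).comp (algebraMap A B) =
      (algebraMap (A ⧸ m.comap (algebraMap A B)) (B ⧸ m)).comp
        (Ideal.Quotient.mk (m.comap (algebraMap A B))) := rfl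
  refine ⟨f.map (algebraMap A B), ?_, ?_, ?_⟩
  · intro i γ
    rw [Polynomial.coeff_map, smul_algebraMap]
  · rw [Polynomial.map_map, hcomm, ← Polynomial.map_map, hf]
    have hs : (minpoly (A ⧸ m.comap (algebraMap A B)) (Ideal.Quotient.mk m b)).Separable :=
      Algebra.IsSeparable.isSeparable (A ⧸ m.comap (algebraMap A B)) (Ideal.Quotient.mk m b)
    exact hs.map
  · rw [← Ideal.Quotient.eq_zero_iff_mem, Polynomial.aeval_def, Polynomial.hom_eval₂,
      Polynomial.eval₂_map]
    simp only [Algebra.algebraMap_self, RingHom.comp_id]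
    rw [hcomm, ← Polynomial.eval₂_map, hf, ← Polynomial.aeval_def]
    exact minpoly.aeval _ _

lemma wild_normal {B : Type u} [CommRing B] [IsDomain B] [IsDedekindDomain B]
    {G : Type v} [Group G] [MulSemiringAction G B] (m : Ideal B) [m.IsMaximal] :
    (((MulAction.stabilizer G m) ⊓ (m ^ 2).inertia G).subgroupOf
      (MulAction.stabilizer G m)).Normal := by
  refine (Subgroup.normal_subgroupOf_iff inf_le_left).mpr ?_
  intro h k hh hk
  refine ⟨Subgroup.mul_mem _ (Subgroup.mul_mem _ hk hh.1) (Subgroup.inv_mem _ hk), ?_⟩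
  intro x
  have hk' : k • m = m := MulAction.mem_stabilizer_iff.mp hk
  have e : (k * h * k⁻¹) • x - x = k • (h • (k⁻¹ • x) - k⁻¹ • x) := by
    rw [smul_sub, mul_smul, mul_smul, smul_inv_smul]
  rw [e]
  exact smul_mem_pow m hk' 2 (hh.2 _)

lemma natCast_mem_iff {B : Type u} [CommRing B] (m : Ideal B) (q : ℕ) [CharP (B ⧸ m) q] (n : ℕ) :
    (n : B) ∈ m ↔ q ∣ n := by
  rw [← Ideal.Quotient.eq_zero_iff_mem, map_natCast, CharP.cast_eq_zero_iff (B ⧸ m) q]

lemma wild_isPGroup {B : Type u} [CommRing B] [IsDomain B] [IsDedekindDomain B]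
    {G : Type v} [Group G] [Finite G] [MulSemiringAction G B] [FaithfulSMul G B]
    (m : Ideal B) [m.IsMaximal] (q : ℕ) (hq : q.Prime) [CharP (B ⧸ m) q] :
    IsPGroup q ↥((MulAction.stabilizer G m) ⊓ (m ^ 2).inertia G) := by
  intro g
  have hpos : 0 < orderOf (g : G) := orderOf_pos _
  obtain ⟨a, r, hr, hra⟩ := Nat.exists_eq_pow_mul_and_not_dvd hpos.ne' q hq.ne_one
  refine ⟨a, ?_⟩
  have h1 : ((g : G) ^ q ^ a) ^ r = 1 := by
    rw [← pow_mul, ← hra]; exact pow_orderOf_eq_one _
  have h2 : (g : G) ^ q ^ a ∈ (m ^ 2).inertia G := Subgroup.pow_mem _ g.2.2 _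
  have h3 : ∀ b : B, ((g : G) ^ q ^ a) • b = b :=
    smul_eq_of_pow_eq_one m h2 r (fun h => hr ((natCast_mem_iff m q r).mp h)) h1
  have h4 : (g : G) ^ q ^ a = 1 := by
    apply FaithfulSMul.eq_of_smul_eq_smul (α := B)
    intro b; rw [h3, one_smul]
  exact Subtype.ext (by simpa using h4)

lemma wild_eq_bot {B : Type u} [CommRing B] [IsDomain B] [IsDedekindDomain B]
    {G : Type v} [Group G] [Finite G] [MulSemiringAction G B] [FaithfulSMul G B]
    (m : Ideal B) [m.IsMaximal] [CharZero (B ⧸ m)] :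
    (MulAction.stabilizer G m) ⊓ (m ^ 2).inertia G = ⊥ := by
  rw [eq_bot_iff]
  intro g hg
  rw [Subgroup.mem_bot]
  apply FaithfulSMul.eq_of_smul_eq_smul (α := B)
  intro b
  rw [one_smul]
  refine smul_eq_of_pow_eq_one m hg.2 (orderOf g) ?_ (pow_orderOf_eq_one g) b
  intro h
  rw [natCast_mem_iff m 0] at h
  exact (orderOf_pos g).ne' (Nat.eq_zero_of_zero_dvd h)

lemma pow_char_pow_eq_one {F : Type*} [Field F] (q : ℕ) [Fact q.Prime] [CharP F q] (k : ℕ)
    {x : F} (h : x ^ q ^ k = 1) : x = 1 := by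
  have h1 : (x - 1) ^ q ^ k = 0 := by rw [sub_pow_char_pow, h, one_pow, sub_self]
  exact sub_eq_zero.mp ((pow_eq_zero_iff (pow_ne_zero _ (Fact.out : q.Prime).ne_zero)).mp h1)

theorem tame_structure {B : Type u} [CommRing B] [IsDomain B] [IsDedekindDomain B]
    {G : Type v} [Group G] [Finite G] [MulSemiringAction G B] [FaithfulSMul G B]
    (m : Ideal B) [hm : m.IsMaximal] (hm0 : m ≠ ⊥)
    (hS : ∀ b : B, ∃ y : B, (∀ γ : G, γ ∈ m.inertia G → γ • y = y) ∧ b - y ∈ m)
    (e : ℕ) (he : Nat.card (m.inertia G) = e)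
    (I P : Subgroup G) (hI : I = m.inertia G)
    (hP : P = MulAction.stabilizer G m ⊓ (m ^ 2).inertia G)
    [hN : (P.subgroupOf I).Normal] :
    IsCyclic (I ⧸ P.subgroupOf I) ∧
    (∀ q : ℕ, q.Prime → CharP (B ⧸ m) q →
      Nat.card (I ⧸ P.subgroupOf I) = e / q ^ e.factorization q) ∧
    (CharZero (B ⧸ m) → Nat.card (I ⧸ P.subgroupOf I) = e) ∧
    Nonempty (I ⧸ P.subgroupOf I ≃* ↥(rootsOfUnity e (B ⧸ m))) := by
  subst hI
  obtain ⟨π, hπ, hπ2⟩ : ∃ π, π ∈ m ∧ π ∉ m ^ 2 := by
    obtain ⟨π, h1, h2⟩ := Ideal.exists_mem_pow_notMem_pow_succ m hm0 hm.ne_top 1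
    exact ⟨π, by simpa using h1, h2⟩
  have hPI : P ≤ m.inertia G := by
    rw [hP]
    intro σ hσ x
    exact Ideal.pow_le_self two_ne_zero (hσ.2 x)
  -- the character
  let φ : (m.inertia G) →* (B ⧸ m)ˣ := (theta hm0 hπ hπ2).toHomUnits
  have hφ : ∀ σ : m.inertia G, φ σ = 1 ↔ σ ∈ P.subgroupOf (m.inertia G) := by
    intro σ
    rw [Subgroup.mem_subgroupOf, hP, Subgroup.mem_inf, ← theta_eq_one_iff hm0 hπ hπ2 hS σ]
    constructor
    · intro h
      refine ⟨Ideal.inertia_le_stabilizer m σ.2, ?_⟩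
      have := congrArg Units.val h
      simpa [φ] using this
    · intro h
      apply Units.ext
      simpa [φ] using h.2
  have hle : P.subgroupOf (m.inertia G) ≤ φ.ker := by
    intro σ hσ
    exact (MonoidHom.mem_ker).mpr ((hφ σ).mpr hσ)
  let ψ : (m.inertia G ⧸ P.subgroupOf (m.inertia G)) →* (B ⧸ m)ˣ := QuotientGroup.lift _ φ hle
  have hψ : Function.Injective ψ := by
    rw [injective_iff_map_eq_one]
    intro x
    induction x using QuotientGroup.induction_on with
    | H σ =>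
      intro h
      rw [QuotientGroup.eq_one_iff]
      exact (hφ σ).mp h
  have hcyc : IsCyclic (m.inertia G ⧸ P.subgroupOf (m.inertia G)) :=
    isCyclic_of_injective_ringHom ((Units.coeHom (B ⧸ m)).comp ψ)
      (by intro x y hxy; exact hψ (Units.ext hxy))
  obtain ⟨c, hc⟩ : ∃ c, c = Nat.card (m.inertia G ⧸ P.subgroupOf (m.inertia G)) := ⟨_, rfl⟩
  have hc0 : c ≠ 0 := by rw [hc]; exact Nat.card_pos.ne'
  have hcard : e = c * Nat.card P := by
    rw [← he, hc, Subgroup.card_eq_card_quotient_mul_card_subgroup (P.subgroupOf (m.inertia G)),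
      Nat.card_congr (Subgroup.subgroupOfEquivOfLe hPI).toEquiv]
  have hprime : ∀ q : ℕ, q.Prime → CharP (B ⧸ m) q →
      c = e / q ^ e.factorization q ∧ Nat.card (rootsOfUnity e (B ⧸ m)) ≤ c := by
    intro q hq hchar
    haveI : Fact q.Prime := ⟨hq⟩
    have hPq : IsPGroup q P := by rw [hP]; exact wild_isPGroup m q hq
    obtain ⟨k, hk⟩ := IsPGroup.iff_card.mp hPq
    rw [hk] at hcard
    have hqc : ¬ q ∣ c := by
      intro hdvd
      rw [hc] at hdvd
      obtain ⟨x, hx⟩ := exists_prime_orderOf_dvd_card' q hdvd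
      have h1 : ((ψ x : (B ⧸ m)ˣ) : B ⧸ m) ^ q ^ 1 = 1 := by
        rw [pow_one, ← Units.val_pow_eq_pow_val, ← map_pow, ← hx, pow_orderOf_eq_one, map_one,
          Units.val_one]
      have h2 : ψ x = 1 := Units.ext (pow_char_pow_eq_one q 1 h1)
      have h3 : x = 1 := hψ (h2.trans (map_one ψ).symm)
      rw [h3, orderOf_one] at hx
      exact hq.ne_one hx.symm
    have hfac : e.factorization q = k := by
      rw [hcard, Nat.factorization_mul hc0 (pow_ne_zero _ hq.ne_zero), Finsupp.add_apply,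
        hq.factorization_pow, Finsupp.single_eq_same, Nat.factorization_eq_zero_of_not_dvd hqc,
        zero_add]
    refine ⟨?_, ?_⟩
    · rw [hfac, hcard, Nat.mul_div_cancel _ (pow_pos hq.pos _)]
    · haveI : NeZero c := ⟨hc0⟩
      have hsub : rootsOfUnity e (B ⧸ m) ≤ rootsOfUnity c (B ⧸ m) := by
        intro u hu
        rw [mem_rootsOfUnity'] at hu ⊢
        rw [hcard, pow_mul] at hu
        exact pow_char_pow_eq_one q k hu
      exact (Subgroup.card_le_of_le hsub).trans (card_rootsOfUnity (B ⧸ m) c)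
  have hzero : CharZero (B ⧸ m) → c = e ∧ Nat.card (rootsOfUnity e (B ⧸ m)) ≤ c := by
    intro hchar
    have hPbot : P = ⊥ := by rw [hP]; exact wild_eq_bot m
    rw [hPbot, Subgroup.card_bot, mul_one] at hcard
    haveI : NeZero c := ⟨hc0⟩
    exact ⟨hcard.symm, by rw [hcard]; exact card_rootsOfUnity (B ⧸ m) c⟩
  have hroots : Nat.card (rootsOfUnity e (B ⧸ m)) ≤ c := by
    obtain ⟨q, hq⟩ := CharP.exists (B ⧸ m)
    rcases CharP.char_is_prime_or_zero (B ⧸ m) q with h | h
    · exact (hprime q h hq).2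
    · subst h; exact (hzero (CharP.charP_to_charZero _)).2
  refine ⟨hcyc, ?_, ?_, ?_⟩
  · intro q hq hchar
    rw [← hc]; exact (hprime q hq hchar).1
  · intro hchar
    rw [← hc]; exact (hzero hchar).1
  · have he0 : e ≠ 0 := by rw [hcard]; exact mul_ne_zero hc0 Nat.card_pos.ne'
    haveI : NeZero e := ⟨he0⟩
    have hmem : ∀ x, ψ x ∈ rootsOfUnity e (B ⧸ m) := by
      intro x
      rw [mem_rootsOfUnity, ← map_pow, hcard, pow_mul, hc, pow_card_eq_one', one_pow, map_one]
    let ψ' : (m.inertia G ⧸ P.subgroupOf (m.inertia G)) →* rootsOfUnity e (B ⧸ m) :=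
      ψ.codRestrict _ hmem
    have hψ' : Function.Injective ψ' := by
      intro x y hxy
      exact hψ (congrArg Subtype.val hxy)
    have hbij : Function.Bijective ψ' :=
      hψ'.bijective_of_nat_card_le (by rw [← hc]; exact hroots)
    exact ⟨MulEquiv.ofBijective ψ' hbij⟩

theorem main (A B G : Type u) [CommRing A] [IsDomain A] [IsDiscreteValuationRing A]
    [CommRing B] [IsDomain B] [IsDedekindDomain B] [Algebra A B] [Module.Finite A B]
    [Module.IsTorsionFree A B] [Group G] [Finite G] [MulSemiringAction G B] [IsGaloisGroup G A B]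
    (m : Ideal B) [hm : m.IsMaximal]
    [Algebra.IsSeparable (A ⧸ m.comap (algebraMap A B)) (B ⧸ m)] :
    let D : Subgroup G := MulAction.stabilizer G m
    let I : Subgroup G := m.inertia G
    let P : Subgroup G := D ⊓ (m ^ 2).inertia G
    let e : ℕ := Ideal.ramificationIdx' (IsLocalRing.maximalIdeal A) m
    P ≤ I ∧ I ≤ D ∧ (P.subgroupOf D).Normal ∧
    (∀ p : ℕ, p.Prime → CharP (A ⧸ m.comap (algebraMap A B)) p → IsPGroup p P) ∧
    (CharZero (A ⧸ m.comap (algebraMap A B)) → P = ⊥) ∧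
    (∀ [(P.subgroupOf I).Normal],
      IsCyclic (I ⧸ P.subgroupOf I) ∧
      (∀ p : ℕ, p.Prime → CharP (A ⧸ m.comap (algebraMap A B)) p →
        Nat.card (I ⧸ P.subgroupOf I) = e / p ^ e.factorization p) ∧
      (CharZero (A ⧸ m.comap (algebraMap A B)) → Nat.card (I ⧸ P.subgroupOf I) = e) ∧
      Nonempty (I ⧸ P.subgroupOf I ≃* ↥(rootsOfUnity e (B ⧸ m)))) := by
  intro D I P e
  haveI : FaithfulSMul G B := IsGaloisGroup.faithful A
  haveI hpmax : (m.comap (algebraMap A B)).IsMaximal :=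
    Ideal.isMaximal_comap_of_isIntegral_of_isMaximal m
  have hp : m.comap (algebraMap A B) = IsLocalRing.maximalIdeal A :=
    IsLocalRing.eq_maximalIdeal hpmax
  have hp0 : m.comap (algebraMap A B) ≠ ⊥ := by
    rw [hp]; exact IsDiscreteValuationRing.not_a_field A
  have hm0 : m ≠ ⊥ := by
    rintro rfl
    apply hp0
    exact Ideal.comap_bot_of_injective _ (FaithfulSMul.algebraMap_injective A B)
  haveI : m.LiesOver (m.comap (algebraMap A B)) := ⟨rfl⟩
  have he : Nat.card (m.inertia G) = e := by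
    have := card_inertia_eq A B G (m.comap (algebraMap A B)) hp0 m
    rw [this, hp]
  have hchar : ∀ q : ℕ, CharP (A ⧸ m.comap (algebraMap A B)) q → CharP (B ⧸ m) q := by
    intro q hq
    exact charP_of_injective_algebraMap
      (algebraMap (A ⧸ m.comap (algebraMap A B)) (B ⧸ m)).injective q
  have hchar0 : CharZero (A ⧸ m.comap (algebraMap A B)) → CharZero (B ⧸ m) := by
    intro h
    exact charZero_of_injective_algebraMap
      (algebraMap (A ⧸ m.comap (algebraMap A B)) (B ⧸ m)).injective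
  refine ⟨?_, Ideal.inertia_le_stabilizer m, wild_normal m, ?_, ?_, ?_⟩
  · intro σ hσ x
    exact Ideal.pow_le_self two_ne_zero (hσ.2 x)
  · intro q hq hcq
    haveI := hchar q hcq
    exact wild_isPGroup m q hq
  · intro h0
    haveI := hchar0 h0
    exact wild_eq_bot m
  · intro hN
    have hS := exists_inv_lift A B G m
    obtain ⟨h1, h2, h3, h4⟩ := tame_structure m hm0 hS e he I P rfl rfl
    exact ⟨h1, fun q hq hcq => h2 q hq (hchar q hcq), fun h0 => h3 (hchar0 h0), h4⟩

end Main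

end Groth.Agent.H78.Inertia
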