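import Mathlib
import Groth.Agent.H93.NilPull

/-!
# Formal unramifiedness lifts along nilpotent thickenings of the base
-/

set_option autoImplicit false
universe u

namespace Groth.Agent.H78.NilUnram

open AlgebraicGeometry CategoryTheory CategoryTheory.Limits TensorProduct
open scoped KaehlerDifferential

section algebra

theorem formallyUnramified_of_quotient {A B : Type u} [CommRing A] [CommRing B] [Algebra A B]
    (I : Ideal A) (hI : IsNilpotent I)
    [Algebra.FormallyUnramified A (B ⧸ I.map (algebraMap A B))] :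
    Algebra.FormallyUnramified A B := by
  obtain ⟨K, hK⟩ : ∃ K : Ideal B, K = I.map (algebraMap A B) := ⟨_, rfl⟩
  haveI : Algebra.FormallyUnramified A (B ⧸ K) := by rw [hK]; infer_instance
  have hsurj : Function.Surjective (algebraMap B (B ⧸ K)) := Ideal.Quotient.mk_surjective
  have hex := KaehlerDifferential.exact_kerCotangentToTensor_mapBaseChange A B (B ⧸ K) hsurj
  have key : ∀ z ∈ K, (1 : B ⧸ K) ⊗ₜ[B] KaehlerDifferential.D A B z = 0 := by
    intro z hz
    rw [hK, Ideal.map] at hz
    refine Submodule.span_induction ?_ ?_ ?_ ?_ hz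
    · rintro _ ⟨i, hi, rfl⟩
      rw [Derivation.map_algebraMap, TensorProduct.tmul_zero]
    · rw [map_zero, TensorProduct.tmul_zero]
    · intro a b _ _ ha hb
      rw [map_add, TensorProduct.tmul_add, ha, hb, add_zero]
    · intro c a ha' ha
      have haK : a ∈ K := by rw [hK, Ideal.map]; exact ha'
      rw [smul_eq_mul, Derivation.leibniz, TensorProduct.tmul_add, TensorProduct.tmul_smul, ha,
        smul_zero, zero_add, ← TensorProduct.smul_tmul, Algebra.smul_def, mul_one,
        Ideal.Quotient.algebraMap_eq, Ideal.Quotient.eq_zero_iff_mem.mpr haK,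
        TensorProduct.zero_tmul]
  have hzero : ∀ y, KaehlerDifferential.kerCotangentToTensor A B (B ⧸ K) y = 0 := by
    intro y
    obtain ⟨x, rfl⟩ := Ideal.toCotangent_surjective _ y
    rw [KaehlerDifferential.kerCotangentToTensor_toCotangent]
    have hx : (x : B) ∈ K :=
      Ideal.Quotient.eq_zero_iff_mem.mp (show Ideal.Quotient.mk K (x : B) = 0 from x.2)
    exact key _ hx
  have hsub : Subsingleton ((B ⧸ K) ⊗[B] Ω[B⁄A]) := by
    refine ⟨fun a b => ?_⟩
    obtain ⟨a', rfl⟩ := (hex a).mp (Subsingleton.elim _ _)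
    obtain ⟨b', rfl⟩ := (hex b).mp (Subsingleton.elim _ _)
    rw [hzero, hzero]
  have hquot : Subsingleton (Ω[B⁄A] ⧸ (K • ⊤ : Submodule B Ω[B⁄A])) :=
    (TensorProduct.quotTensorEquivQuotSMul Ω[B⁄A] K).symm.toEquiv.subsingleton
  have htop : (K • ⊤ : Submodule B Ω[B⁄A]) = ⊤ :=
    Submodule.Quotient.subsingleton_iff.mp hquot
  obtain ⟨m, hm⟩ := hI
  have hKm : K ^ m = ⊥ := by
    rw [hK, ← Ideal.map_pow, hm]
    exact Ideal.map_bot
  have hpow : ∀ n : ℕ, (K ^ n • ⊤ : Submodule B Ω[B⁄A]) = ⊤ := by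
    intro n
    induction n with
    | zero => rw [pow_zero, Ideal.one_eq_top, Submodule.top_smul]
    | succ n ih => rw [pow_succ, Submodule.mul_smul, htop, ih]
  have hbt : (⊤ : Submodule B Ω[B⁄A]) = ⊥ := by rw [← hpow m, hKm, Submodule.bot_smul]
  refine ⟨⟨fun a b => ?_⟩⟩
  have ha : a ∈ (⊤ : Submodule B Ω[B⁄A]) := trivial
  have hb : b ∈ (⊤ : Submodule B Ω[B⁄A]) := trivial
  rw [hbt, Submodule.mem_bot] at ha hb
  rw [ha, hb]

variable {A B A₀ B₀ : Type u} [CommRing A] [CommRing B] [CommRing A₀] [CommRing B₀]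
  (φ : A →+* B) (α : A →+* A₀) (β : B →+* B₀) (ψ : A₀ →+* B₀)

theorem ring_unram (hcomm : β.comp φ = ψ.comp α)
    (hker : RingHom.ker β = (RingHom.ker α).map φ) (hnil : IsNilpotent (RingHom.ker α))
    (hα : Function.Surjective α) (hβ : Function.Surjective β) (hψ : ψ.FormallyUnramified) :
    φ.FormallyUnramified := by
  letI := φ.toAlgebra
  letI algA₀ : Algebra A A₀ := α.toAlgebra
  letI algAB₀ : Algebra A B₀ := (β.comp φ).toAlgebra
  letI algA₀B₀ : Algebra A₀ B₀ := ψ.toAlgebra
  haveI : IsScalarTower A A₀ B₀ := IsScalarTower.of_algebraMap_eq (fun a => by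
    show (β.comp φ) a = ψ (α a)
    rw [hcomm]; rfl)
  haveI h1 : Algebra.FormallyUnramified A₀ B₀ := hψ
  haveI h2 : Algebra.FormallyUnramified A A₀ :=
    Algebra.FormallyUnramified.of_surjective (Algebra.ofId A A₀) hα
  haveI h3 : Algebra.FormallyUnramified A B₀ := Algebra.FormallyUnramified.comp A A₀ B₀
  let β' : B →ₐ[A] B₀ := ⟨β, fun a => rfl⟩
  let e : (B ⧸ RingHom.ker β'.toRingHom) ≃ₐ[A] B₀ :=
    Ideal.quotientKerAlgEquivOfSurjective (f := β') hβ
  have hK : RingHom.ker β'.toRingHom = (RingHom.ker α).map (algebraMap A B) := hker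
  haveI : Algebra.FormallyUnramified A (B ⧸ (RingHom.ker α).map (algebraMap A B)) :=
    Algebra.FormallyUnramified.of_equiv (e.symm.trans (Ideal.quotientEquivAlgOfEq A hK))
  exact formallyUnramified_of_quotient (RingHom.ker α) hnil

end algebra

section scheme

variable {X X₀ Y Y₀ : Scheme.{u}} {i' : Y₀ ⟶ Y} {F₀ : Y₀ ⟶ X₀} {F : Y ⟶ X} {j : X₀ ⟶ X}

set_option backward.isDefEq.respectTransparency.types false in
theorem unram_aff (hc : IsPullback i' F₀ F j) [IsClosedImmersion j] [IsAffine X]
    (hnil : IsNilpotent (RingHom.ker j.appTop.hom)) [FormallyUnramified F₀] :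
    FormallyUnramified F := by
  have hi' : IsClosedImmersion i' := Groth.Agent.H93.NilPull.closedImm_top hc
  rw [IsZariskiLocalAtSource.iff_of_openCover (P := @FormallyUnramified) Y.affineCover]
  intro k
  have hc' : IsPullback (pullback.snd i' (Y.affineCover.f k))
      (pullback.fst i' (Y.affineCover.f k) ≫ F₀) (Y.affineCover.f k ≫ F) j :=
    ((IsPullback.of_hasPullback i' (Y.affineCover.f k)).paste_horiz hc.flip).flip
  have hX₀ : IsAffine X₀ := isAffine_of_isAffineHom j
  have hV₀ : IsAffine (pullback i' (Y.affineCover.f k)) :=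
    isAffine_of_isAffineHom (pullback.snd i' (Y.affineCover.f k))
  have hF₀' : FormallyUnramified (pullback.fst i' (Y.affineCover.f k) ≫ F₀) :=
    IsZariskiLocalAtSource.comp (P := @FormallyUnramified) inferInstance _
  rw [HasRingHomProperty.iff_of_isAffine (P := @FormallyUnramified)] at hF₀' ⊢
  exact ring_unram _ _ _ _ (Groth.Agent.H93.NilPull.comm_appTop hc')
    (Groth.Agent.H93.NilPull.affine_ker hc') hnil
    (IsClosedImmersion.isAffine_surjective_of_isAffine (f := j)).2
    (IsClosedImmersion.isAffine_surjective_of_isAffine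
      (f := pullback.snd i' (Y.affineCover.f k))).2 hF₀'

set_option backward.isDefEq.respectTransparency.types false in
theorem unram_of_nil (hc : IsPullback i' F₀ F j) [IsClosedImmersion j]
    (hs : Function.Surjective j.base)
    (hnil : ∀ W : X.affineOpens, IsNilpotent (j.ker.ideal W)) [FormallyUnramified F₀] :
    FormallyUnramified F :=
  Groth.Agent.H93.NilPull.globalize @FormallyUnramified (by
    intro X X₀ Y Y₀ i' F₀ F j hc _ _ hs hn h
    exact unram_aff hc hn) hc hs hnil inferInstance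

end scheme

end Groth.Agent.H78.NilUnram
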