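import Mathlib.RingTheory.Ideal.Operations
import Mathlib.Order.Preorder.Finite

set_option autoImplicit false
set_option maxHeartbeats 400000

namespace Groth.Agent.H78

/-- Coset prime avoidance: if for each prime `p` in the finite set `P` either `x ∉ p` or `I ⊄ p`,
then some `y ∈ I` has `x + y` outside every `p ∈ P`. -/
theorem exists_add_notMem_of_primes {R : Type*} [CommRing R] (I : Ideal R) (x : R)
    (P : Finset (Ideal R)) (hP : ∀ p ∈ P, p.IsPrime) (h : ∀ p ∈ P, ¬ (x ∈ p ∧ I ≤ p)) :
    ∃ y ∈ I, ∀ p ∈ P, x + y ∉ p := by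
  classical
  induction hn : P.card using Nat.strong_induction_on generalizing P with
  | _ n ih =>
    rcases P.eq_empty_or_nonempty with rfl | hne
    · exact ⟨0, I.zero_mem, by simp⟩
    obtain ⟨p0, hp0⟩ := P.exists_minimal hne
    have hp0P : p0 ∈ P := hp0.prop
    have hp0prime : p0.IsPrime := hP p0 hp0P
    obtain ⟨y', hy'I, hy'⟩ := ih (P.erase p0).card (by rw [← hn]; exact Finset.card_erase_lt_of_mem hp0P)
      (P.erase p0) (fun p hp => hP p (Finset.mem_of_mem_erase hp))
      (fun p hp => h p (Finset.mem_of_mem_erase hp)) rfl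
    by_cases hmem : x + y' ∈ p0
    · have hI : ¬ I ≤ p0 := by
        intro hI
        apply h p0 hp0P
        refine ⟨?_, hI⟩
        have := p0.sub_mem hmem (hI hy'I)
        simpa using this
      have hprod : ¬ I * (P.erase p0).prod id ≤ p0 := by
        rw [hp0prime.mul_le, hp0prime.prod_le]
        rintro (h1 | ⟨q, hq, hqle⟩)
        · exact hI h1
        · have hqP : q ∈ P := Finset.mem_of_mem_erase hq
          have hne' : q ≠ p0 := Finset.ne_of_mem_erase hq
          have : p0 ≤ q := hp0.le_of_le hqP hqle
          exact hne' (le_antisymm hqle this)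
      obtain ⟨z, hz, hzp0⟩ : ∃ z ∈ I * (P.erase p0).prod id, z ∉ p0 := by
        by_contra hcon
        push Not at hcon
        exact hprod hcon
      have hzI : z ∈ I := Ideal.mul_le_left hz
      have hzq : ∀ q ∈ P.erase p0, z ∈ q := by
        intro q hq
        have h1 : I * (P.erase p0).prod id ≤ (P.erase p0).prod id := Ideal.mul_le_right
        have h2 : (P.erase p0).prod id ≤ (P.erase p0).inf id := Ideal.prod_le_inf
        have h3 : (P.erase p0).inf id ≤ id q := Finset.inf_le hq
        exact h3 (h2 (h1 hz))
      refine ⟨y' + z, I.add_mem hy'I hzI, ?_⟩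
      intro p hp hcontra
      by_cases hpp0 : p = p0
      · subst hpp0
        apply hzp0
        have := p.sub_mem hcontra hmem
        have e : x + (y' + z) - (x + y') = z := by ring
        rwa [e] at this
      · have hpe : p ∈ P.erase p0 := Finset.mem_erase.mpr ⟨hpp0, hp⟩
        apply hy' p hpe
        have := p.sub_mem hcontra (hzq p hpe)
        have e : x + (y' + z) - z = x + y' := by ring
        rwa [e] at this
    · refine ⟨y', hy'I, ?_⟩
      intro p hp
      by_cases hpp0 : p = p0
      · subst hpp0; exact hmem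
      · exact hy' p (Finset.mem_erase.mpr ⟨hpp0, hp⟩)

end Groth.Agent.H78
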