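import Mathlib

/-!
# `Lan` along `Over.map f` preserves monomorphisms of abelian presheaves

Piece (B) of helper23's squad request for S7295.

* `lan_map_app_mono` : general criterion — if the costructured-arrow category of `L` at `K`
  admits a final functor from a discrete category, then `(L.lan.map α).app K` is mono for
  every mono `α` of `AddCommGrpCat`-valued functors.
* `lan_overMap_preservesMono` : the requested statement.
-/

set_option autoImplicit false
set_option backward.isDefEq.respectTransparency.types false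

open CategoryTheory CategoryTheory.Limits Opposite

universe u

namespace Groth.Agent.H78.RestrInj_B

section General

variable {A B : Type (u + 1)} [Category.{u} A] [Category.{u} B] (L : A ⥤ B)

theorem lan_map_app_mono {Φ : Type u}
    [HasExactColimitsOfShape (Discrete Φ) AddCommGrpCat.{u + 1}]
    {P Q : A ⥤ AddCommGrpCat.{u + 1}} (α : P ⟶ Q) [Mono α] (K : B)
    (ι : Discrete Φ ⥤ CostructuredArrow L K) [ι.Final] :
    Mono ((L.lan.map α).app K) := by
  let cP : Cocone (CostructuredArrow.proj L K ⋙ P) :=
    (Functor.LeftExtension.mk _ (L.lanUnit.app P)).coconeAt K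
  let cQ : Cocone (CostructuredArrow.proj L K ⋙ Q) :=
    (Functor.LeftExtension.mk _ (L.lanUnit.app Q)).coconeAt K
  have hcP : IsColimit cP := Functor.isPointwiseLeftKanExtensionLeftKanExtensionUnit L P K
  have hcQ : IsColimit cQ := Functor.isPointwiseLeftKanExtensionLeftKanExtensionUnit L Q K
  have hP : IsColimit (cP.whisker ι) := (Functor.Final.isColimitWhiskerEquiv ι cP).symm hcP
  have hQ : IsColimit (cQ.whisker ι) := (Functor.Final.isColimitWhiskerEquiv ι cQ).symm hcQ
  let β : ι ⋙ CostructuredArrow.proj L K ⋙ P ⟶ ι ⋙ CostructuredArrow.proj L K ⋙ Q :=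
    Functor.whiskerLeft ι (Functor.whiskerLeft (CostructuredArrow.proj L K) α)
  haveI hα : ∀ a, Mono (α.app a) := (NatTrans.mono_iff_mono_app α).mp inferInstance
  haveI hβ : ∀ j, Mono (β.app j) := fun j => by
    have : β.app j = α.app ((ι.obj j).left) := rfl
    rw [this]
    exact hα _
  haveI : Mono β := NatTrans.mono_of_mono_app β
  haveI : Mono (colim.map β) := inferInstance
  let eP : colimit (ι ⋙ CostructuredArrow.proj L K ⋙ P) ≅ (L.lan.obj P).obj K :=
    (colimit.isColimit _).coconePointUniqueUpToIso hP
  let eQ : colimit (ι ⋙ CostructuredArrow.proj L K ⋙ Q) ≅ (L.lan.obj Q).obj K :=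
    (colimit.isColimit _).coconePointUniqueUpToIso hQ
  have nat : ∀ T : CostructuredArrow L K,
      (L.lanUnit.app P).app T.left ≫ (L.lan.obj P).map T.hom ≫ (L.lan.map α).app K =
        α.app T.left ≫ (L.lanUnit.app Q).app T.left ≫ (L.lan.obj Q).map T.hom := by
    intro T
    have h₂ := congr_app (L.lanUnit.naturality α) T.left
    dsimp at h₂
    have h₃ : (L.lan.obj P).map T.hom ≫ (L.lan.map α).app K =
        (L.lan.map α).app (L.obj T.left) ≫ (L.lan.obj Q).map T.hom :=
      (L.lan.map α).naturality T.hom
    rw [h₃, ← reassoc_of% h₂]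
  have key : eP.hom ≫ (L.lan.map α).app K = colim.map β ≫ eQ.hom := by
    apply colimit.hom_ext
    intro j
    have h1 : colimit.ι (ι ⋙ CostructuredArrow.proj L K ⋙ P) j ≫ eP.hom =
        (L.lanUnit.app P).app (ι.obj j).left ≫ (L.lan.obj P).map (ι.obj j).hom :=
      IsColimit.comp_coconePointUniqueUpToIso_hom (colimit.isColimit _) hP j
    have h2 : colimit.ι (ι ⋙ CostructuredArrow.proj L K ⋙ Q) j ≫ eQ.hom =
        (L.lanUnit.app Q).app (ι.obj j).left ≫ (L.lan.obj Q).map (ι.obj j).hom :=
      IsColimit.comp_coconePointUniqueUpToIso_hom (colimit.isColimit _) hQ j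
    have h3 : colimit.ι (ι ⋙ CostructuredArrow.proj L K ⋙ P) j ≫ colim.map β =
        α.app (ι.obj j).left ≫ colimit.ι (ι ⋙ CostructuredArrow.proj L K ⋙ Q) j :=
      colimit.ι_map β j
    refine (Category.assoc _ _ _).symm.trans ?_
    refine (congrArg (fun t => t ≫ (L.lan.map α).app K) h1).trans ?_
    refine (Category.assoc _ _ _).trans ?_
    refine (nat (ι.obj j)).trans ?_
    refine (congrArg (fun t => α.app (ι.obj j).left ≫ t) h2.symm).trans ?_
    refine (Category.assoc _ _ _).symm.trans ?_
    refine (congrArg (fun t => t ≫ eQ.hom) h3.symm).trans ?_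
    exact Category.assoc _ _ _
  have : (L.lan.map α).app K = eP.inv ≫ colim.map β ≫ eQ.hom := by
    rw [← key, Iso.inv_hom_id_assoc]
  rw [this]
  infer_instance

end General

section Over

variable {C : Type (u + 1)} [Category.{u} C] {X Y : C} (f : X ⟶ Y) (V : Over Y)

/-- The index set: lifts of the structure map of `V` through `f`. -/
abbrev Lift : Type u := {φ : V.left ⟶ X // φ ≫ f = V.hom}

/-- The discrete "skeleton" of the costructured-arrow category. -/
def ι : Discrete (Lift f V) ⥤ CostructuredArrow (Over.map f).op (op V) :=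
  Discrete.functor (fun φ =>
    CostructuredArrow.mk (S := (Over.map f).op) (T := op V) (Y := op (Over.mk φ.1))
      (Over.homMk (𝟙 V.left) (by simp [φ.2]) : V ⟶ (Over.map f).obj (Over.mk φ.1)).op)

instance ι_final : (ι f V).Final := by
  constructor
  intro d
  have key : ∀ (j : Discrete (Lift f V)) (m : d ⟶ (ι f V).obj j),
      m.left.unop.left = d.hom.unop.left ∧ j.as.1 = d.hom.unop.left ≫ d.left.unop.hom := by
    intro j m
    have w := CostructuredArrow.w m
    have w' := congrArg (fun t => t.unop.left) w
    simp [ι] at w'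
    refine ⟨w', ?_⟩
    have h3 := Over.w m.left.unop
    exact h3.symm.trans (congrArg (fun t => t ≫ d.left.unop.hom) w')
  have hd : (d.hom.unop.left ≫ d.left.unop.hom) ≫ f = V.hom := by
    have := Over.w d.hom.unop
    simpa using this
  let φd : Lift f V := ⟨d.hom.unop.left ≫ d.left.unop.hom, hd⟩
  let m₀ : d ⟶ (ι f V).obj ⟨φd⟩ :=
    CostructuredArrow.homMk
      (show d.left ⟶ ((ι f V).obj ⟨φd⟩).left from
        (Over.homMk d.hom.unop.left rfl : Over.mk φd.1 ⟶ d.left.unop).op)
      (by
        apply Quiver.Hom.unop_inj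
        apply Over.OverMorphism.ext
        simp [ι])
  haveI : Nonempty (StructuredArrow d (ι f V)) := ⟨StructuredArrow.mk m₀⟩
  apply zigzag_isConnected
  have aux : ∀ (j j' : Discrete (Lift f V)) (m : d ⟶ (ι f V).obj j) (m' : d ⟶ (ι f V).obj j'),
      ∃ (e : j ⟶ j'), m ≫ (ι f V).map e = m' := by
    intro j j' m m'
    have h : j = j' := by
      apply Discrete.ext
      apply Subtype.ext
      rw [(key j m).2, (key j' m').2]
    subst h
    refine ⟨𝟙 _, ?_⟩
    rw [CategoryTheory.Functor.map_id, Category.comp_id]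
    apply CostructuredArrow.hom_ext
    apply Quiver.Hom.unop_inj
    apply Over.OverMorphism.ext
    rw [(key j m).1, (key j m').1]
  intro a b
  obtain ⟨e, he⟩ := aux a.right b.right a.hom b.hom
  exact Zigzag.of_hom (StructuredArrow.homMk e he)

end Over

/-- (B) `Lan` along `Over.map f` preserves monos of abelian presheaves
(extension by zero is exact). -/
theorem lan_overMap_preservesMono {C : Type (u + 1)} [Category.{u} C] {X Y : C} (f : X ⟶ Y) :
    ((Over.map f).op.lan : ((Over X)ᵒᵖ ⥤ AddCommGrpCat.{u + 1}) ⥤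
      ((Over Y)ᵒᵖ ⥤ AddCommGrpCat.{u + 1})).PreservesMonomorphisms := by
  constructor
  intro P Q α hα
  haveI : ∀ K, Mono (((Over.map f).op.lan.map α).app K) := by
    intro K
    obtain ⟨V⟩ := K
    haveI : HasExactColimitsOfShape (Discrete (Lift f V)) AddCommGrpCat.{u + 1} :=
      HasExactColimitsOfShape.of_domain_equivalence AddCommGrpCat.{u + 1}
        (Discrete.equivalence Equiv.ulift :
          Discrete (ULift.{u + 1} (Lift f V)) ≌ Discrete (Lift f V))
    exact lan_map_app_mono (Over.map f).op α (op V) (ι f V)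
  exact NatTrans.mono_of_mono_app _

end Groth.Agent.H78.RestrInj_B
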