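import Groth.Prelude.Def_SchFin2
import Mathlib.Tactic
import Mathlib.RingTheory.Flat.FaithfullyFlat.Descent
import Mathlib.RingTheory.Flat.FaithfullyFlat.Algebra
import Mathlib.RingTheory.RingHom.Flat
import Mathlib.RingTheory.Spectrum.Prime.RingHom
import Mathlib.RingTheory.Spectrum.Prime.Topology

/-!
# Degree-zero unfolding of the schematic condition for finite ringed posets (helper78)
-/

set_option autoImplicit false
set_option maxHeartbeats 400000
universe u
open SchFin TensorProduct

namespace Groth.Agent.H78.SF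

section H0
variable {X : RSpace.{u}} {U : Set X.pt} {R : Type u} [CommRing R] (φ : Coef X U R) (M : OMod X)

lemma fin1_eq (i j : Fin (0 + 1)) : i = j := Fin.ext (by omega)

/-- the 0-chain at a point -/
def pt0 (q : U) : Chain U 0 :=
  OrderEmbedding.ofStrictMono (fun _ => q) (fun a b h => by
    exfalso; rw [fin1_eq a b] at h; exact lt_irrefl _ h)

lemma pt0_apply (q : U) (i : Fin 1) : pt0 q i = q := rfl

lemma chain0_eq (σ : Chain U 0) : pt0 (σ (Fin.last 0)) = σ := by
  apply DFunLike.ext
  intro i
  rw [pt0_apply, fin1_eq i (Fin.last 0)]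

/-- the 1-chain on a strict pair -/
def pt1 (q q' : U) (h : q < q') : Chain U 1 :=
  OrderEmbedding.ofStrictMono ![q, q'] (fun a b hab => by
    have h1 := Fin.lt_def.mp hab
    have h2 := b.isLt
    have ha : a = 0 := by apply Fin.ext; show a.val = 0; omega
    have hb : b = 1 := by apply Fin.ext; show b.val = 1; omega
    subst ha hb
    exact h)

lemma pt1_face0 (q q' : U) (h : q < q') : (pt1 q q' h).face 0 = pt0 q' := by
  apply DFunLike.ext
  intro i
  have hi : i = 0 := fin1_eq _ _
  subst hi
  rfl

lemma pt1_face1 (q q' : U) (h : q < q') : (pt1 q q' h).face 1 = pt0 q := by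
  apply DFunLike.ext
  intro i
  have hi : i = 0 := fin1_eq _ _
  subst hi
  rfl

variable {φ M} in
lemma cochain_heq (c : Cochain φ M 0) {τ τ' : Chain U 0} (e : τ = τ') : HEq (c τ) (c τ') := by
  subst e; rfl

variable {φ M} in
lemma res_cochain_congr (c : Cochain φ M 0) {τ τ' : Chain U 0} (e : τ = τ') {z : X.pt}
    (h : (τ (Fin.last 0)).1 ≤ z) (h' : (τ' (Fin.last 0)).1 ≤ z) :
    M.res h (c τ) = M.res h' (c τ') := by
  subst e; rfl

/-- the cocycle of a section -/
def sectCocycle (t : M.sect U) : cocycles φ M 0 :=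
  ⟨fun σ => t.1 (σ (Fin.last 0)), by
    show diff φ M 0 _ = 0
    funext σ
    show (∑ j : Fin 2, ((-1 : ℤ) ^ (j : ℕ)) •
      M.res (Chain.face_last_le j σ) (t.1 ((σ.face j) (Fin.last 0)))) = 0
    have : ∀ j : Fin 2, M.res (Chain.face_last_le j σ) (t.1 ((σ.face j) (Fin.last 0))) =
        t.1 (σ (Fin.last 1)) := fun j => t.2 _ _ (Chain.face_last_le j σ)
    simp only [this, Fin.sum_univ_two]
    simp⟩

/-- the section of a cocycle -/
def cocycleSect (c : cocycles φ M 0) : M.sect U :=
  ⟨fun q => c.1 (pt0 q), by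
    intro q q' h
    show M.res h (c.1 (pt0 q)) = c.1 (pt0 q')
    rcases eq_or_lt_of_le h with he | hlt
    · have : q = q' := Subtype.ext he
      subst this
      exact M.res_self _ _
    · have hlt' : q < q' := hlt
      have hc : diff φ M 0 c.1 = 0 := c.2
      have h1 := congrFun hc (pt1 q q' hlt')
      have h2 : (∑ j : Fin 2, ((-1 : ℤ) ^ (j : ℕ)) • (c.1).faceVal (pt1 q q' hlt') j) = 0 := h1
      rw [Fin.sum_univ_two] at h2
      simp only [Fin.val_zero, pow_zero, one_smul, Fin.val_one, pow_one, neg_smul] at h2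
      have h3 : (c.1).faceVal (pt1 q q' hlt') 0 = c.1 (pt0 q') :=
        (res_cochain_congr c.1 (pt1_face0 q q' hlt') _ (le_refl q'.1)).trans (M.res_self _ _)
      have h4 : (c.1).faceVal (pt1 q q' hlt') 1 = M.res h (c.1 (pt0 q)) :=
        res_cochain_congr c.1 (pt1_face1 q q' hlt') _ _
      rw [h3, h4] at h2
      exact (add_neg_eq_zero.mp h2).symm⟩

lemma sectCocycle_cocycleSect (c : cocycles φ M 0) :
    sectCocycle φ M (cocycleSect φ M c) = c := by
  apply Subtype.ext
  funext σ
  exact eq_of_heq (cochain_heq c.1 (chain0_eq σ))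

lemma cocycleSect_sectCocycle (t : M.sect U) : cocycleSect φ M (sectCocycle φ M t) = t := by
  apply Subtype.ext; funext q; rfl

/-- sections to degree-zero cohomology -/
def toH0 : M.sect U →+ H φ M 0 where
  toFun t := H.mk φ M 0 (sectCocycle φ M t)
  map_zero' := by
    have : sectCocycle φ M (0 : M.sect U) = 0 := Subtype.ext (funext fun σ => rfl)
    rw [this, map_zero]
  map_add' a b := by
    have : sectCocycle φ M (a + b) = sectCocycle φ M a + sectCocycle φ M b :=
      Subtype.ext (funext fun σ => rfl)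
    rw [this, map_add]

lemma toH0_injective : Function.Injective (toH0 φ M) := by
  rw [injective_iff_map_eq_zero]
  intro t ht
  have h1 : sectCocycle φ M t ∈ (cobdry φ M 0).comap (cocycles φ M 0).subtype :=
    (Submodule.Quotient.mk_eq_zero _).mp ht
  have h2 : (sectCocycle φ M t).1 = 0 := by
    have : (sectCocycle φ M t).1 ∈ (⊥ : Submodule R (Cochain φ M 0)) := h1
    exact (Submodule.mem_bot R).mp this
  rw [← cocycleSect_sectCocycle φ M t]
  apply Subtype.ext; funext q
  exact congrFun h2 (pt0 q)

lemma toH0_surjective : Function.Surjective (toH0 φ M) := by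
  intro h
  obtain ⟨c, rfl⟩ := Submodule.mkQ_surjective _ h
  refine ⟨cocycleSect φ M c, ?_⟩
  show H.mk φ M 0 _ = _
  rw [sectCocycle_cocycleSect]
  rfl

/-- a coefficient structure gives a ring map to the ring of sections -/
def coefToSect : R →+* X.sectRing U where
  toFun a := ⟨fun q => φ.map q a, fun q q' h => φ.compat q q' h a⟩
  map_one' := Subtype.ext (funext fun q => map_one _)
  map_mul' a b := Subtype.ext (funext fun q => map_mul _ a b)
  map_zero' := Subtype.ext (funext fun q => map_zero _)
  map_add' a b := Subtype.ext (funext fun q => map_add _ a b)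

lemma toH0_smul' (a : R) (t t' : M.sect U) (h : ∀ q, t'.1 q = φ.map q a • t.1 q) :
    toH0 φ M t' = a • toH0 φ M t := by
  show H.mk φ M 0 _ = a • H.mk φ M 0 _
  rw [← map_smul]
  congr 1
  apply Subtype.ext; funext σ
  exact h (σ (Fin.last 0))

lemma toH0_smul (a : R) (t : M.sect U) :
    toH0 φ M (coefToSect φ a • t) = a • toH0 φ M t :=
  toH0_smul' φ M a t _ (fun _ => rfl)

variable {U' : Set X.pt} {R' : Type u} [CommRing R'] {φ' : Coef X U' R'}

/-- restriction of sections to a smaller subset -/
def restrSect (hle : U' ⊆ U) (t : M.sect U) : M.sect U' :=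
  ⟨fun q => t.1 ⟨q.1, hle q.2⟩, fun q q' h => t.2 ⟨q.1, hle q.2⟩ ⟨q'.1, hle q'.2⟩ h⟩

variable {φ} in
lemma resH_toH0 (s : Coef.Sub φ φ') (t : M.sect U) :
    resH M s 0 (toH0 φ M t) = toH0 φ' M (restrSect M s.le t) := rfl

end H0

section Least
variable {X : RSpace.{u}} {U : Set X.pt} {R : Type u} [CommRing R] (φ : Coef X U R) (M : OMod X)
  (m : U) (hm : ∀ q : U, m.1 ≤ q.1)

/-- the section generated by a value at the least element -/
def leastSect (b : M.carrier m.1) : M.sect U :=
  ⟨fun q => M.res (hm q) b, fun _ _ _ => M.res_comp _ _ b⟩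

lemma leastSect_eval (t : M.sect U) : leastSect M m hm (t.1 m) = t :=
  Subtype.ext (funext fun q => t.2 m q (hm q))

variable {P : Type u} [AddCommGroup P] [Module R P]
  (ι : P ≃+ M.carrier m.1) (hι : ∀ (a : R) (p : P), ι (a • p) = φ.map m a • ι p)

/-- `H⁰` over a set with a least element is the value at that element -/
noncomputable def leastEquiv : P ≃ₗ[R] H φ M 0 :=
  LinearEquiv.ofBijective
    { toFun := fun p => toH0 φ M (leastSect M m hm (ι p))
      map_add' := fun p p' => by
        rw [← map_add]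
        congr 1
        apply Subtype.ext; funext q
        show M.res (hm q) (ι (p + p')) = M.res (hm q) (ι p) + M.res (hm q) (ι p')
        rw [map_add, map_add]
      map_smul' := fun a p => by
        rw [RingHom.id_apply]
        apply toH0_smul'
        intro q
        show M.res (hm q) (ι (a • p)) = φ.map q a • M.res (hm q) (ι p)
        rw [hι, LinearMap.map_smulₛₗ, φ.compat m q (hm q)] }
    ⟨by
      intro p p' h
      have h1 := toH0_injective φ M h
      have h2 := congrArg (fun t : M.sect U => t.1 m) h1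
      have h3 : M.res (hm m) (ι p) = M.res (hm m) (ι p') := h2
      exact ι.injective ((M.res_self m.1 (ι p)).symm.trans (h3.trans (M.res_self m.1 (ι p')))),
     by
      intro h
      obtain ⟨t, rfl⟩ := toH0_surjective φ M h
      refine ⟨ι.symm (t.1 m), ?_⟩
      show toH0 φ M (leastSect M m hm (ι (ι.symm (t.1 m)))) = _
      rw [ι.apply_symm_apply, leastSect_eval]⟩

lemma leastEquiv_apply (p : P) :
    leastEquiv φ M m hm ι hι p = toH0 φ M (leastSect M m hm (ι p)) := rfl

variable {U' : Set X.pt} {R' : Type u} [CommRing R'] {φ' : Coef X U' R'}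

include hι in
variable {φ} in
/-- the degree-zero base change condition, made concrete when the larger set has a least element -/
theorem bc_least (s : Coef.Sub φ φ') (hbc : IsBCAlong s.hom (resH M s 0)) :
    letI : Algebra R R' := s.hom.toAlgebra
    ∃ e : R' ⊗[R] P ≃+ M.sect U', ∀ (a : R') (p : P) (q : U'),
      (e (a ⊗ₜ p)).1 q = φ'.map q a • M.res (hm ⟨q.1, s.le q.2⟩) (ι p) := by
  letI : Algebra R R' := s.hom.toAlgebra
  unfold IsBCAlong at hbc
  letI : Module R (H φ' M 0) := Module.compHom _ s.hom
  haveI : IsScalarTower R R' (H φ' M 0) := IsScalarTower.of_algebraMap_smul fun _ _ => rfl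
  let j : P ≃ₗ[R] H φ M 0 := leastEquiv φ M m hm ι hι
  let e1 : R' ⊗[R] P ≃ₗ[R] R' ⊗[R] H φ M 0 := LinearEquiv.lTensor R' j
  let e3 : M.sect U' ≃+ H φ' M 0 :=
    AddEquiv.ofBijective (toH0 φ' M) ⟨toH0_injective φ' M, toH0_surjective φ' M⟩
  refine ⟨e1.toAddEquiv.trans (hbc.equiv.toAddEquiv.trans e3.symm), ?_⟩
  intro a p q
  have key : hbc.equiv (e1 (a ⊗ₜ p)) =
      e3 (coefToSect φ' a • restrSect M s.le (leastSect M m hm (ι p))) := by
    show hbc.equiv (a ⊗ₜ j p) = toH0 φ' M _
    rw [toH0_smul, IsBaseChange.equiv_tmul]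
    rfl
  show (e3.symm (hbc.equiv (e1 (a ⊗ₜ p)))).1 q = _
  rw [key, e3.symm_apply_apply]
  rfl

end Least

section Concrete
variable {X : RSpace.{u}}

/-- (E) in a schematic space the restriction maps are epimorphisms: `b ⊗ 1 = 1 ⊗ b` -/
theorem epi_tmul (hX : X.IsSchematic) {x y : X.pt} (h : x ≤ y) :
    letI : Algebra (X.ring x) (X.ring y) := (X.res h).toAlgebra
    ∀ b : X.ring y, b ⊗ₜ[X.ring x] (1 : X.ring y) = 1 ⊗ₜ[X.ring x] b := by
  letI : Algebra (X.ring x) (X.ring y) := (X.res h).toAlgebra
  have hbc := (hX.2.2 0 x y h y y le_rfl).1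
  obtain ⟨e, he⟩ := bc_least (U := (Hom.id X).wedge x y) (M := X.str)
    (m := ⟨y, ⟨h, le_rfl⟩⟩) (hm := fun q => q.2.2)
    (P := X.ring y) (ι := AddEquiv.refl _) (hι := fun a p => rfl) ((Hom.id X).subSrc h y) hbc
  intro b
  apply e.injective
  apply Subtype.ext; funext q
  have h1 := he b 1 q
  have h2 := he 1 b q
  refine h1.trans (Eq.trans ?_ h2.symm)
  show (X.res _ b * X.res _ 1 : X.ring q.1) = (X.res _ 1 * X.res _ b : X.ring q.1)
  rw [map_one, mul_one, one_mul]

/-- (T) sections over the meet of two minimal open sets above a common point are a tensor product -/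
theorem tensor_sect (hX : X.IsSchematic) {s x y : X.pt} (hx : s ≤ x) (hy : s ≤ y) :
    letI : Algebra (X.ring s) (X.ring x) := (X.res hx).toAlgebra
    letI : Algebra (X.ring s) (X.ring y) := (X.res hy).toAlgebra
    ∃ e : X.ring y ⊗[X.ring s] X.ring x ≃+ X.str.sect (X.up x ∩ X.up y),
      ∀ (a : X.ring y) (b : X.ring x) (q : ↥(X.up x ∩ X.up y)),
        (e (a ⊗ₜ b)).1 q = X.res q.2.2 a * X.res q.2.1 b := by
  letI : Algebra (X.ring s) (X.ring x) := (X.res hx).toAlgebra
  letI : Algebra (X.ring s) (X.ring y) := (X.res hy).toAlgebra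
  have hbc := (hX.2.2 0 x x le_rfl s y hy).2
  obtain ⟨e, he⟩ := bc_least (U := (Hom.id X).wedge x s) (M := X.str)
    (m := ⟨x, ⟨le_rfl, hx⟩⟩) (hm := fun q => q.2.1)
    (P := X.ring x) (ι := AddEquiv.refl _) (hι := fun a p => rfl) ((Hom.id X).subTgt x hy) hbc
  exact ⟨e, fun a b q => he a b q⟩

/-- (G) a geometric point kills the rings of the points strictly above its base point -/
theorem geom_tensor_subsingleton {Ω : Type u} [Field Ω] [IsAlgClosed Ω] (ξ : GeomPt X Ω)
    {x' : X.pt} (hx : ξ.base < x') :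
    letI : Algebra (X.ring ξ.base) (X.ring x') := (X.res hx.le).toAlgebra
    letI : Algebra (X.ring ξ.base) Ω := ξ.toField.toAlgebra
    Subsingleton (X.ring x' ⊗[X.ring ξ.base] Ω) := by
  letI : Algebra (X.ring ξ.base) (X.ring x') := (X.res hx.le).toAlgebra
  letI : Algebra (X.ring ξ.base) Ω := ξ.toField.toAlgebra
  have hbc := (ξ.isSchematic.2.2 0 PUnit.unit PUnit.unit le_rfl ξ.base x' hx.le).2
  obtain ⟨e, he⟩ := bc_least (U := ξ.hom.wedge PUnit.unit ξ.base) (R := X.ring ξ.base)
    (φ := Coef.ofHom ξ.hom ξ.base (ξ.hom.wedge PUnit.unit ξ.base)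
      (ξ.hom.wedge_subset_pre PUnit.unit ξ.base))
    (M := (RSpace.point Ω).str)
    (m := ⟨PUnit.unit, ⟨le_rfl, le_rfl⟩⟩) (hm := fun q => le_rfl)
    (P := Ω) (ι := AddEquiv.refl _)
    (hι := fun a p => congrArg (fun t : X.ring ξ.base => ξ.toField t * p)
      (X.res_self ξ.base a).symm)
    (ξ.hom.subTgt PUnit.unit hx.le) hbc
  have hempty : IsEmpty ↥(ξ.hom.wedge PUnit.unit x') :=
    ⟨fun q => absurd q.2.2 (not_le_of_gt hx)⟩
  exact ⟨fun a b => e.injective (Subtype.ext (funext fun q => hempty.elim q))⟩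

end Concrete

section RingLemmas

/-- ring maps out of the target of an epimorphism agreeing on the source agree -/
theorem ringHom_ext_of_tmul {A B : Type u} [CommRing A] [CommRing B] (f : A →+* B)
    (hepi : letI : Algebra A B := f.toAlgebra; ∀ b : B, b ⊗ₜ[A] (1 : B) = 1 ⊗ₜ[A] b)
    {T : Type u} [CommRing T] (g₁ g₂ : B →+* T) (hg : g₁.comp f = g₂.comp f) : g₁ = g₂ := by
  letI : Algebra A B := f.toAlgebra
  letI : Algebra A T := (g₁.comp f).toAlgebra
  let G₁ : B →ₐ[A] T := { g₁ with commutes' := fun r => rfl }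
  let G₂ : B →ₐ[A] T := { g₂ with commutes' := fun r => (RingHom.congr_fun hg r).symm }
  ext b
  have := congrArg (Algebra.TensorProduct.productMap G₁ G₂) (hepi b)
  rw [Algebra.TensorProduct.productMap_apply_tmul, Algebra.TensorProduct.productMap_apply_tmul,
    map_one, map_one, mul_one, one_mul] at this
  exact this

/-- a faithfully flat algebra whose two inclusions into the tensor square agree is an isomorphism -/
theorem bijective_of_faithfullyFlat_of_tmul {C D : Type u} [CommRing C] [CommRing D] [Algebra C D]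
    [Module.FaithfullyFlat C D] (hinc : ∀ d : D, d ⊗ₜ[C] (1 : D) = 1 ⊗ₜ[C] d) :
    Function.Bijective (algebraMap C D) := by
  apply Module.FaithfullyFlat.bijective_of_tensorProduct (S := D)
  have h0 : ∀ d : D, algebraMap D (D ⊗[C] D) d = d ⊗ₜ[C] (1 : D) := fun d => by
    rw [Algebra.TensorProduct.algebraMap_apply]; rfl
  constructor
  · intro d d' hdd
    have := congrArg (Algebra.TensorProduct.lmul' C (S := D)) hdd
    rw [h0, h0, Algebra.TensorProduct.lmul'_apply_tmul, Algebra.TensorProduct.lmul'_apply_tmul,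
      mul_one, mul_one] at this
    exact this
  · intro z
    induction z using TensorProduct.induction_on with
    | zero => exact ⟨0, map_zero _⟩
    | tmul d d' =>
      refine ⟨d * d', ?_⟩
      rw [h0]
      calc (d * d') ⊗ₜ[C] (1 : D) = (d ⊗ₜ[C] (1 : D)) * (d' ⊗ₜ[C] (1 : D)) := by
            rw [Algebra.TensorProduct.tmul_mul_tmul, mul_one]
        _ = (d ⊗ₜ[C] (1 : D)) * ((1 : D) ⊗ₜ[C] d') := by rw [hinc d']
        _ = d ⊗ₜ[C] d' := by rw [Algebra.TensorProduct.tmul_mul_tmul, mul_one, one_mul]
    | add z z' hz hz' =>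
      obtain ⟨w, hw⟩ := hz
      obtain ⟨w', hw'⟩ := hz'
      exact ⟨w + w', by rw [map_add, hw, hw']⟩

/-- a flat epimorphism induces bijections on the local rings -/
theorem localRingHom_bijective_of_flat_epi {A B : Type u} [CommRing A] [CommRing B] (f : A →+* B)
    (hflat : f.Flat)
    (hepi : ∀ {T : Type u} [CommRing T] (g₁ g₂ : B →+* T), g₁.comp f = g₂.comp f → g₁ = g₂)
    (P : Ideal B) [P.IsPrime] :
    Function.Bijective (Localization.localRingHom (P.comap f) P f rfl) := by
  have hφflat : (Localization.localRingHom (P.comap f) P f rfl).Flat :=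
    RingHom.Flat.localRingHom hflat P (P.comap f) rfl
  letI : Algebra (Localization.AtPrime (P.comap f)) (Localization.AtPrime P) :=
    (Localization.localRingHom (P.comap f) P f rfl).toAlgebra
  haveI : Module.Flat (Localization.AtPrime (P.comap f)) (Localization.AtPrime P) := hφflat
  haveI : IsLocalHom (algebraMap (Localization.AtPrime (P.comap f)) (Localization.AtPrime P)) :=
    Localization.isLocalHom_localRingHom _ _ _ _
  haveI : Module.FaithfullyFlat (Localization.AtPrime (P.comap f)) (Localization.AtPrime P) :=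
    Module.FaithfullyFlat.of_flat_of_isLocalHom
  show Function.Bijective (algebraMap (Localization.AtPrime (P.comap f)) (Localization.AtPrime P))
  apply bijective_of_faithfullyFlat_of_tmul
  -- the two inclusions agree
  have hinc : (Algebra.TensorProduct.includeLeftRingHom :
      Localization.AtPrime P →+* Localization.AtPrime P ⊗[Localization.AtPrime (P.comap f)]
        Localization.AtPrime P) =
      (Algebra.TensorProduct.includeRight : Localization.AtPrime P →ₐ[Localization.AtPrime (P.comap f)]
        Localization.AtPrime P ⊗[Localization.AtPrime (P.comap f)] Localization.AtPrime P).toRingHom := by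
    apply IsLocalization.ringHom_ext P.primeCompl
    apply hepi
    ext a
    show (algebraMap B (Localization.AtPrime P) (f a)) ⊗ₜ[Localization.AtPrime (P.comap f)]
        (1 : Localization.AtPrime P) =
      (1 : Localization.AtPrime P) ⊗ₜ[Localization.AtPrime (P.comap f)]
        (algebraMap B (Localization.AtPrime P) (f a))
    have h1 : algebraMap B (Localization.AtPrime P) (f a) =
        algebraMap (Localization.AtPrime (P.comap f)) (Localization.AtPrime P)
          (algebraMap A (Localization.AtPrime (P.comap f)) a) :=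
      (Localization.localRingHom_to_map (P.comap f) P f rfl a).symm
    rw [h1, Algebra.algebraMap_eq_smul_one, TensorProduct.smul_tmul]
  intro d
  exact RingHom.congr_fun hinc d

end RingLemmas

end Groth.Agent.H78.SF
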