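import Groth.Agent.H78.SF4
import Mathlib.RingTheory.Flat.FaithfullyFlat.Algebra
import Mathlib.RingTheory.Spectrum.Prime.FreeLocus
import Mathlib.RingTheory.LocalRing.Module
import Mathlib.RingTheory.Ideal.GoingUp
import Mathlib.LinearAlgebra.TensorProduct.RightExactness

/-!
# Injective maps of finite étale algebras with equal ranks are bijective (helper78)
-/

set_option autoImplicit false
set_option maxHeartbeats 400000
universe u
open SchFin TensorProduct

namespace Groth.Agent.H78.SF

/-- an injective map of finite étale algebras makes the target faithfully flat over the source -/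
theorem faithfullyFlat_of_injective (R : Type u) {A B : Type u} [CommRing R] [CommRing A] [CommRing B]
    [Algebra R A] [Algebra R B] [Module.Finite R A] [Algebra.Etale R A]
    [Module.Finite R B] [Algebra.Etale R B] [Algebra A B] [IsScalarTower R A B]
    (hf : Function.Injective (algebraMap A B)) : Module.FaithfullyFlat A B := by
  haveI : Algebra.Etale A B := Algebra.Etale.of_restrictScalars R A B
  haveI : Module.Flat A B := inferInstance
  haveI : Module.Finite A B := Module.Finite.of_restrictScalars_finite R A B
  haveI : Algebra.IsIntegral A B := Algebra.IsIntegral.of_finite A B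
  refine Module.FaithfullyFlat.of_comap_surjective fun P => ?_
  obtain ⟨Q, _, hQ, hQP⟩ := Ideal.exists_ideal_over_prime_of_isIntegral P.asIdeal (⊥ : Ideal B) (by
    rw [Ideal.comap_bot_of_injective _ hf]; exact bot_le)
  exact ⟨⟨Q, hQ⟩, PrimeSpectrum.ext hQP⟩

/-- a faithfully flat algebra map stays injective after any base change of the base ring -/
theorem lTensor_injective_of_faithfullyFlat {R A B : Type u} [CommRing R] [CommRing A] [CommRing B]
    [Algebra R A] [Algebra R B] [Algebra A B] [IsScalarTower R A B] [Module.FaithfullyFlat A B]
    (k : Type u) [CommRing k] [Algebra R k] :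
    Function.Injective ((IsScalarTower.toAlgHom R A B).toLinearMap.lTensor k) := by
  have h1 := Module.FaithfullyFlat.tensorProduct_mk_injective (A := A) (B := B) (A ⊗[R] k)
  let e := AlgebraTensorModule.cancelBaseChange R A A B k
  have h2 : Function.Injective ((IsScalarTower.toAlgHom R A B).toLinearMap.rTensor k) := by
    have h3 : ∀ z : A ⊗[R] k, (IsScalarTower.toAlgHom R A B).toLinearMap.rTensor k z =
        e (TensorProduct.mk A B (A ⊗[R] k) 1 z) := by
      intro z
      induction z using TensorProduct.induction_on with
      | zero => simp
      | tmul a x =>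
          simp only [LinearMap.rTensor_tmul, TensorProduct.mk_apply, e,
            AlgebraTensorModule.cancelBaseChange_tmul]
          rw [Algebra.smul_def, mul_one]
          rfl
      | add z w hz hw => simp only [map_add, hz, hw]
    intro z w hzw
    rw [h3, h3] at hzw
    exact h1 (e.injective hzw)
  have h4 : ∀ z : k ⊗[R] A, TensorProduct.comm R k B
      ((IsScalarTower.toAlgHom R A B).toLinearMap.lTensor k z) =
      (IsScalarTower.toAlgHom R A B).toLinearMap.rTensor k (TensorProduct.comm R k A z) := by
    intro z
    induction z using TensorProduct.induction_on with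
    | zero => simp
    | tmul x a => simp
    | add z w hz hw => simp only [map_add, hz, hw]
  intro z w hzw
  have h5 := congrArg (TensorProduct.comm R k B) hzw
  rw [h4, h4] at h5
  exact (TensorProduct.comm R k A).injective (h2 h5)

/-- an injective map of finite étale algebras over a Noetherian ring with equal ranks at all primes
is surjective -/
theorem surjective_of_injective_of_rankAtStalk_eq {R A B : Type u} [CommRing R] [CommRing A]
    [CommRing B] [Algebra R A] [Algebra R B] [Module.Finite R A] [Algebra.Etale R A]
    [Module.Finite R B] [Algebra.Etale R B] (f : A →ₐ[R] B) (hf : Function.Injective f)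
    (hr : ∀ P : PrimeSpectrum R, Module.rankAtStalk A P = Module.rankAtStalk B P) :
    Function.Surjective f := by
  letI : Algebra A B := f.toRingHom.toAlgebra
  haveI : IsScalarTower R A B := IsScalarTower.of_algebraMap_eq (fun r => (f.commutes r).symm)
  haveI : Module.FaithfullyFlat A B := faithfullyFlat_of_injective R hf
  haveI : Module.Flat R A := inferInstance
  haveI : Module.Flat R B := inferInstance
  have hfl : (IsScalarTower.toAlgHom R A B).toLinearMap = f.toLinearMap := rfl
  set N := LinearMap.range f.toLinearMap with hN
  have hsub : Subsingleton (B ⧸ N) := by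
    rw [← Module.support_eq_empty_iff (R := R), Set.eq_empty_iff_forall_notMem]
    intro P hP
    rw [Module.mem_support_iff_nontrivial_residueField_tensorProduct] at hP
    have hinj : Function.Injective (f.toLinearMap.baseChange P.asIdeal.ResidueField) := by
      have := lTensor_injective_of_faithfullyFlat (R := R) (A := A) (B := B) P.asIdeal.ResidueField
      rw [hfl] at this
      exact this
    have hdim : Module.finrank P.asIdeal.ResidueField (P.asIdeal.ResidueField ⊗[R] A) =
        Module.finrank P.asIdeal.ResidueField (P.asIdeal.ResidueField ⊗[R] B) := by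
      have h1 := Module.rankAtStalk_eq (M := A) P
      have h2 := Module.rankAtStalk_eq (M := B) P
      rw [hr P] at h1
      exact h1.symm.trans h2
    have hsurj : Function.Surjective (f.toLinearMap.baseChange P.asIdeal.ResidueField) :=
      (LinearMap.injective_iff_surjective_of_finrank_eq_finrank hdim).mp hinj
    have hex : Function.Exact (f.toLinearMap.lTensor P.asIdeal.ResidueField)
        (N.mkQ.lTensor P.asIdeal.ResidueField) :=
      lTensor_exact _ (LinearMap.exact_map_mkQ_range f.toLinearMap) (Submodule.mkQ_surjective N)
    have hq : Function.Surjective (N.mkQ.lTensor P.asIdeal.ResidueField) :=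
      LinearMap.lTensor_surjective _ (Submodule.mkQ_surjective N)
    have hss : Subsingleton (P.asIdeal.ResidueField ⊗[R] (B ⧸ N)) := by
      refine ⟨fun x y => ?_⟩
      obtain ⟨x', rfl⟩ := hq x
      obtain ⟨y', rfl⟩ := hq y
      obtain ⟨x'', rfl⟩ := hsurj x'
      obtain ⟨y'', rfl⟩ := hsurj y'
      have e1 := hex.apply_apply_eq_zero x''
      have e2 := hex.apply_apply_eq_zero y''
      exact e1.trans e2.symm
    exact not_nontrivial _ hP
  rw [Submodule.Quotient.subsingleton_iff] at hsub
  intro b
  have hb : b ∈ N := by rw [hsub]; trivial
  obtain ⟨a, ha⟩ := hb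
  exact ⟨a, ha⟩

end Groth.Agent.H78.SF
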