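import Groth.Agent.H78.SF6

/-!
# Kernel families, test objects (helper78)
-/

set_option autoImplicit false
set_option maxHeartbeats 400000
universe u
open SchFin TensorProduct CategoryTheory

namespace Groth.Agent.H78.SF

variable {X : RSpace.{u}}

/-- the kernels of a morphism of étale covers are generated by a compatible family of
idempotents -/
theorem exists_kerFam (hX : X.IsFinSp) {A B : Alg X} (hA : A.IsEtCover) (hB : B.IsEtCover)
    (f : A ⟶ B) : ∃ E : IdemFam A, ∀ p, RingHom.ker (f.app p) = Ideal.span {E.e p} := by
  have hex : ∀ p, ∃ e : A.carrier p, IsIdempotentElem e ∧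
      RingHom.ker (f.app p) = Ideal.span {e} := by
    intro p
    haveI := hX.1 p
    haveI := (hA.2 p).1
    haveI := (hA.2 p).2
    haveI := (hB.2 p).1
    haveI := (hB.2 p).2
    exact exists_idempotent_ker (f.app p)
  choose e he1 he2 using hex
  refine ⟨⟨e, he1, ?_⟩, he2⟩
  intro p q h
  have h1 := ker_app_eq_span_res hX hA.1 hB.1 f h (e p) (he2 p)
  have h2 : IsIdempotentElem (A.res h (e p)) := (he1 p).map (A.res h)
  exact idempotent_eq_of_span_eq h2 (he1 q) (h1.symm.trans (he2 q))

/-- the structure algebra is an étale cover -/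
theorem str_isEtCover (X : RSpace.{u}) : (Alg.str X).IsEtCover := by
  refine ⟨fun p q h => ?_, fun p => ⟨?_, ?_⟩⟩
  · show IsBCAlong (X.res h) ((Alg.str X).toMod.res h)
    unfold IsBCAlong
    letI : Algebra (X.ring p) (X.ring q) := (X.res h).toAlgebra
    letI : Module (X.ring p) ((Alg.str X).toMod.carrier q) := Module.compHom _ (X.res h)
    haveI : IsScalarTower (X.ring p) (X.ring q) ((Alg.str X).toMod.carrier q) :=
      IsScalarTower.of_algebraMap_smul fun _ _ => rfl
    refine IsBaseChange.of_equiv
      (TensorProduct.AlgebraTensorModule.rid (X.ring p) (X.ring q) (X.ring q)) ?_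
    intro (a : X.ring p)
    show a • (1 : X.ring q) = X.res h a
    rw [Algebra.smul_def, mul_one]; rfl
  · exact (inferInstance : Module.Finite (X.ring p) (X.ring p))
  · exact (inferInstance : Algebra.Etale (X.ring p) (X.ring p))

/-- the algebra map `R × R → A` attached to an idempotent -/
def idemHom {R A : Type u} [CommRing R] [CommRing A] [Algebra R A] (e : A)
    (he : IsIdempotentElem e) : (R × R) →ₐ[R] A where
  toFun uv := algebraMap R A uv.1 * e + algebraMap R A uv.2 * (1 - e)
  map_one' := by simp
  map_mul' uv uv' := by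
    have h1 : e * e = e := he
    simp only [Prod.fst_mul, Prod.snd_mul, map_mul]
    linear_combination (-(algebraMap R A uv.1 * algebraMap R A uv'.1
      - algebraMap R A uv.1 * algebraMap R A uv'.2 - algebraMap R A uv.2 * algebraMap R A uv'.1
      + algebraMap R A uv.2 * algebraMap R A uv'.2)) * h1
  map_zero' := by simp
  map_add' uv uv' := by simp only [Prod.fst_add, Prod.snd_add, map_add]; ring
  commutes' r := by
    show algebraMap R A r * e + algebraMap R A r * (1 - e) = algebraMap R A r
    ring

/-- the morphism from `𝒪 × 𝒪` attached to a compatible family of idempotents -/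
def famHom {A : Alg X} (E : IdemFam A) :
    Groth.Agent.S15622.prodAlg (Alg.str X) (Alg.str X) ⟶ A :=
  ⟨fun p => idemHom (R := X.ring p) (E.e p) (E.idem p),
   fun {p q} h (uv : X.ring p × X.ring p) => by
    show A.res h (algebraMap (X.ring p) (A.carrier p) uv.1 * E.e p +
        algebraMap (X.ring p) (A.carrier p) uv.2 * (1 - E.e p)) =
      algebraMap (X.ring q) (A.carrier q) (X.res h uv.1) * E.e q +
        algebraMap (X.ring q) (A.carrier q) (X.res h uv.2) * (1 - E.e q)
    rw [map_add, map_mul, map_mul, map_sub, map_one, E.res h, A.res_algebraMap,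
      A.res_algebraMap]⟩

/-- the zero family -/
def IdemFam.zero (A : Alg X) : IdemFam A := ⟨fun _ => 0, fun _ => IsIdempotentElem.zero,
  fun _ => map_zero _⟩

end Groth.Agent.H78.SF
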