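import Groth.Agent.H78.SF10
import Groth.Agent.H78.SF7
import Groth.Agent.H78.SpecConnected
import Mathlib.RingTheory.Etale.Field
import Mathlib.RingTheory.TotallySplit

/-!
# Constancy of the rank of an étale cover and the cardinality of geometric fibres (helper78)
-/

set_option autoImplicit false
set_option maxHeartbeats 400000
universe u
open SchFin TensorProduct CategoryTheory

namespace Groth.Agent.H78.SF

/-- a function on the points of a connected space with nontrivial rings which is constant along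
the order is constant -/
theorem eq_of_forall_le_eq {X : RSpace.{u}} (hc : X.IsConnected)
    (hnt : ∀ p : X.pt, Nontrivial (X.ring p))
    {α : Type*} (φ : X.pt → α) (hφ : ∀ p q : X.pt, p ≤ q → φ p = φ q) (p q : X.pt) :
    φ p = φ q := by
  classical
  obtain ⟨_, hidem⟩ := (Groth.Agent.H78.connectedSpace_primeSpectrum_iff _).mp hc
  let e : X.sectRing Set.univ := ⟨fun r => if φ r.1 = φ p then 1 else 0, fun r r' h => by
      show X.res h (if φ r.1 = φ p then 1 else 0) = if φ r'.1 = φ p then 1 else 0
      rw [hφ r.1 r'.1 h]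
      split_ifs <;> simp⟩
  have he : IsIdempotentElem e := by
    apply Subtype.ext
    funext r
    show (if φ r.1 = φ p then (1 : X.ring r.1) else 0) * (if φ r.1 = φ p then 1 else 0) =
      if φ r.1 = φ p then 1 else 0
    split_ifs <;> simp
  haveI := hnt p
  haveI := hnt q
  rcases hidem e he with h0 | h1
  · have h2 := congrArg (fun t : X.sectRing Set.univ => t.1 ⟨p, trivial⟩) h0
    have h3 : (if φ p = φ p then (1 : X.ring p) else 0) = 0 := h2
    rw [if_pos rfl] at h3
    exact absurd h3 one_ne_zero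
  · have h2 := congrArg (fun t : X.sectRing Set.univ => t.1 ⟨q, trivial⟩) h1
    by_contra hne
    have h3 : (if φ q = φ p then (1 : X.ring q) else 0) = 1 := h2
    rw [if_neg (fun h => hne h.symm)] at h3
    exact zero_ne_one h3

/-- ranks along a base change -/
theorem rankAtStalk_of_isBCAlong {R S : Type u} [CommRing R] [CommRing S] (g : R →+* S)
    {M N : Type u} [AddCommGroup M] [AddCommGroup N] [Module R M] [Module S N]
    [Module.Finite R M] [Module.Flat R M]
    (f : M →ₛₗ[g] N) (h : IsBCAlong g f) (Q : PrimeSpectrum S) :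
    Module.rankAtStalk N Q = Module.rankAtStalk M (PrimeSpectrum.comap g Q) := by
  unfold IsBCAlong at h
  letI : Algebra R S := g.toAlgebra
  letI : Module R N := Module.compHom N g
  haveI : IsScalarTower R S N := IsScalarTower.of_algebraMap_smul fun _ _ => rfl
  exact Module.rankAtStalk_isBaseChange h Q

variable {X : RSpace.{u}}

/-- on a well-connected space the rank of an étale cover is constant -/
theorem exists_rank_const (hX : X.IsFinSp) (hwc : X.IsWellConnected) (A : Alg X)
    (hA : A.IsEtCover) :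
    ∃ n : ℕ, ∀ (p : X.pt) (P : PrimeSpectrum (X.ring p)),
      Module.rankAtStalk (A.carrier p) P = n := by
  have h1 : ∀ (p : X.pt) (P Q : PrimeSpectrum (X.ring p)),
      Module.rankAtStalk (A.carrier p) P = Module.rankAtStalk (A.carrier p) Q := by
    intro p P Q
    haveI := hX.1 p
    haveI := (hA.2 p).1
    haveI := (hA.2 p).2
    haveI : Module.Flat (X.ring p) (A.carrier p) := inferInstance
    haveI : Module.FinitePresentation (X.ring p) (A.carrier p) :=
      Module.finitePresentation_of_finite _ _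
    haveI := hwc.2 p
    exact (Module.isLocallyConstant_rankAtStalk (R := X.ring p)
      (M := A.carrier p)).apply_eq_of_preconnectedSpace P Q
  have hne : ∀ p : X.pt, Nonempty (PrimeSpectrum (X.ring p)) := fun p => (hwc.2 p).toNonempty
  have hnt : ∀ p : X.pt, Nontrivial (X.ring p) := fun p =>
    ((Groth.Agent.H78.connectedSpace_primeSpectrum_iff _).mp (hwc.2 p)).1
  let φ : X.pt → ℕ := fun p => Module.rankAtStalk (A.carrier p) (Classical.choice (hne p))
  have hφ : ∀ p q : X.pt, p ≤ q → φ p = φ q := by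
    intro p q h
    haveI := (hA.2 p).1
    haveI := (hA.2 p).2
    haveI : Module.Flat (X.ring p) (A.carrier p) := inferInstance
    haveI hfin' : Module.Finite (X.ring p) (A.toMod.carrier p) := (hA.2 p).1
    haveI hflat' : Module.Flat (X.ring p) (A.toMod.carrier p) :=
      (inferInstance : Module.Flat (X.ring p) (A.carrier p))
    have h2 := rankAtStalk_of_isBCAlong (X.res h)
      (A.toMod.res h) (hA.1 p q h) (Classical.choice (hne q))
    exact (h1 p _ _).trans h2.symm
  by_cases hpt : Nonempty X.pt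
  · obtain ⟨p0⟩ := hpt
    refine ⟨φ p0, fun p P => ?_⟩
    rw [eq_of_forall_le_eq hwc.1 hnt φ hφ p0 p]
    exact h1 p _ _
  · exact ⟨0, fun p => (hpt ⟨p⟩).elim⟩

/-- the rank of a finite étale algebra at the prime under a geometric point is the number of points
of the geometric fibre -/
theorem rankAtStalk_eq_card_spec {R T Ω : Type u} [CommRing R] [CommRing T] [Algebra R T] [Field Ω]
    [IsAlgClosed Ω] [Algebra R Ω] [Module.Finite R T] [Algebra.Etale R T] :
    Module.rankAtStalk T (PrimeSpectrum.comap (algebraMap R Ω) ⟨⊥, Ideal.isPrime_bot⟩) =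
      Nat.card (PrimeSpectrum (Ω ⊗[R] T)) := by
  haveI : Module.Flat R T := inferInstance
  rw [← Module.rankAtStalk_baseChange (R := R) (M := T) (S := Ω) ⟨⊥, Ideal.isPrime_bot⟩]
  rw [Module.rankAtStalk_eq_finrank_of_free]
  simp only [Pi.natCast_apply, Nat.cast_id]
  haveI : Algebra.Etale Ω (Ω ⊗[R] T) := inferInstance
  haveI : Module.Finite Ω (Ω ⊗[R] T) := inferInstance
  haveI : IsArtinianRing (Ω ⊗[R] T) := IsArtinianRing.of_finite Ω _
  haveI : Finite (PrimeSpectrum (Ω ⊗[R] T)) := inferInstance
  cases nonempty_fintype (PrimeSpectrum (Ω ⊗[R] T))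
  let e := Algebra.FormallyEtale.equivPiOfIsSepClosed Ω (Ω ⊗[R] T)
  rw [e.toLinearEquiv.finrank_eq, Module.finrank_fintype_fun_eq_card, Nat.card_eq_fintype_card]

variable {Ω : Type u} [Field Ω] [IsAlgClosed Ω]

/-- the geometric fibre of an étale cover of constant rank `n` has `n` points -/
theorem card_fib_eq (ξ : GeomPt X Ω) (A : Alg X) (hA : A.IsEtCover) (n : ℕ)
    (hn : ∀ P : PrimeSpectrum (X.ring ξ.base), Module.rankAtStalk (A.carrier ξ.base) P = n) : Nat.card (ξ.Fib A) = n := by
  letI : Algebra (X.ring ξ.base) Ω := ξ.toField.toAlgebra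
  haveI := (hA.2 ξ.base).1
  haveI := (hA.2 ξ.base).2
  have h := rankAtStalk_eq_card_spec (R := X.ring ξ.base) (T := A.carrier ξ.base) (Ω := Ω)
  rw [hn] at h
  exact h.symm

/-- on a well-connected space, a morphism of étale covers inducing a surjection of geometric fibres
is injective at every point -/
theorem injective_of_fibMap_surjective (hX : X.IsFinSp) (hwc : X.IsWellConnected) (ξ : GeomPt X Ω)
    {B A : FEt X} (g : B ⟶ A) (hs : Function.Surjective (ξ.fibMap g.hom)) :
    ∀ p, Function.Injective (g.hom.app p) := by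
  obtain ⟨E, hE⟩ := exists_kerFam hX B.property A.property g.hom
  obtain ⟨n, hn⟩ := exists_rank_const hX hwc (pieceAlg B.obj E)
    (pieceAlg_isEtCover B.obj B.property E)
  have hcard := card_fib_eq ξ (pieceAlg B.obj E) (pieceAlg_isEtCover B.obj B.property E) n
    (hn ξ.base)
  have hempty : IsEmpty (ξ.Fib (pieceAlg B.obj E)) := by
    refine ⟨fun c => ?_⟩
    obtain ⟨a, ha⟩ := hs (ξ.fibMap (toPiece B.obj E) c)
    letI : Algebra (X.ring ξ.base) Ω := ξ.toField.toAlgebra
    have h1 : (1 : Ω) ⊗ₜ[X.ring ξ.base] (E.e ξ.base) ∈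
        PrimeSpectrum.asIdeal (ξ.fibMap g.hom a) := by
      show (Algebra.TensorProduct.map (AlgHom.id Ω Ω) (g.hom.app ξ.base)).toRingHom
        ((1 : Ω) ⊗ₜ[X.ring ξ.base] (E.e ξ.base)) ∈ PrimeSpectrum.asIdeal a
      have h0 : g.hom.app ξ.base (E.e ξ.base) = 0 := by
        have : E.e ξ.base ∈ RingHom.ker (g.hom.app ξ.base) := by
          rw [hE]; exact Ideal.mem_span_singleton_self _
        exact this
      have h00 : (Algebra.TensorProduct.map (AlgHom.id Ω Ω) (g.hom.app ξ.base)).toRingHom
        ((1 : Ω) ⊗ₜ[X.ring ξ.base] (E.e ξ.base)) = 0 := by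
        show (Algebra.TensorProduct.map (AlgHom.id Ω Ω) (g.hom.app ξ.base))
          ((1 : Ω) ⊗ₜ[X.ring ξ.base] (E.e ξ.base)) = 0
        rw [Algebra.TensorProduct.map_tmul, h0, TensorProduct.tmul_zero]
      rw [h00]
      exact Ideal.zero_mem _
    have h2 : (1 : Ω) ⊗ₜ[X.ring ξ.base] (1 - E.e ξ.base) ∈
        PrimeSpectrum.asIdeal (ξ.fibMap (toPiece B.obj E) c) := by
      show (Algebra.TensorProduct.map (AlgHom.id Ω Ω)
        ((toPiece B.obj E).app ξ.base)).toRingHom
        ((1 : Ω) ⊗ₜ[X.ring ξ.base] (1 - E.e ξ.base)) ∈ PrimeSpectrum.asIdeal c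
      have h0 : (toPiece B.obj E).app ξ.base (1 - E.e ξ.base) = 0 := by
        have : (1 - E.e ξ.base) ∈ RingHom.ker ((toPiece B.obj E).app ξ.base) := by
          rw [toPiece_ker]; exact Ideal.mem_span_singleton_self _
        exact this
      have h00 : (Algebra.TensorProduct.map (AlgHom.id Ω Ω)
          ((toPiece B.obj E).app ξ.base)).toRingHom
          ((1 : Ω) ⊗ₜ[X.ring ξ.base] (1 - E.e ξ.base)) = 0 := by
        show (Algebra.TensorProduct.map (AlgHom.id Ω Ω) ((toPiece B.obj E).app ξ.base))
          ((1 : Ω) ⊗ₜ[X.ring ξ.base] (1 - E.e ξ.base)) = 0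
        rw [Algebra.TensorProduct.map_tmul, h0, TensorProduct.tmul_zero]
      rw [h00]
      exact Ideal.zero_mem _
    rw [ha] at h1
    have h3 := Ideal.add_mem _ h1 h2
    rw [← TensorProduct.tmul_add, add_sub_cancel] at h3
    exact (PrimeSpectrum.isPrime (ξ.fibMap (toPiece B.obj E) c)).ne_top
      ((Ideal.eq_top_iff_one _).mpr h3)
  have hn0 : n = 0 := by
    rw [← hcard]
    exact Nat.card_of_isEmpty
  intro p
  have hC := pieceAlg_isEtCover B.obj B.property E
  haveI := (hC.2 p).1
  haveI := (hC.2 p).2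
  have hsub : Subsingleton ((pieceAlg B.obj E).carrier p) := by
    haveI : Module.Flat (X.ring p) ((pieceAlg B.obj E).carrier p) := inferInstance
    rw [← Module.rankAtStalk_eq_zero_iff_subsingleton (R := X.ring p)]
    funext P
    rw [hn p P, hn0]
    rfl
  have he0 : E.e p = 0 := by
    have h1 : (1 : B.obj.carrier p) ∈ Ideal.span {1 - E.e p} := by
      rw [← toPiece_ker, RingHom.mem_ker]
      exact Subsingleton.elim _ _
    obtain ⟨s, hs⟩ := Ideal.mem_span_singleton'.mp h1
    calc E.e p = (s * (1 - E.e p)) * E.e p := by rw [hs, one_mul]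
      _ = s * (E.e p - E.e p * E.e p) := by ring
      _ = 0 := by rw [(E.idem p).eq, sub_self, mul_zero]
  rw [injective_iff_map_eq_zero]
  intro b hb
  have h1 : b ∈ RingHom.ker (g.hom.app p) := hb
  rw [hE p, he0, Ideal.mem_span_singleton'] at h1
  obtain ⟨s, hs⟩ := h1
  rw [← hs, mul_zero]

end Groth.Agent.H78.SF
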