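import Groth.Agent.H78.SF8
import Mathlib.CategoryTheory.Limits.Shapes.Pullback.HasPullback
import Mathlib.CategoryTheory.Limits.Shapes.Terminal

/-!
# Initial object and pushouts of étale covers (helper78)
-/

set_option autoImplicit false
set_option maxHeartbeats 800000
universe u
open SchFin TensorProduct CategoryTheory CategoryTheory.Limits

namespace Groth.Agent.H78.SF

variable {X : RSpace.{u}}

/-- pure tensors, typed in the tensor algebra -/
def tm {A B : Alg X} {p : X.pt} (a : A.carrier p) (b : B.carrier p) :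
    (tensorAlg A B).carrier p := a ⊗ₜ[X.ring p] b

lemma tensorAlg_induction {A B : Alg X} {p : X.pt} {motive : (tensorAlg A B).carrier p → Prop}
    (zero : motive 0) (tmul : ∀ a b, motive (tm a b))
    (add : ∀ x y, motive x → motive y → motive (x + y)) (t : (tensorAlg A B).carrier p) :
    motive t :=
  TensorProduct.induction_on (motive := motive) t zero tmul add

lemma inlT_app {A B : Alg X} {p : X.pt} (a : A.carrier p) : (inlT A B).app p a = tm a 1 := rfl
lemma inrT_app {A B : Alg X} {p : X.pt} (b : B.carrier p) : (inrT A B).app p b = tm 1 b := rfl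

lemma tm_eq_mul {A B : Alg X} {p : X.pt} (a : A.carrier p) (b : B.carrier p) :
    (tm a b : (tensorAlg A B).carrier p) = tm a 1 * tm 1 b := by
  show a ⊗ₜ[X.ring p] b = (a ⊗ₜ[X.ring p] (1 : B.carrier p)) * ((1 : A.carrier p) ⊗ₜ[X.ring p] b)
  rw [Algebra.TensorProduct.tmul_mul_tmul, mul_one, one_mul]

lemma tm_sub_left {A B : Alg X} {p : X.pt} (a a' : A.carrier p) (b : B.carrier p) :
    (tm (a - a') b : (tensorAlg A B).carrier p) = tm a b - tm a' b :=
  TensorProduct.sub_tmul a a' b

lemma tensorDesc_tm {A B T : Alg X} (α : A ⟶ T) (β : B ⟶ T) {p : X.pt} (a : A.carrier p)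
    (b : B.carrier p) : (tensorDesc α β).app p (tm a b) = α.app p a * β.app p b :=
  tensorDesc_tmul α β p a b

/-- multiplication `C ⊗ C → C` -/
noncomputable def mulT (C : Alg X) : tensorAlg C C ⟶ C := tensorDesc (𝟙 C) (𝟙 C)

lemma mulT_tm (C : Alg X) {p : X.pt} (c c' : C.carrier p) :
    (mulT C).app p (tm c c') = c * c' := tensorDesc_tmul _ _ p c c'

/-- image of an idempotent family under a morphism -/
def IdemFam.map {A B : Alg X} (w : A ⟶ B) (E : IdemFam A) : IdemFam B :=
  ⟨fun p => w.app p (E.e p), fun p => (E.idem p).map (w.app p),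
    fun {p q} h => by rw [w.compat, E.res h]⟩

/-- the map `C ⊗ C → A ⊗ B` induced by `u` and `v` -/
noncomputable def pushW {A B C : Alg X} (u : C ⟶ A) (v : C ⟶ B) :
    tensorAlg C C ⟶ tensorAlg A B :=
  tensorDesc (u ≫ inlT A B) (v ≫ inrT A B)

lemma pushW_tm {A B C : Alg X} (u : C ⟶ A) (v : C ⟶ B) {p : X.pt} (c c' : C.carrier p) :
    (pushW u v).app p (tm c c') = tm (u.app p c) (v.app p c') := by
  rw [pushW, tensorDesc_tm, tm_eq_mul (u.app p c) (v.app p c')]
  rfl

theorem hasColimit_span_FEt (hX : X.IsFinSp) {A B C : FEt X} (f : C ⟶ A) (g : C ⟶ B) :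
    HasColimit (span f g) := by
  obtain ⟨E₀, hE₀⟩ := exists_kerFam hX (tensorAlg_isEtCover _ _ C.property C.property)
    C.property (mulT C.obj)
  let W := pushW f.hom g.hom
  let E' : IdemFam (tensorAlg A.obj B.obj) := (E₀.map W).compl
  let P : FEt X := ⟨pieceAlg (tensorAlg A.obj B.obj) E',
    pieceAlg_isEtCover _ (tensorAlg_isEtCover _ _ A.property B.property) E'⟩
  let inl : A ⟶ P := ObjectProperty.homMk (inlT A.obj B.obj ≫ toPiece _ E')
  let inr : B ⟶ P := ObjectProperty.homMk (inrT A.obj B.obj ≫ toPiece _ E')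
  have hcancel : ∀ p, 1 - E'.e p = W.app p (E₀.e p) := fun p => sub_sub_cancel _ _
  have hkill : ∀ p (t : (tensorAlg C.obj C.obj).carrier p),
      t ∈ Ideal.span {E₀.e p} → (toPiece _ E').app p (W.app p t) = 0 := by
    intro p t ht
    obtain ⟨d, rfl⟩ := Ideal.mem_span_singleton'.mp ht
    apply Ideal.Quotient.eq_zero_iff_mem.mpr
    rw [hcancel p, map_mul]
    exact Ideal.mul_mem_left _ _ (Ideal.mem_span_singleton_self _)
  have hcomm : f ≫ inl = g ≫ inr := by
    apply ObjectProperty.hom_ext
    apply Alg.hom_ext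
    intro p
    apply AlgHom.ext
    intro c
    show (toPiece _ E').app p (tm (f.hom.app p c) 1) = (toPiece _ E').app p (tm 1 (g.hom.app p c))
    have h1 : (tm c 1 - tm 1 c : (tensorAlg C.obj C.obj).carrier p) ∈ Ideal.span {E₀.e p} := by
      rw [← hE₀ p, RingHom.mem_ker, map_sub, mulT_tm, mulT_tm, mul_one, one_mul, sub_self]
    have h2 := hkill p _ h1
    rw [map_sub, map_sub, pushW_tm, pushW_tm, map_one, map_one, sub_eq_zero] at h2
    exact h2
  -- the descent data
  have hφ : ∀ (s : PushoutCocone f g) (p : X.pt),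
      ∀ t ∈ Ideal.span {1 - E'.e p}, (tensorDesc s.inl.hom s.inr.hom).app p t = 0 := by
    intro s p t ht
    have hαβ : ∀ c : C.obj.carrier p,
        s.inl.hom.app p (f.hom.app p c) = s.inr.hom.app p (g.hom.app p c) := fun c =>
      congrArg (fun k => k.hom.app p c) s.condition
    have h1 : ∀ t' : (tensorAlg C.obj C.obj).carrier p,
        (tensorDesc s.inl.hom s.inr.hom).app p (W.app p t') =
          s.inl.hom.app p (f.hom.app p ((mulT C.obj).app p t')) := by
      intro t'
      induction t' using tensorAlg_induction with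
      | zero => rw [map_zero, map_zero, map_zero, map_zero, map_zero]
      | tmul c c' =>
        rw [pushW_tm, tensorDesc_tm, mulT_tm, map_mul, map_mul, ← hαβ c']
      | add t t' ht ht' => rw [map_add, map_add, map_add, map_add, map_add, ht, ht']
    rw [hcancel p] at ht
    obtain ⟨d, rfl⟩ := Ideal.mem_span_singleton'.mp ht
    rw [map_mul, h1 (E₀.e p)]
    have h2 : (mulT C.obj).app p (E₀.e p) = 0 := by
      rw [← RingHom.mem_ker, hE₀ p]; exact Ideal.mem_span_singleton_self _
    rw [h2, map_zero, map_zero, mul_zero]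
  refine HasColimit.mk ⟨PushoutCocone.mk inl inr hcomm, PushoutCocone.IsColimit.mk hcomm
    (fun s => ObjectProperty.homMk
      ⟨fun p => Ideal.Quotient.liftₐ _ ((tensorDesc s.inl.hom s.inr.hom).app p) (hφ s p),
       fun {p q} h b => by
        obtain ⟨t, rfl⟩ := Ideal.Quotient.mk_surjective b
        exact (tensorDesc s.inl.hom s.inr.hom).compat h t⟩) ?_ ?_ ?_⟩
  · intro s
    apply ObjectProperty.hom_ext
    apply Alg.hom_ext
    intro p
    apply AlgHom.ext
    intro a
    show (tensorDesc s.inl.hom s.inr.hom).app p (tm a 1) = _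
    rw [tensorDesc_tm, map_one, mul_one]
  · intro s
    apply ObjectProperty.hom_ext
    apply Alg.hom_ext
    intro p
    apply AlgHom.ext
    intro b
    show (tensorDesc s.inl.hom s.inr.hom).app p (tm 1 b) = _
    rw [tensorDesc_tm, map_one, one_mul]
  · intro s m h1 h2
    apply ObjectProperty.hom_ext
    apply Alg.hom_ext
    intro p
    apply AlgHom.ext
    intro x
    obtain ⟨t, rfl⟩ := Ideal.Quotient.mk_surjective x
    have e1 : ∀ a : A.obj.carrier p, m.hom.app p ((toPiece _ E').app p (tm a 1)) =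
        s.inl.hom.app p a :=
      fun a => congrArg (fun k => k.hom.app p a) h1
    have e2 : ∀ b : B.obj.carrier p, m.hom.app p ((toPiece _ E').app p (tm 1 b)) =
        s.inr.hom.app p b :=
      fun b => congrArg (fun k => k.hom.app p b) h2
    show m.hom.app p ((toPiece _ E').app p t) = (tensorDesc s.inl.hom s.inr.hom).app p t
    induction t using tensorAlg_induction with
    | zero => rw [map_zero, map_zero, map_zero]
    | tmul a b =>
      rw [tensorDesc_tm, tm_eq_mul, map_mul, map_mul, e1, e2]
    | add t t' ht ht' => rw [map_add, map_add, map_add, ht, ht']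

theorem hasPushouts_FEt (hX : X.IsFinSp) : HasPushouts (FEt X) :=
  haveI : ∀ {A B C : FEt X} {f : C ⟶ A} {g : C ⟶ B}, HasColimit (span f g) :=
    fun {_ _ _ f g} => hasColimit_span_FEt hX f g
  hasPushouts_of_hasColimit_span (FEt X)

theorem hasInitial_FEt (X : RSpace.{u}) : HasInitial (FEt X) := by
  let I : FEt X := ⟨Alg.str X, str_isEtCover X⟩
  haveI : ∀ Y : FEt X, Nonempty (I ⟶ Y) := fun Y =>
    ⟨ObjectProperty.homMk ⟨fun p => Algebra.ofId (X.ring p) (Y.obj.carrier p),
      fun h a => Y.obj.res_algebraMap h a⟩⟩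
  haveI : ∀ Y : FEt X, Subsingleton (I ⟶ Y) := fun Y =>
    ⟨fun f g => by
      apply ObjectProperty.hom_ext
      apply Alg.hom_ext
      intro p
      apply AlgHom.ext
      intro (x : X.ring p)
      have h1 := (f.hom.app p).commutes x
      have h2 := (g.hom.app p).commutes x
      exact h1.trans h2.symm⟩
  exact hasInitial_of_unique I

end Groth.Agent.H78.SF
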