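import Groth.Agent.H78.SF11
import Groth.Agent.H78.SF9
import Groth.Agent.S15622
import Mathlib.RingTheory.TotallySplit

/-!
# Points of geometric fibres with values in the field, and the pointwise pushout (helper78)
-/

set_option autoImplicit false
set_option maxHeartbeats 800000
universe u
open SchFin TensorProduct CategoryTheory CategoryTheory.Limits

namespace Groth.Agent.H78.SF

section Pt

variable {R : Type u} [CommRing R] {Ω : Type u} [Field Ω] [IsAlgClosed Ω] [Algebra R Ω]
variable {S T : Type u} [CommRing S] [CommRing T] [Algebra R S] [Algebra R T]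

/-- the `Ω`-algebra map `Ω ⊗ T → Ω` attached to an `R`-algebra map `T → Ω` -/
noncomputable def liftΩ (φ : T →ₐ[R] Ω) : Ω ⊗[R] T →ₐ[Ω] Ω :=
  Algebra.TensorProduct.lift (AlgHom.id Ω Ω) φ (fun _ _ => Commute.all _ _)

omit [IsAlgClosed Ω] in
lemma liftΩ_tmul (φ : T →ₐ[R] Ω) (w : Ω) (t : T) : liftΩ φ (w ⊗ₜ[R] t) = w * φ t := by
  simp [liftΩ]

/-- the point of the geometric fibre attached to a map to the field -/
noncomputable def kerPt (φ : T →ₐ[R] Ω) : PrimeSpectrum (Ω ⊗[R] T) :=
  ⟨RingHom.ker (liftΩ φ), RingHom.ker_isPrime _⟩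

omit [IsAlgClosed Ω] in
lemma liftΩ_comp (γ : S →ₐ[R] T) (φ : T →ₐ[R] Ω) (z : Ω ⊗[R] S) :
    liftΩ φ (Algebra.TensorProduct.map (AlgHom.id Ω Ω) γ z) = liftΩ (φ.comp γ) z := by
  induction z using TensorProduct.induction_on with
  | zero => simp
  | tmul w s => rw [Algebra.TensorProduct.map_tmul, liftΩ_tmul, liftΩ_tmul]; rfl
  | add z z' hz hz' => rw [map_add, map_add, map_add, hz, hz']

omit [IsAlgClosed Ω] in
lemma kerPt_comp (γ : S →ₐ[R] T) (φ : T →ₐ[R] Ω) :
    PrimeSpectrum.comap (Algebra.TensorProduct.map (AlgHom.id Ω Ω) γ).toRingHom (kerPt φ) =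
      kerPt (φ.comp γ) := by
  apply PrimeSpectrum.ext
  ext z
  show liftΩ φ (Algebra.TensorProduct.map (AlgHom.id Ω Ω) γ z) = 0 ↔ liftΩ (φ.comp γ) z = 0
  rw [liftΩ_comp]

theorem kerPt_bijective [Module.Finite R T] [Algebra.Etale R T] :
    Function.Bijective (kerPt (R := R) (Ω := Ω) (T := T)) := by
  haveI : Algebra.Etale Ω (Ω ⊗[R] T) := inferInstance
  haveI : Algebra.IsFiniteSplit Ω (Ω ⊗[R] T) := inferInstance
  constructor
  · intro φ φ' h
    have h1 : liftΩ φ = liftΩ φ' := by
      apply (Algebra.IsFiniteSplit.algHomEquivPrimeSpectrum Ω (Ω ⊗[R] T)).injective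
      exact h
    apply AlgHom.ext
    intro t
    have h2 := congrArg (fun F : Ω ⊗[R] T →ₐ[Ω] Ω => F ((1 : Ω) ⊗ₜ[R] t)) h1
    simpa [liftΩ_tmul] using h2
  · intro 𝔭
    obtain ⟨F, hF⟩ := (Algebra.IsFiniteSplit.algHomEquivPrimeSpectrum Ω (Ω ⊗[R] T)).surjective 𝔭
    refine ⟨(F.restrictScalars R).comp Algebra.TensorProduct.includeRight, ?_⟩
    have h1 : liftΩ ((F.restrictScalars R).comp Algebra.TensorProduct.includeRight) = F := by
      apply Algebra.TensorProduct.ext'
      intro w t
      rw [liftΩ_tmul]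
      show w * F ((1 : Ω) ⊗ₜ[R] t) = F (w ⊗ₜ[R] t)
      rw [← smul_eq_mul, ← map_smul, TensorProduct.smul_tmul', smul_eq_mul, mul_one]
    rw [← hF]
    apply PrimeSpectrum.ext
    show RingHom.ker (liftΩ _) = RingHom.ker F
    rw [h1]

/-- an injective map of finite étale algebras induces a surjection on geometric fibres -/
theorem comap_surjective_of_injective [Module.Finite R S] [Algebra.Etale R S]
    [Module.Finite R T] [Algebra.Etale R T] (γ : S →ₐ[R] T) (hγ : Function.Injective γ) :
    Function.Surjective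
      (PrimeSpectrum.comap (Algebra.TensorProduct.map (AlgHom.id Ω Ω) γ).toRingHom) := by
  letI : Algebra S T := γ.toRingHom.toAlgebra
  haveI : IsScalarTower R S T := IsScalarTower.of_algebraMap_eq (fun r => (γ.commutes r).symm)
  haveI : Module.FaithfullyFlat S T := faithfullyFlat_of_injective R hγ
  have hinj : Function.Injective (Algebra.TensorProduct.map (AlgHom.id Ω Ω) γ) := by
    have h0 := lTensor_injective_of_faithfullyFlat (R := R) (A := S) (B := T) Ω
    have h1 : ∀ z : Ω ⊗[R] S, (IsScalarTower.toAlgHom R S T).toLinearMap.lTensor Ω z =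
        Algebra.TensorProduct.map (AlgHom.id Ω Ω) γ z := by
      intro z
      induction z using TensorProduct.induction_on with
      | zero => simp
      | tmul w s => rw [LinearMap.lTensor_tmul, Algebra.TensorProduct.map_tmul]; rfl
      | add z z' hz hz' => rw [map_add, map_add, hz, hz']
    intro z w hzw
    apply h0
    rw [h1, h1, hzw]
  letI : Algebra (Ω ⊗[R] S) (Ω ⊗[R] T) :=
    (Algebra.TensorProduct.map (AlgHom.id Ω Ω) γ).toRingHom.toAlgebra
  haveI : IsScalarTower Ω (Ω ⊗[R] S) (Ω ⊗[R] T) := IsScalarTower.of_algebraMap_eq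
    (fun w => ((Algebra.TensorProduct.map (AlgHom.id Ω Ω) γ).commutes w).symm)
  haveI : Module.Finite Ω (Ω ⊗[R] T) := inferInstance
  haveI : Module.Finite (Ω ⊗[R] S) (Ω ⊗[R] T) := Module.Finite.of_restrictScalars_finite Ω _ _
  haveI : Algebra.IsIntegral (Ω ⊗[R] S) (Ω ⊗[R] T) := Algebra.IsIntegral.of_finite _ _
  have hinj' : Function.Injective (algebraMap (Ω ⊗[R] S) (Ω ⊗[R] T)) := hinj
  intro P
  obtain ⟨Q, _, hQ, hQP⟩ := Ideal.exists_ideal_over_prime_of_isIntegral P.asIdeal
    (⊥ : Ideal (Ω ⊗[R] T)) (by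
      rw [Ideal.comap_bot_of_injective _ hinj']; exact bot_le)
  exact ⟨⟨Q, hQ⟩, PrimeSpectrum.ext hQP⟩

end Pt

section Push

variable {X : RSpace.{u}} (hX : X.IsFinSp) {A B C : FEt X} (f : C ⟶ A) (g : C ⟶ B)

/-- a chosen family of idempotents generating the kernel of the multiplication `C ⊗ C → C` -/
noncomputable def mulKerFam (C : FEt X) : IdemFam (tensorAlg C.obj C.obj) :=
  Classical.choose (exists_kerFam hX (tensorAlg_isEtCover _ _ C.property C.property)
    C.property (mulT C.obj))

lemma mulKerFam_spec (C : FEt X) (p : X.pt) :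
    RingHom.ker ((mulT C.obj).app p) = Ideal.span {(mulKerFam hX C).e p} :=
  Classical.choose_spec (exists_kerFam hX (tensorAlg_isEtCover _ _ C.property C.property)
    C.property (mulT C.obj)) p

/-- the family of idempotents cutting the pushout out of the tensor product -/
noncomputable def pushFam : IdemFam (tensorAlg A.obj B.obj) :=
  ((mulKerFam hX C).map (pushW f.hom g.hom)).compl

lemma pushFam_cancel (p : X.pt) : 1 - (pushFam hX f g).e p =
    (pushW f.hom g.hom).app p ((mulKerFam hX C).e p) := sub_sub_cancel _ _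

/-- the pushout of étale covers -/
@[reducible] noncomputable def pushObj : FEt X :=
  ⟨pieceAlg (tensorAlg A.obj B.obj) (pushFam hX f g),
    pieceAlg_isEtCover _ (tensorAlg_isEtCover _ _ A.property B.property) _⟩

/-- left inclusion into the pushout -/
noncomputable def pushInl : A ⟶ pushObj hX f g :=
  ObjectProperty.homMk (inlT A.obj B.obj ≫ toPiece _ (pushFam hX f g))

/-- right inclusion into the pushout -/
noncomputable def pushInr : B ⟶ pushObj hX f g :=
  ObjectProperty.homMk (inrT A.obj B.obj ≫ toPiece _ (pushFam hX f g))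

lemma pushInl_app (p : X.pt) (a : A.obj.carrier p) :
    (pushInl hX f g).hom.app p a = (toPiece _ (pushFam hX f g)).app p (tm a 1) := rfl

lemma pushInr_app (p : X.pt) (b : B.obj.carrier p) :
    (pushInr hX f g).hom.app p b = (toPiece _ (pushFam hX f g)).app p (tm 1 b) := rfl

lemma push_comm : f ≫ pushInl hX f g = g ≫ pushInr hX f g := by
  apply ObjectProperty.hom_ext
  apply Alg.hom_ext
  intro p
  apply AlgHom.ext
  intro c
  show (toPiece _ (pushFam hX f g)).app p (tm (f.hom.app p c) 1) =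
    (toPiece _ (pushFam hX f g)).app p (tm 1 (g.hom.app p c))
  have h1 : (tm c 1 - tm 1 c : (tensorAlg C.obj C.obj).carrier p) ∈
      Ideal.span {(mulKerFam hX C).e p} := by
    rw [← mulKerFam_spec hX C p, RingHom.mem_ker, map_sub, mulT_tm, mulT_tm, mul_one, one_mul,
      sub_self]
  obtain ⟨d, hd⟩ := Ideal.mem_span_singleton'.mp h1
  have h2 : (toPiece _ (pushFam hX f g)).app p
      ((pushW f.hom g.hom).app p (tm c 1 - tm 1 c)) = 0 := by
    rw [← hd]
    apply Ideal.Quotient.eq_zero_iff_mem.mpr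
    rw [pushFam_cancel hX f g p, map_mul]
    exact Ideal.mul_mem_left _ _ (Ideal.mem_span_singleton_self _)
  rw [map_sub, map_sub, pushW_tm, pushW_tm, map_one, map_one, sub_eq_zero] at h2
  exact h2

variable {f g}

/-- the product map, typed on the tensor algebra -/
noncomputable def prodMapT {A B : Alg X} {p : X.pt} {T : Type u} [CommRing T]
    [Algebra (X.ring p) T] (α : A.carrier p →ₐ[X.ring p] T) (β : B.carrier p →ₐ[X.ring p] T) :
    (tensorAlg A B).carrier p →ₐ[X.ring p] T :=
  Algebra.TensorProduct.productMap α β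

lemma prodMapT_tm {A B : Alg X} {p : X.pt} {T : Type u} [CommRing T] [Algebra (X.ring p) T]
    (α : A.carrier p →ₐ[X.ring p] T) (β : B.carrier p →ₐ[X.ring p] T) (a : A.carrier p)
    (b : B.carrier p) :
    prodMapT α β (tm a b) = α a * β b :=
  Algebra.TensorProduct.productMap_apply_tmul _ _ a b

theorem push_kill (p : X.pt) {T : Type u} [CommRing T] [Algebra (X.ring p) T]
    (α : A.obj.carrier p →ₐ[X.ring p] T) (β : B.obj.carrier p →ₐ[X.ring p] T)
    (hαβ : ∀ c, α (f.hom.app p c) = β (g.hom.app p c)) :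
    ∀ t : (tensorAlg A.obj B.obj).carrier p, t ∈ Ideal.span {1 - (pushFam hX f g).e p} →
      prodMapT α β t = 0 := by
  intro t ht
  have h1 : ∀ t' : (tensorAlg C.obj C.obj).carrier p,
      prodMapT α β ((pushW f.hom g.hom).app p t') =
        α (f.hom.app p ((mulT C.obj).app p t')) := by
    intro t'
    induction t' using tensorAlg_induction with
    | zero => rw [map_zero, map_zero, map_zero, map_zero, map_zero]
    | tmul c c' =>
      rw [pushW_tm, prodMapT_tm, mulT_tm, map_mul, map_mul, ← hαβ c']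
    | add t t' ht ht' => rw [map_add, map_add, map_add, map_add, map_add, ht, ht']
  rw [pushFam_cancel] at ht
  obtain ⟨d, rfl⟩ := Ideal.mem_span_singleton'.mp ht
  rw [map_mul, h1]
  have h2 : (mulT C.obj).app p ((mulKerFam hX C).e p) = 0 := by
    rw [← RingHom.mem_ker, mulKerFam_spec]; exact Ideal.mem_span_singleton_self _
  rw [h2, map_zero, map_zero, mul_zero]

/-- the pointwise map out of the pushout -/
noncomputable def pushDescPt (p : X.pt) {T : Type u} [CommRing T] [Algebra (X.ring p) T]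
    (α : A.obj.carrier p →ₐ[X.ring p] T) (β : B.obj.carrier p →ₐ[X.ring p] T)
    (hαβ : ∀ c, α (f.hom.app p c) = β (g.hom.app p c)) :
    (pushObj hX f g).obj.carrier p →ₐ[X.ring p] T :=
  Ideal.Quotient.liftₐ (Ideal.span {1 - (pushFam hX f g).e p})
    (prodMapT α β) (push_kill hX p α β hαβ)

lemma pushDescPt_inl (p : X.pt) {T : Type u} [CommRing T] [Algebra (X.ring p) T]
    (α : A.obj.carrier p →ₐ[X.ring p] T) (β : B.obj.carrier p →ₐ[X.ring p] T)
    (hαβ : ∀ c, α (f.hom.app p c) = β (g.hom.app p c)) (a : A.obj.carrier p) :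
    pushDescPt hX p α β hαβ ((pushInl hX f g).hom.app p a) = α a := by
  show prodMapT α β (tm a 1) = α a
  rw [prodMapT_tm, map_one, mul_one]

lemma pushDescPt_inr (p : X.pt) {T : Type u} [CommRing T] [Algebra (X.ring p) T]
    (α : A.obj.carrier p →ₐ[X.ring p] T) (β : B.obj.carrier p →ₐ[X.ring p] T)
    (hαβ : ∀ c, α (f.hom.app p c) = β (g.hom.app p c)) (b : B.obj.carrier p) :
    pushDescPt hX p α β hαβ ((pushInr hX f g).hom.app p b) = β b := by
  show prodMapT α β (tm 1 b) = β b
  rw [prodMapT_tm, map_one, one_mul]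

lemma pushPt_ext (p : X.pt) {T : Type u} [CommRing T] [Algebra (X.ring p) T]
    (φ φ' : (pushObj hX f g).obj.carrier p →ₐ[X.ring p] T)
    (h1 : ∀ a, φ ((pushInl hX f g).hom.app p a) = φ' ((pushInl hX f g).hom.app p a))
    (h2 : ∀ b, φ ((pushInr hX f g).hom.app p b) = φ' ((pushInr hX f g).hom.app p b)) :
    φ = φ' := by
  apply AlgHom.ext
  intro x
  obtain ⟨t, rfl⟩ := toPiece_surjective _ (pushFam hX f g) p x
  induction t using tensorAlg_induction with
  | zero => rw [map_zero, map_zero, map_zero]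
  | tmul a b =>
    rw [tm_eq_mul, map_mul, map_mul, map_mul]
    exact congrArg₂ (· * ·) (h1 a) (h2 b)
  | add t t' ht ht' => rw [map_add, map_add, map_add, ht, ht']

/-- the morphism out of the pushout -/
noncomputable def pushDesc {T : FEt X} (α : A ⟶ T) (β : B ⟶ T) (h : f ≫ α = g ≫ β) :
    pushObj hX f g ⟶ T :=
  ObjectProperty.homMk
    ⟨fun p => pushDescPt hX p (α.hom.app p) (β.hom.app p)
      (fun c => congrArg (fun k => k.hom.app p c) h),
     fun {p q} hpq b => by
      obtain ⟨t, rfl⟩ := Ideal.Quotient.mk_surjective b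
      exact (tensorDesc α.hom β.hom).compat hpq t⟩

lemma pushInl_desc {T : FEt X} (α : A ⟶ T) (β : B ⟶ T) (h : f ≫ α = g ≫ β) :
    pushInl hX f g ≫ pushDesc hX α β h = α := by
  apply ObjectProperty.hom_ext
  apply Alg.hom_ext
  intro p
  apply AlgHom.ext
  intro a
  exact pushDescPt_inl (f := f) (g := g) hX p (α.hom.app p) (β.hom.app p)
    (fun c => congrArg (fun k => k.hom.app p c) h) a

lemma pushInr_desc {T : FEt X} (α : A ⟶ T) (β : B ⟶ T) (h : f ≫ α = g ≫ β) :
    pushInr hX f g ≫ pushDesc hX α β h = β := by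
  apply ObjectProperty.hom_ext
  apply Alg.hom_ext
  intro p
  apply AlgHom.ext
  intro b
  exact pushDescPt_inr (f := f) (g := g) hX p (α.hom.app p) (β.hom.app p)
    (fun c => congrArg (fun k => k.hom.app p c) h) b

lemma push_hom_ext {T : FEt X} (m m' : pushObj hX f g ⟶ T)
    (h1 : pushInl hX f g ≫ m = pushInl hX f g ≫ m')
    (h2 : pushInr hX f g ≫ m = pushInr hX f g ≫ m') : m = m' := by
  apply ObjectProperty.hom_ext
  apply Alg.hom_ext
  intro p
  exact pushPt_ext hX p _ _ (fun a => congrArg (fun k => k.hom.app p a) h1)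
    (fun b => congrArg (fun k => k.hom.app p b) h2)

end Push

end Groth.Agent.H78.SF
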