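import Groth.Agent.H78.SF12
import Groth.Agent.S15626
import Mathlib.CategoryTheory.Limits.Preserves.Shapes.Pullbacks
import Mathlib.CategoryTheory.Limits.Preserves.Shapes.BinaryProducts
import Mathlib.CategoryTheory.Limits.Preserves.Shapes.Terminal
import Mathlib.CategoryTheory.Limits.Constructions.FiniteProductsOfBinaryProducts
import Mathlib.CategoryTheory.Limits.Opposites
import Mathlib.CategoryTheory.Limits.Shapes.Opposites.Products
import Mathlib.CategoryTheory.Limits.Preserves.Finite

/-!
# The fibre functor preserves terminal objects, pullbacks, finite coproducts, epimorphisms (helper78)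
-/

set_option autoImplicit false
set_option maxHeartbeats 800000
universe u
open SchFin TensorProduct CategoryTheory CategoryTheory.Limits

namespace Groth.Agent.H78.SF

open Groth.Agent.S15622

section Alg

variable {R A B Ω : Type u} [CommRing R] [CommRing A] [CommRing B] [Field Ω] [Algebra R A]
  [Algebra R B] [Algebra R Ω]

/-- a map from a product of algebras to a field factors through one of the projections -/
theorem algHom_prod_cases (φ : A × B →ₐ[R] Ω) :
    (∃ α : A →ₐ[R] Ω, φ = α.comp (AlgHom.fst R A B)) ∨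
      (∃ β : B →ₐ[R] Ω, φ = β.comp (AlgHom.snd R A B)) := by
  have hid : φ ((1, 0) : A × B) * φ ((1, 0) : A × B) = φ ((1, 0) : A × B) := by
    rw [← map_mul, Prod.mk_mul_mk, mul_one, mul_zero]
  have hsum : φ ((1, 0) : A × B) + φ ((0, 1) : A × B) = 1 := by
    rw [← map_add, Prod.mk_add_mk, add_zero, zero_add]
    exact map_one φ
  have h01 : φ ((1, 0) : A × B) = 0 ∨ φ ((1, 0) : A × B) = 1 := by
    have h : φ ((1, 0) : A × B) * (φ ((1, 0) : A × B) - 1) = 0 := by
      rw [mul_sub, hid, mul_one, sub_self]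
    rcases mul_eq_zero.mp h with h | h
    · left; exact h
    · right; exact sub_eq_zero.mp h
  rcases h01 with h0 | h1
  · right
    have h1' : φ ((0, 1) : A × B) = 1 := by rw [h0, zero_add] at hsum; exact hsum
    refine ⟨{ toFun := fun b => φ ((0, b) : A × B)
              map_one' := h1'
              map_mul' := fun b b' => by rw [← map_mul, Prod.mk_mul_mk, mul_zero]
              map_zero' := map_zero φ
              map_add' := fun b b' => by rw [← map_add, Prod.mk_add_mk, add_zero]
              commutes' := fun r => by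
                have h : ((0, algebraMap R B r) : A × B) = algebraMap R (A × B) r * (0, 1) := by
                  rw [Prod.algebraMap_apply, Prod.mk_mul_mk, mul_one, mul_zero]
                show φ ((0, algebraMap R B r) : A × B) = algebraMap R Ω r
                rw [h, map_mul, h1', mul_one, AlgHom.commutes] }, ?_⟩
    apply AlgHom.ext
    rintro ⟨a, b⟩
    show φ ((a, b) : A × B) = φ ((0, b) : A × B)
    have h : ((a, b) : A × B) = (a, 0) * (1, 0) + (0, b) := by
      rw [Prod.mk_mul_mk, mul_one, mul_zero, Prod.mk_add_mk, add_zero, zero_add]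
    calc φ ((a, b) : A × B) = φ ((a, 0) * (1, 0) + (0, b)) := by rw [← h]
      _ = φ ((0, b) : A × B) := by rw [map_add, map_mul, h0, mul_zero, zero_add]
  · left
    have h0' : φ ((0, 1) : A × B) = 0 := by
      rw [h1] at hsum
      exact add_eq_left.mp hsum
    refine ⟨{ toFun := fun a => φ ((a, 0) : A × B)
              map_one' := h1
              map_mul' := fun a a' => by rw [← map_mul, Prod.mk_mul_mk, mul_zero]
              map_zero' := map_zero φ
              map_add' := fun a a' => by rw [← map_add, Prod.mk_add_mk, add_zero]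
              commutes' := fun r => by
                have h : ((algebraMap R A r, 0) : A × B) = algebraMap R (A × B) r * (1, 0) := by
                  rw [Prod.algebraMap_apply, Prod.mk_mul_mk, mul_one, mul_zero]
                show φ ((algebraMap R A r, 0) : A × B) = algebraMap R Ω r
                rw [h, map_mul, h1, mul_one, AlgHom.commutes] }, ?_⟩
    apply AlgHom.ext
    rintro ⟨a, b⟩
    show φ ((a, b) : A × B) = φ ((a, 0) : A × B)
    have h : ((a, b) : A × B) = (a, 0) + (0, b) * (0, 1) := by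
      rw [Prod.mk_mul_mk, mul_one, mul_zero, Prod.mk_add_mk, add_zero, zero_add]
    calc φ ((a, b) : A × B) = φ ((a, 0) + (0, b) * (0, 1)) := by rw [← h]
      _ = φ ((a, 0) : A × B) := by rw [map_add, map_mul, h0', mul_zero, add_zero]

end Alg

variable {X : RSpace.{u}} {Ω : Type u} [Field Ω] [IsAlgClosed Ω]

/-- the algebra structure of the field over the ring of the base point -/
@[reducible] noncomputable def algΩ (ξ : GeomPt X Ω) : Algebra (X.ring ξ.base) Ω :=
  ξ.toField.toAlgebra

attribute [local instance] algΩ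

lemma fibMap_kerPt (ξ : GeomPt X Ω) {A B : Alg X} (m : A ⟶ B)
    (φ : B.carrier ξ.base →ₐ[X.ring ξ.base] Ω) :
    ξ.fibMap m (kerPt φ) = kerPt (φ.comp (m.app ξ.base)) := kerPt_comp (m.app ξ.base) φ

lemma fib_exists_kerPt (ξ : GeomPt X Ω) (A : Alg X) (hA : A.IsEtCover) (𝔭 : ξ.Fib A) :
    ∃ φ : A.carrier ξ.base →ₐ[X.ring ξ.base] Ω, kerPt φ = 𝔭 := by
  haveI := (hA.2 ξ.base).1
  haveI := (hA.2 ξ.base).2
  exact (kerPt_bijective (R := X.ring ξ.base) (Ω := Ω) (T := A.carrier ξ.base)).2 𝔭

lemma kerPt_inj (ξ : GeomPt X Ω) (A : Alg X) (hA : A.IsEtCover)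
    (φ φ' : A.carrier ξ.base →ₐ[X.ring ξ.base] Ω) (h : (kerPt φ : ξ.Fib A) = kerPt φ') :
    φ = φ' := by
  haveI := (hA.2 ξ.base).1
  haveI := (hA.2 ξ.base).2
  exact (kerPt_bijective (R := X.ring ξ.base) (Ω := Ω) (T := A.carrier ξ.base)).1 h

theorem fib_push_inj (hX : X.IsFinSp) (ξ : GeomPt X Ω) {A B C : FEt X} (f : C ⟶ A) (g : C ⟶ B)
    (𝔭 𝔭' : ξ.Fib (pushObj hX f g).obj)
    (h1 : ξ.fibMap (pushInl hX f g).hom 𝔭 = ξ.fibMap (pushInl hX f g).hom 𝔭')
    (h2 : ξ.fibMap (pushInr hX f g).hom 𝔭 = ξ.fibMap (pushInr hX f g).hom 𝔭') : 𝔭 = 𝔭' := by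
  obtain ⟨φ, rfl⟩ := fib_exists_kerPt ξ _ (pushObj hX f g).property 𝔭
  obtain ⟨φ', rfl⟩ := fib_exists_kerPt ξ _ (pushObj hX f g).property 𝔭'
  rw [fibMap_kerPt, fibMap_kerPt] at h1 h2
  have e1 := kerPt_inj ξ _ A.property _ _ h1
  have e2 := kerPt_inj ξ _ B.property _ _ h2
  have e : φ = φ' := pushPt_ext hX ξ.base φ φ' (fun a => congrArg (fun k => k a) e1)
    (fun b => congrArg (fun k => k b) e2)
  rw [e]

theorem fib_push_surj (hX : X.IsFinSp) (ξ : GeomPt X Ω) {A B C : FEt X} (f : C ⟶ A) (g : C ⟶ B)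
    (a : ξ.Fib A.obj) (b : ξ.Fib B.obj) (h : ξ.fibMap f.hom a = ξ.fibMap g.hom b) :
    ∃ 𝔭 : ξ.Fib (pushObj hX f g).obj,
      ξ.fibMap (pushInl hX f g).hom 𝔭 = a ∧ ξ.fibMap (pushInr hX f g).hom 𝔭 = b := by
  obtain ⟨α, rfl⟩ := fib_exists_kerPt ξ _ A.property a
  obtain ⟨β, rfl⟩ := fib_exists_kerPt ξ _ B.property b
  rw [fibMap_kerPt, fibMap_kerPt] at h
  have e := kerPt_inj ξ _ C.property _ _ h
  have hαβ : ∀ c, α (f.hom.app ξ.base c) = β (g.hom.app ξ.base c) :=
    fun c => congrArg (fun k => k c) e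
  refine ⟨kerPt (pushDescPt hX ξ.base α β hαβ), ?_, ?_⟩
  · rw [fibMap_kerPt]
    congr 1
    apply AlgHom.ext
    intro a'
    exact pushDescPt_inl hX ξ.base α β hαβ a'
  · rw [fibMap_kerPt]
    congr 1
    apply AlgHom.ext
    intro b'
    exact pushDescPt_inr hX ξ.base α β hαβ b'

theorem fib_prod_cases (ξ : GeomPt X Ω) (A B : FEt X) (𝔭 : ξ.Fib (prodAlg A.obj B.obj)) :
    (∃ a : ξ.Fib A.obj, ξ.fibMap (prodFst A.obj B.obj) a = 𝔭) ∨
      (∃ b : ξ.Fib B.obj, ξ.fibMap (prodSnd A.obj B.obj) b = 𝔭) := by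
  obtain ⟨φ, rfl⟩ := fib_exists_kerPt ξ _ (prodAlg_isEtCover _ _ A.property B.property) 𝔭
  rcases algHom_prod_cases (A := A.obj.carrier ξ.base) (B := B.obj.carrier ξ.base) φ with
    ⟨α, hα⟩ | ⟨β, hβ⟩
  · left
    exact ⟨kerPt α, (fibMap_kerPt ξ (prodFst A.obj B.obj) α).trans (congrArg kerPt hα.symm)⟩
  · right
    exact ⟨kerPt β, (fibMap_kerPt ξ (prodSnd A.obj B.obj) β).trans (congrArg kerPt hβ.symm)⟩

theorem fib_prod_fst_inj (ξ : GeomPt X Ω) (A B : FEt X) :
    Function.Injective (ξ.fibMap (prodFst A.obj B.obj)) := by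
  intro a a' h
  obtain ⟨α, rfl⟩ := fib_exists_kerPt ξ _ A.property a
  obtain ⟨α', rfl⟩ := fib_exists_kerPt ξ _ A.property a'
  rw [fibMap_kerPt, fibMap_kerPt] at h
  have e := kerPt_inj ξ _ (prodAlg_isEtCover _ _ A.property B.property) _ _ h
  have e' : α = α' := by
    apply AlgHom.ext
    intro x
    exact congrArg
      (fun k => k ((x, 0) : A.obj.carrier ξ.base × B.obj.carrier ξ.base)) e
  rw [e']

theorem fib_prod_snd_inj (ξ : GeomPt X Ω) (A B : FEt X) :
    Function.Injective (ξ.fibMap (prodSnd A.obj B.obj)) := by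
  intro b b' h
  obtain ⟨β, rfl⟩ := fib_exists_kerPt ξ _ B.property b
  obtain ⟨β', rfl⟩ := fib_exists_kerPt ξ _ B.property b'
  rw [fibMap_kerPt, fibMap_kerPt] at h
  have e := kerPt_inj ξ _ (prodAlg_isEtCover _ _ A.property B.property) _ _ h
  have e' : β = β' := by
    apply AlgHom.ext
    intro x
    exact congrArg
      (fun k => k ((0, x) : A.obj.carrier ξ.base × B.obj.carrier ξ.base)) e
  rw [e']

theorem fib_prod_disjoint (ξ : GeomPt X Ω) (A B : FEt X) (a : ξ.Fib A.obj) (b : ξ.Fib B.obj) :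
    ξ.fibMap (prodFst A.obj B.obj) a ≠ ξ.fibMap (prodSnd A.obj B.obj) b := by
  intro h
  obtain ⟨α, rfl⟩ := fib_exists_kerPt ξ _ A.property a
  obtain ⟨β, rfl⟩ := fib_exists_kerPt ξ _ B.property b
  rw [fibMap_kerPt, fibMap_kerPt] at h
  have e := kerPt_inj ξ _ (prodAlg_isEtCover _ _ A.property B.property) _ _ h
  have h2 : α 1 = β 0 := congrArg
    (fun k => k ((1, 0) : A.obj.carrier ξ.base × B.obj.carrier ξ.base)) e
  rw [map_one, map_zero] at h2
  exact one_ne_zero h2

theorem fib_str_unique (ξ : GeomPt X Ω) :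
    Nonempty (ξ.Fib (Alg.str X)) ∧ Subsingleton (ξ.Fib (Alg.str X)) := by
  constructor
  · exact ⟨kerPt (R := X.ring ξ.base) (T := (Alg.str X).carrier ξ.base)
      (Algebra.ofId (X.ring ξ.base) Ω)⟩
  · refine ⟨fun 𝔭 𝔭' => ?_⟩
    obtain ⟨φ, rfl⟩ := fib_exists_kerPt ξ _ (str_isEtCover X) 𝔭
    obtain ⟨φ', rfl⟩ := fib_exists_kerPt ξ _ (str_isEtCover X) 𝔭'
    have e : φ = φ' := by
      apply AlgHom.ext
      intro (r : X.ring ξ.base)
      exact (φ.commutes r).trans (φ'.commutes r).symm
    rw [e]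

theorem fib_zero_isEmpty (ξ : GeomPt X Ω) : IsEmpty (ξ.Fib (zeroAlg X)) := by
  refine ⟨fun 𝔭 => ?_⟩
  obtain ⟨φ, -⟩ := fib_exists_kerPt ξ _ (zeroAlg_isEtCover X) 𝔭
  have h1 : φ 1 = 1 := map_one φ
  have h0 : φ 1 = 0 := by
    have h : (1 : (zeroAlg X).carrier ξ.base) = 0 := Subsingleton.elim (α := PUnit.{u+1}) _ _
    rw [h, map_zero]
  exact one_ne_zero (h1.symm.trans h0)

/-- the copairing on the fibre of a product -/
noncomputable def coprodDesc (ξ : GeomPt X Ω) (A B : FEt X) {T : Type u}
    (h : ξ.Fib A.obj → T) (k : ξ.Fib B.obj → T) (z : ξ.Fib (prodAlg A.obj B.obj)) : T := by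
  classical
  exact if hz : ∃ a, ξ.fibMap (prodFst A.obj B.obj) a = z then h (Classical.choose hz)
    else k (Classical.choose ((fib_prod_cases ξ A B z).resolve_left hz))

lemma coprodDesc_fst (ξ : GeomPt X Ω) (A B : FEt X) {T : Type u}
    (h : ξ.Fib A.obj → T) (k : ξ.Fib B.obj → T) (a : ξ.Fib A.obj) :
    coprodDesc ξ A B h k (ξ.fibMap (prodFst A.obj B.obj) a) = h a := by
  classical
  have hz : ∃ a', ξ.fibMap (prodFst A.obj B.obj) a' = ξ.fibMap (prodFst A.obj B.obj) a :=
    ⟨a, rfl⟩
  unfold coprodDesc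
  rw [dif_pos hz]
  exact congrArg h (fib_prod_fst_inj ξ A B (Classical.choose_spec hz))

lemma coprodDesc_snd (ξ : GeomPt X Ω) (A B : FEt X) {T : Type u}
    (h : ξ.Fib A.obj → T) (k : ξ.Fib B.obj → T) (b : ξ.Fib B.obj) :
    coprodDesc ξ A B h k (ξ.fibMap (prodSnd A.obj B.obj) b) = k b := by
  classical
  have hz : ¬ ∃ a', ξ.fibMap (prodFst A.obj B.obj) a' = ξ.fibMap (prodSnd A.obj B.obj) b :=
    fun ⟨a', ha'⟩ => fib_prod_disjoint ξ A B a' b ha'
  unfold coprodDesc
  rw [dif_neg hz]
  exact congrArg k (fib_prod_snd_inj ξ A B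
    (Classical.choose_spec ((fib_prod_cases ξ A B _).resolve_left hz)))

/-- surjective maps of finite sets are epimorphisms -/
lemma fintype_epi_of_surjective {Y Z : FintypeCat.{u}} (m : Y ⟶ Z)
    (hm : ∀ z : Z, ∃ y : Y, m y = z) : Epi m :=
  ⟨fun {W} h1 h2 h => by
    apply FintypeCat.hom_ext
    intro z
    obtain ⟨y, rfl⟩ := hm z
    exact ConcreteCategory.congr_hom h y⟩

theorem pres_epi (hX : X.IsSchematic) (ξ : GeomPt X Ω) :
    ξ.fibFunctor.PreservesEpimorphisms := by
  refine ⟨fun {A B} f hf => ?_⟩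
  haveI : Mono f.unop := inferInstance
  have hinj := Groth.Agent.S15626.result X hX f.unop ξ.base
  apply fintype_epi_of_surjective
  intro z
  haveI := (A.unop.property.2 ξ.base).1
  haveI := (A.unop.property.2 ξ.base).2
  haveI := (B.unop.property.2 ξ.base).1
  haveI := (B.unop.property.2 ξ.base).2
  obtain ⟨y, hy⟩ := comap_surjective_of_injective (R := X.ring ξ.base) (Ω := Ω)
    (f.unop.hom.app ξ.base) hinj z
  exact ⟨y, hy⟩

/-- the structure algebra is initial -/
noncomputable def strInitial (X : RSpace.{u}) :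
    IsInitial (⟨Alg.str X, str_isEtCover X⟩ : FEt X) :=
  IsInitial.ofUniqueHom
    (fun Y => ObjectProperty.homMk ⟨fun p => Algebra.ofId (X.ring p) (Y.obj.carrier p),
      fun h a => Y.obj.res_algebraMap h a⟩)
    (fun Y m => by
      apply ObjectProperty.hom_ext
      apply Alg.hom_ext
      intro p
      apply AlgHom.ext
      intro (x : X.ring p)
      exact (m.hom.app p).commutes x)

/-- the zero algebra is terminal -/
noncomputable def zeroTerminal (X : RSpace.{u}) :
    IsTerminal (⟨zeroAlg X, zeroAlg_isEtCover X⟩ : FEt X) :=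
  IsTerminal.ofUniqueHom
    (fun Y => ObjectProperty.homMk ⟨fun p =>
        { toFun := fun _ => PUnit.unit
          map_one' := rfl
          map_mul' := fun _ _ => rfl
          map_zero' := rfl
          map_add' := fun _ _ => rfl
          commutes' := fun _ => rfl }, fun _ _ => rfl⟩)
    (fun Y m => by
      apply ObjectProperty.hom_ext
      apply Alg.hom_ext
      intro p
      apply AlgHom.ext
      intro x
      exact Subsingleton.elim (α := PUnit.{u+1}) _ _)

theorem pres_terminal (ξ : GeomPt X Ω) :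
    PreservesLimitsOfShape (Discrete PEmpty.{1}) ξ.fibFunctor := by
  obtain ⟨⟨x0⟩, hsub⟩ := fib_str_unique ξ
  have hT : IsTerminal (ξ.fibFunctor.obj (Opposite.op (⟨Alg.str X, str_isEtCover X⟩ : FEt X))) :=
    IsTerminal.ofUniqueHom (fun Y => FintypeCat.homMk (fun _ => x0))
      (fun Y m => by
        apply FintypeCat.hom_ext
        intro y
        exact hsub.elim _ _)
  haveI : PreservesLimit (Functor.empty.{0} (FEt X)ᵒᵖ) ξ.fibFunctor :=
    preservesLimit_of_preserves_limit_cone (terminalOpOfInitial (strInitial X))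
      ((isLimitMapConeEmptyConeEquiv ξ.fibFunctor _).symm hT)
  exact preservesLimitsOfShape_pempty_of_preservesTerminal ξ.fibFunctor

theorem pres_initial (ξ : GeomPt X Ω) :
    PreservesColimitsOfShape (Discrete PEmpty.{1}) ξ.fibFunctor := by
  have hemp := fib_zero_isEmpty ξ
  have hI : IsInitial (ξ.fibFunctor.obj
      (Opposite.op (⟨zeroAlg X, zeroAlg_isEtCover X⟩ : FEt X))) :=
    IsInitial.ofUniqueHom (fun Y => FintypeCat.homMk (fun z => (hemp.false z).elim))
      (fun Y m => by
        apply FintypeCat.hom_ext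
        intro z
        exact (hemp.false z).elim)
  haveI : PreservesColimit (Functor.empty.{0} (FEt X)ᵒᵖ) ξ.fibFunctor :=
    preservesColimit_of_preserves_colimit_cocone (initialOpOfTerminal (zeroTerminal X))
      ((isColimitMapCoconeEmptyCoconeEquiv ξ.fibFunctor _).symm hI)
  exact preservesColimitsOfShape_pempty_of_preservesInitial ξ.fibFunctor

theorem pres_cospan (hX : X.IsFinSp) (ξ : GeomPt X Ω) {A B C : (FEt X)ᵒᵖ} (f : A ⟶ C)
    (g : B ⟶ C) : PreservesLimit (cospan f g) ξ.fibFunctor := by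
  let fst : Opposite.op (pushObj hX f.unop g.unop) ⟶ A := (pushInl hX f.unop g.unop).op
  let snd : Opposite.op (pushObj hX f.unop g.unop) ⟶ B := (pushInr hX f.unop g.unop).op
  have hcomm : fst ≫ f = snd ≫ g := by
    apply Quiver.Hom.unop_inj
    exact push_comm hX f.unop g.unop
  have hlim : IsLimit (PullbackCone.mk fst snd hcomm) := by
    refine PullbackCone.IsLimit.mk hcomm
      (fun s => (pushDesc hX s.fst.unop s.snd.unop
        (congrArg Quiver.Hom.unop s.condition)).op) ?_ ?_ ?_
    · intro s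
      apply Quiver.Hom.unop_inj
      exact pushInl_desc hX s.fst.unop s.snd.unop (congrArg Quiver.Hom.unop s.condition)
    · intro s
      apply Quiver.Hom.unop_inj
      exact pushInr_desc hX s.fst.unop s.snd.unop (congrArg Quiver.Hom.unop s.condition)
    · intro s m h1 h2
      apply Quiver.Hom.unop_inj
      apply push_hom_ext hX
      · exact (congrArg Quiver.Hom.unop h1).trans
          (pushInl_desc hX s.fst.unop s.snd.unop (congrArg Quiver.Hom.unop s.condition)).symm
      · exact (congrArg Quiver.Hom.unop h2).trans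
          (pushInr_desc hX s.fst.unop s.snd.unop (congrArg Quiver.Hom.unop s.condition)).symm
  refine preservesLimit_of_preserves_limit_cone hlim
    ((isLimitMapConePullbackConeEquiv ξ.fibFunctor hcomm).symm ?_)
  have hex : ∀ (s : PullbackCone (ξ.fibFunctor.map f) (ξ.fibFunctor.map g)) (y : s.pt),
      ∃ 𝔭 : ξ.Fib (pushObj hX f.unop g.unop).obj,
        ξ.fibMap (pushInl hX f.unop g.unop).hom 𝔭 = s.fst y ∧
        ξ.fibMap (pushInr hX f.unop g.unop).hom 𝔭 = s.snd y := fun s y =>
    fib_push_surj hX ξ f.unop g.unop (s.fst y) (s.snd y)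
      (ConcreteCategory.congr_hom s.condition y)
  refine PullbackCone.IsLimit.mk _
    (fun s => FintypeCat.homMk (fun y => Classical.choose (hex s y))) ?_ ?_ ?_
  · intro s
    apply FintypeCat.hom_ext
    intro y
    exact (Classical.choose_spec (hex s y)).1
  · intro s
    apply FintypeCat.hom_ext
    intro y
    exact (Classical.choose_spec (hex s y)).2
  · intro s m h1 h2
    apply FintypeCat.hom_ext
    intro y
    apply fib_push_inj hX ξ f.unop g.unop
    · exact (ConcreteCategory.congr_hom h1 y).trans (Classical.choose_spec (hex s y)).1.symm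
    · exact (ConcreteCategory.congr_hom h2 y).trans (Classical.choose_spec (hex s y)).2.symm

theorem pres_pullbacks (hX : X.IsFinSp) (ξ : GeomPt X Ω) :
    PreservesLimitsOfShape WalkingCospan ξ.fibFunctor := by
  constructor
  intro K
  haveI := pres_cospan hX ξ (K.map WalkingCospan.Hom.inl) (K.map WalkingCospan.Hom.inr)
  exact preservesLimit_of_iso_diagram ξ.fibFunctor (diagramIsoCospan K).symm

theorem pres_pair (ξ : GeomPt X Ω) (A B : (FEt X)ᵒᵖ) :
    PreservesColimit (pair A B) ξ.fibFunctor := by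
  let P : FEt X := ⟨prodAlg A.unop.obj B.unop.obj,
    prodAlg_isEtCover _ _ A.unop.property B.unop.property⟩
  let fstH : P ⟶ A.unop := ObjectProperty.homMk (prodFst A.unop.obj B.unop.obj)
  let sndH : P ⟶ B.unop := ObjectProperty.homMk (prodSnd A.unop.obj B.unop.obj)
  let inl : A ⟶ Opposite.op P := fstH.op
  let inr : B ⟶ Opposite.op P := sndH.op
  have hcolim : IsColimit (BinaryCofan.mk inl inr) := by
    refine BinaryCofan.IsColimit.mk _
      (fun {T} f g => (ObjectProperty.homMk (prodLift f.unop.hom g.unop.hom) : T.unop ⟶ P).op)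
      ?_ ?_ ?_
    · intro T f g
      apply Quiver.Hom.unop_inj
      apply ObjectProperty.hom_ext
      apply Alg.hom_ext
      intro p
      apply AlgHom.ext
      intro x
      rfl
    · intro T f g
      apply Quiver.Hom.unop_inj
      apply ObjectProperty.hom_ext
      apply Alg.hom_ext
      intro p
      apply AlgHom.ext
      intro x
      rfl
    · intro T f g m h1 h2
      apply Quiver.Hom.unop_inj
      apply ObjectProperty.hom_ext
      apply Alg.hom_ext
      intro p
      apply AlgHom.ext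
      intro x
      have e1 := congrArg (fun k => k.unop.hom.app p x) h1
      have e2 := congrArg (fun k => k.unop.hom.app p x) h2
      exact Prod.ext e1 e2
  refine preservesColimit_of_preserves_colimit_cocone hcolim
    ((isColimitMapCoconeBinaryCofanEquiv ξ.fibFunctor inl inr).symm ?_)
  refine BinaryCofan.IsColimit.mk _
    (fun {T} h k => FintypeCat.homMk
      (coprodDesc ξ A.unop B.unop (fun a => h a) (fun b => k b))) ?_ ?_ ?_
  · intro T h k
    apply FintypeCat.hom_ext
    intro a
    exact coprodDesc_fst ξ A.unop B.unop (fun a => h a) (fun b => k b) a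
  · intro T h k
    apply FintypeCat.hom_ext
    intro b
    exact coprodDesc_snd ξ A.unop B.unop (fun a => h a) (fun b => k b) b
  · intro T h k m h1 h2
    apply FintypeCat.hom_ext
    intro z
    rcases fib_prod_cases ξ A.unop B.unop z with ⟨a, rfl⟩ | ⟨b, rfl⟩
    · exact (ConcreteCategory.congr_hom h1 a).trans
        (coprodDesc_fst ξ A.unop B.unop (fun a => h a) (fun b => k b) a).symm
    · exact (ConcreteCategory.congr_hom h2 b).trans
        (coprodDesc_snd ξ A.unop B.unop (fun a => h a) (fun b => k b) b).symm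

theorem pres_binCoprod (ξ : GeomPt X Ω) :
    PreservesColimitsOfShape (Discrete WalkingPair) ξ.fibFunctor := by
  constructor
  intro K
  haveI := pres_pair ξ (K.obj ⟨WalkingPair.left⟩) (K.obj ⟨WalkingPair.right⟩)
  exact preservesColimit_of_iso_diagram ξ.fibFunctor (diagramIsoPair K).symm

theorem pres_finCoprod (hX : X.IsSchematic) (ξ : GeomPt X Ω) :
    PreservesFiniteCoproducts ξ.fibFunctor := by
  haveI : HasTerminal (FEt X) := (Groth.Agent.S15622.result X hX).1
  haveI : HasBinaryProducts (FEt X) := (Groth.Agent.S15622.result X hX).2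
  haveI : HasFiniteProducts (FEt X) := hasFiniteProducts_of_has_binary_and_terminal
  haveI : HasFiniteCoproducts (FEt X)ᵒᵖ := inferInstance
  haveI : PreservesColimitsOfShape (Discrete WalkingPair) ξ.fibFunctor := pres_binCoprod ξ
  haveI : PreservesColimitsOfShape (Discrete.{0} PEmpty) ξ.fibFunctor := pres_initial ξ
  exact ⟨fun n => PreservesFiniteCoproducts.of_preserves_binary_and_initial ξ.fibFunctor (Fin n)⟩

end Groth.Agent.H78.SF
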