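import Groth.Agent.H78.SF13
import Mathlib.RingTheory.Etale.Descent
import Mathlib.LinearAlgebra.TensorProduct.Pi
import Mathlib.RingTheory.Flat.Localization
import Mathlib.RingTheory.Localization.Away.Lemmas
import Mathlib.RingTheory.Support

/-!
# Invariants of finite families of endomorphisms of finite étale algebras (helper78)
-/

set_option autoImplicit false
set_option maxHeartbeats 800000
universe u
open SchFin TensorProduct CategoryTheory

namespace Groth.Agent.H78.SF

section Inv

variable {R A : Type u} [CommRing R] [CommRing A] [Algebra R A] {G : Type*}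

/-- invariants of a family of endomorphisms -/
def invSub (σ : G → (A →ₐ[R] A)) : Subalgebra R A where
  carrier := {a | ∀ g, σ g a = a}
  mul_mem' := fun {a b} ha hb g => by rw [map_mul, ha g, hb g]
  add_mem' := fun {a b} ha hb g => by rw [map_add, ha g, hb g]
  algebraMap_mem' := fun r g => (σ g).commutes r

end Inv

/-- a map of trivial algebras over a ring with only trivial idempotents is induced by a map of the
index sets -/
theorem algHom_pi_eq_comp {B : Type u} [CommRing B] [Nontrivial B]
    (hB : ∀ e : B, IsIdempotentElem e → e = 0 ∨ e = 1) {F E : Type*} [Finite F] [Finite E]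
    (σ : (F → B) →ₐ[B] (E → B)) : ∃ φ : E → F, ∀ (v : F → B) (e : E), σ v e = v (φ e) := by
  classical
  cases nonempty_fintype F
  have hs_idem : ∀ e i, IsIdempotentElem (σ (Pi.single i 1) e) := by
    intro e i
    have h1 : (Pi.single i 1 : F → B) * Pi.single i 1 = Pi.single i 1 := by
      funext j
      by_cases hj : j = i
      · subst hj; simp
      · simp [Pi.single_apply, hj]
    have h2 := congrFun (map_mul σ (Pi.single i 1) (Pi.single i 1)) e
    rw [h1] at h2
    exact h2.symm
  have hs_sum : ∀ e, ∑ i, σ (Pi.single i 1) e = 1 := by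
    intro e
    have h1 : (∑ i, (Pi.single i 1 : F → B)) = 1 :=
      Finset.univ_sum_single (fun _ : F => (1 : B))
    have h2 := congrFun (map_sum σ (fun i => (Pi.single i 1 : F → B)) Finset.univ) e
    rw [h1, map_one, Finset.sum_apply] at h2
    exact h2.symm
  have hex : ∀ e, ∃ i, σ (Pi.single i 1) e = 1 := by
    intro e
    by_contra hne
    push Not at hne
    have h0 : ∀ i, σ (Pi.single i 1) e = 0 :=
      fun i => (hB _ (hs_idem e i)).resolve_right (hne i)
    have := hs_sum e
    rw [Finset.sum_eq_zero (fun i _ => h0 i)] at this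
    exact zero_ne_one this
  choose φ hφ using hex
  refine ⟨φ, fun v e => ?_⟩
  have h2 : v * (Pi.single (φ e) 1 : F → B) = v (φ e) • (Pi.single (φ e) 1 : F → B) := by
    funext j
    by_cases hj : j = φ e
    · rw [hj]; simp
    · simp [Pi.single_apply, hj]
  have h3 := congrFun (map_mul σ v (Pi.single (φ e) 1)) e
  rw [h2, map_smul] at h3
  simp only [Pi.smul_apply, Pi.mul_apply, smul_eq_mul, hφ e, mul_one] at h3
  exact h3.symm

/-- over a ring with only trivial idempotents, the invariants of a family of endomorphisms of a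
trivial algebra form a trivial algebra -/
theorem invSub_pi_isFiniteSplit {B : Type u} [CommRing B] [Nontrivial B]
    (hB : ∀ e : B, IsIdempotentElem e → e = 0 ∨ e = 1) {n : ℕ} {G : Type*}
    (σ : G → ((Fin n → B) →ₐ[B] (Fin n → B))) : Algebra.IsFiniteSplit B (invSub σ) := by
  choose f hf using fun g => algHom_pi_eq_comp hB (σ g)
  let r : Fin n → Fin n → Prop := fun i j => ∃ g, f g i = j
  haveI : Finite (Quot r) := Finite.of_surjective (Quot.mk r) (fun q => Quot.exists_rep q)
  let Φ : (Quot r → B) ≃ₐ[B] invSub σ :=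
    { toFun := fun w => ⟨fun i => w (Quot.mk r i), fun g => by
        funext i
        rw [hf g]
        exact congrArg w (Quot.sound ⟨g, rfl⟩).symm⟩
      invFun := fun v => Quot.lift v.1 (fun i j hij => by
        obtain ⟨g, hg⟩ := hij
        have h1 := congrFun (v.2 g) i
        rw [hf g, hg] at h1
        exact h1.symm)
      left_inv := fun w => by
        funext q
        induction q using Quot.ind
        rfl
      right_inv := fun v => Subtype.ext (funext fun i => rfl)
      map_mul' := fun w w' => Subtype.ext (funext fun i => rfl)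
      map_add' := fun w w' => Subtype.ext (funext fun i => rfl)
      commutes' := fun b => Subtype.ext (funext fun i => rfl) }
  exact Algebra.IsFiniteSplit.of_algEquiv Φ

/-- invariants commute with flat base change -/
theorem isBaseChange_invariants {R S : Type u} [CommRing R] [CommRing S] [Algebra R S]
    [Module.Flat R S] {G : Type*} [Finite G]
    {M M' I I' : Type u} [AddCommGroup M] [AddCommGroup M'] [AddCommGroup I] [AddCommGroup I']
    [Module R M] [Module R M'] [Module S M'] [IsScalarTower R S M']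
    [Module R I] [Module R I'] [Module S I'] [IsScalarTower R S I']
    (iM : M →ₗ[R] M') (hM : IsBaseChange S iM)
    (τ : G → M →ₗ[R] M) (τ' : G → M' →ₗ[S] M') (hτ : ∀ g m, τ' g (iM m) = iM (τ g m))
    (incl : I →ₗ[R] M) (hincl : Function.Injective incl)
    (hrange : ∀ m, (∀ g, τ g m = m) → ∃ k, incl k = m) (hinv : ∀ k g, τ g (incl k) = incl k)
    (incl' : I' →ₗ[S] M') (hincl' : Function.Injective incl')
    (hinv' : ∀ k g, τ' g (incl' k) = incl' k)
    (j : I →ₗ[R] I') (hj : ∀ k, incl' (j k) = iM (incl k)) : IsBaseChange S j := by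
  classical
  cases nonempty_fintype G
  have hΨ : ∀ t : S ⊗[R] I, incl' (j.liftBaseChange S t) = hM.equiv (incl.lTensor S t) := by
    intro t
    induction t using TensorProduct.induction_on with
    | zero => simp
    | tmul s k =>
      rw [LinearMap.liftBaseChange_tmul, map_smul, hj, LinearMap.lTensor_tmul,
        IsBaseChange.equiv_tmul]
    | add t t' ht ht' => rw [map_add, map_add, map_add, map_add, ht, ht']
  have hΨinj : Function.Injective (j.liftBaseChange S) := by
    intro t t' htt
    have h1 : hM.equiv (incl.lTensor S t) = hM.equiv (incl.lTensor S t') := by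
      rw [← hΨ, ← hΨ, htt]
    exact Module.Flat.lTensor_preserves_injective_linearMap incl hincl (hM.equiv.injective h1)
  let φ : M →ₗ[R] (G → M) := LinearMap.pi (fun g => τ g - LinearMap.id)
  have hex : Function.Exact incl φ := by
    intro m
    constructor
    · intro hm
      obtain ⟨k, hk⟩ := hrange m (fun g => by
        have h1 : τ g m - m = 0 := congrFun hm g
        exact sub_eq_zero.mp h1)
      exact ⟨k, hk⟩
    · rintro ⟨k, rfl⟩
      funext g
      show τ g (incl k) - incl k = 0
      rw [hinv, sub_self]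
  have hex' := Module.Flat.lTensor_exact S hex
  have hφ : ∀ (u : S ⊗[R] M) (g : G),
      hM.equiv ((τ g - LinearMap.id).lTensor S u) = τ' g (hM.equiv u) - hM.equiv u := by
    intro u g
    induction u using TensorProduct.induction_on with
    | zero => simp
    | tmul s m =>
      rw [LinearMap.lTensor_tmul, IsBaseChange.equiv_tmul, IsBaseChange.equiv_tmul, map_smul, hτ]
      show s • iM (τ g m - m) = _
      rw [map_sub, smul_sub]
    | add u u' hu hu' =>
      rw [map_add, map_add, map_add, map_add, hu, hu']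
      abel
  have hpi : ∀ (u : S ⊗[R] M) (g : G),
      TensorProduct.piRight R S S (fun _ : G => M) (φ.lTensor S u) g =
        (τ g - LinearMap.id).lTensor S u := by
    intro u g
    induction u using TensorProduct.induction_on with
    | zero => simp
    | tmul s m => rfl
    | add u u' hu hu' => rw [map_add, map_add, Pi.add_apply, hu, hu', map_add]
  refine IsBaseChange.of_equiv (LinearEquiv.ofBijective (j.liftBaseChange S) ⟨hΨinj, ?_⟩)
    (fun k => ?_)
  · intro k'
    have h0 : φ.lTensor S (hM.equiv.symm (incl' k')) = 0 := by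
      apply (TensorProduct.piRight R S S (fun _ : G => M)).injective
      rw [map_zero]
      funext g
      rw [hpi, Pi.zero_apply]
      apply hM.equiv.injective
      rw [hφ, map_zero, LinearEquiv.apply_symm_apply, hinv', sub_self]
    obtain ⟨t, ht⟩ := (hex' (hM.equiv.symm (incl' k'))).mp h0
    refine ⟨t, hincl' ?_⟩
    rw [hΨ, ht, LinearEquiv.apply_symm_apply]
  · show j.liftBaseChange S (1 ⊗ₜ k) = j k
    rw [LinearMap.liftBaseChange_tmul, one_smul]

/-- semilinear form of `isBaseChange_invariants` -/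
theorem isBCAlong_invariants {R S : Type u} [CommRing R] [CommRing S] (g : R →+* S) (hg : g.Flat)
    {G : Type*} [Finite G] {M M' I I' : Type u} [AddCommGroup M] [AddCommGroup M']
    [AddCommGroup I] [AddCommGroup I'] [Module R M] [Module S M'] [Module R I] [Module S I']
    (iM : M →ₛₗ[g] M') (hM : IsBCAlong g iM)
    (τ : G → M →ₗ[R] M) (τ' : G → M' →ₗ[S] M') (hτ : ∀ x m, τ' x (iM m) = iM (τ x m))
    (incl : I →ₗ[R] M) (hincl : Function.Injective incl)
    (hrange : ∀ m, (∀ x, τ x m = m) → ∃ k, incl k = m) (hinv : ∀ k x, τ x (incl k) = incl k)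
    (incl' : I' →ₗ[S] M') (hincl' : Function.Injective incl')
    (hinv' : ∀ k x, τ' x (incl' k) = incl' k)
    (j : I →ₛₗ[g] I') (hj : ∀ k, incl' (j k) = iM (incl k)) : IsBCAlong g j := by
  unfold IsBCAlong at hM ⊢
  letI : Algebra R S := g.toAlgebra
  letI : Module R M' := Module.compHom M' g
  letI : Module R I' := Module.compHom I' g
  haveI : IsScalarTower R S M' := IsScalarTower.of_algebraMap_smul fun _ _ => rfl
  haveI : IsScalarTower R S I' := IsScalarTower.of_algebraMap_smul fun _ _ => rfl
  haveI : Module.Flat R S := hg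
  exact isBaseChange_invariants _ hM τ τ' hτ incl hincl hrange hinv incl' hincl' hinv' _ hj

/-- a nonzero idempotent cutting out a piece with only trivial idempotents -/
theorem exists_connected_idem (B : Type u) [CommRing B] [IsNoetherianRing B] [Nontrivial B] :
    ∃ ε : B, IsIdempotentElem ε ∧ ε ≠ 0 ∧
      ∀ e : B, IsIdempotentElem e → e * ε = 0 ∨ e * ε = ε := by
  let S : Set (Ideal B) := {I | ∃ ε : B, IsIdempotentElem ε ∧ ε ≠ 0 ∧ I = Ideal.span {1 - ε}}
  have hne : S.Nonempty := ⟨Ideal.span {1 - 1}, 1, IsIdempotentElem.one, one_ne_zero, rfl⟩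
  obtain ⟨I₀, ⟨ε, hε, hε0, rfl⟩, hmax⟩ :=
    set_has_maximal_iff_noetherian.mpr (inferInstance : IsNoetherian B B) S hne
  refine ⟨ε, hε, hε0, fun e he => ?_⟩
  have h1 : ε * ε = ε := hε
  have h2 : e * e = e := he
  by_cases h0 : e * ε = 0
  · left; exact h0
  · right
    have hidem : IsIdempotentElem (e * ε) := by
      show e * ε * (e * ε) = e * ε
      linear_combination (ε * ε) * h2 + e * h1
    have hle : Ideal.span {1 - ε} ≤ Ideal.span {1 - e * ε} := by
      rw [Ideal.span_singleton_le_span_singleton]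
      refine ⟨1 - ε, ?_⟩
      linear_combination (-e) * h1
    have heq : Ideal.span {1 - ε} = Ideal.span {1 - e * ε} :=
      eq_of_le_of_not_lt hle (hmax _ ⟨e * ε, hidem, h0, rfl⟩)
    have hmem : 1 - e * ε ∈ Ideal.span {1 - ε} := by
      rw [heq]; exact Ideal.mem_span_singleton_self _
    obtain ⟨c, hc⟩ := Ideal.mem_span_singleton'.mp hmem
    linear_combination ε * hc + (c - e) * h1

theorem quot_idem_trivial {B : Type u} [CommRing B] (ε : B) (hε : IsIdempotentElem ε)
    (h : ∀ e : B, IsIdempotentElem e → e * ε = 0 ∨ e * ε = ε) :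
    ∀ x : B ⧸ Ideal.span {1 - ε}, IsIdempotentElem x → x = 0 ∨ x = 1 := by
  intro x hx
  obtain ⟨b, rfl⟩ := Ideal.Quotient.mk_surjective x
  have h1 : ε * ε = ε := hε
  have hmkε : Ideal.Quotient.mk (Ideal.span {1 - ε}) ε = 1 := by
    rw [← map_one (Ideal.Quotient.mk (Ideal.span {1 - ε})), Ideal.Quotient.eq]
    exact Ideal.mem_span_singleton'.mpr ⟨-1, by ring⟩
  have hbb : b * b - b ∈ Ideal.span {1 - ε} := by
    rw [← Ideal.Quotient.eq, map_mul]
    exact hx
  obtain ⟨c, hc⟩ := Ideal.mem_span_singleton'.mp hbb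
  have hidem : IsIdempotentElem (b * ε) := by
    show b * ε * (b * ε) = b * ε
    linear_combination (-(ε * ε)) * hc + (b - c * ε) * h1
  have hmk : Ideal.Quotient.mk (Ideal.span {1 - ε}) b =
      Ideal.Quotient.mk (Ideal.span {1 - ε}) (b * ε * ε) := by
    rw [map_mul, map_mul, hmkε, mul_one, mul_one]
  rcases h (b * ε) hidem with h0 | h0
  · left
    rw [hmk, h0, map_zero]
  · right
    rw [hmk, h0, hmkε]

theorem quot_idem_nontrivial {B : Type u} [CommRing B] (ε : B) (hε : IsIdempotentElem ε)
    (hε0 : ε ≠ 0) : Nontrivial (B ⧸ Ideal.span {1 - ε}) := by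
  apply Ideal.Quotient.nontrivial_iff.mpr
  intro htop
  have h1 : ε * ε = ε := hε
  have hmem : (1 : B) ∈ Ideal.span {1 - ε} := by rw [htop]; trivial
  obtain ⟨c, hc⟩ := Ideal.mem_span_singleton'.mp hmem
  apply hε0
  linear_combination (-ε) * hc - c * h1

/-- a nonzero finite flat algebra over a Noetherian ring with only trivial idempotents is
faithfully flat -/
theorem faithfullyFlat_of_connected {R B₁ : Type u} [CommRing R] [CommRing B₁] [Algebra R B₁]
    [IsNoetherianRing R] [Nontrivial R] (hR : ∀ e : R, IsIdempotentElem e → e = 0 ∨ e = 1)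
    [Module.Finite R B₁] [Module.Flat R B₁] [Nontrivial B₁] : Module.FaithfullyFlat R B₁ := by
  haveI : ConnectedSpace (PrimeSpectrum R) :=
    (Groth.Agent.H78.connectedSpace_primeSpectrum_iff R).mpr ⟨inferInstance, hR⟩
  haveI : Module.FinitePresentation R B₁ := Module.finitePresentation_of_finite R B₁
  have hconst : ∀ P Q : PrimeSpectrum R, Module.rankAtStalk B₁ P = Module.rankAtStalk B₁ Q :=
    fun P Q => (Module.isLocallyConstant_rankAtStalk (R := R)
      (M := B₁)).apply_eq_of_preconnectedSpace P Q
  have hne : Module.rankAtStalk (R := R) B₁ ≠ 0 := by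
    intro h0
    rw [Module.rankAtStalk_eq_zero_iff_subsingleton] at h0
    exact not_subsingleton B₁ h0
  obtain ⟨P0, hP0⟩ : ∃ P, Module.rankAtStalk B₁ P ≠ 0 := by
    by_contra hall
    push Not at hall
    exact hne (funext hall)
  haveI : Algebra.IsIntegral R B₁ := Algebra.IsIntegral.of_finite R B₁
  refine Module.FaithfullyFlat.of_comap_surjective fun P => ?_
  have hP : P ∈ Module.support R B₁ := by
    rw [← Module.rankAtStalk_pos_iff_mem_support, hconst P P0]
    exact Nat.pos_of_ne_zero hP0
  rw [Module.mem_support_iff_of_finite] at hP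
  obtain ⟨Q, _, hQ, hQP⟩ := Ideal.exists_ideal_over_prime_of_isIntegral P.asIdeal
    (⊥ : Ideal B₁) (by
      intro r hr
      apply hP
      rw [Module.mem_annihilator]
      intro b
      have hr0 : algebraMap R B₁ r = 0 := Ideal.mem_bot.mp (Ideal.mem_comap.mp hr)
      rw [Algebra.smul_def, hr0, zero_mul])
  exact ⟨⟨Q, hQ⟩, PrimeSpectrum.ext hQP⟩

/-- a finite faithfully flat splitting algebra can be replaced by one with only trivial
idempotents -/
theorem exists_connected_split {R A : Type u} [CommRing R] [CommRing A] [Algebra R A]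
    [IsNoetherianRing R] [Nontrivial R] (hR : ∀ e : R, IsIdempotentElem e → e = 0 ∨ e = 1)
    (B : Type u) [CommRing B] [Algebra R B] [Module.Finite R B] [Module.FaithfullyFlat R B]
    [Algebra.IsFiniteSplit B (B ⊗[R] A)] :
    ∃ (B₁ : Type u) (_ : CommRing B₁) (_ : Algebra R B₁) (_ : Module.Finite R B₁)
      (_ : Module.FaithfullyFlat R B₁) (_ : Nontrivial B₁),
      (∀ e : B₁, IsIdempotentElem e → e = 0 ∨ e = 1) ∧
        Algebra.IsFiniteSplit B₁ (B₁ ⊗[R] A) := by
  haveI : IsNoetherianRing B := IsNoetherianRing.of_finite R B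
  haveI : Nontrivial B := (FaithfulSMul.algebraMap_injective R B).nontrivial
  obtain ⟨ε, hε, hε0, hconn⟩ := exists_connected_idem B
  have hB₁ := quot_idem_trivial ε hε hconn
  haveI : Nontrivial (B ⧸ Ideal.span {1 - ε}) := quot_idem_nontrivial ε hε hε0
  haveI : Module.Finite R (B ⧸ Ideal.span {1 - ε}) :=
    Module.Finite.of_surjective (Ideal.Quotient.mkₐ R (Ideal.span {1 - ε})).toLinearMap
      Ideal.Quotient.mk_surjective
  haveI : IsLocalization.Away ε (B ⧸ Ideal.span {1 - ε}) :=
    IsLocalization.Away.quotient_of_isIdempotentElem hε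
  haveI : Module.Flat B (B ⧸ Ideal.span {1 - ε}) :=
    IsLocalization.flat (B ⧸ Ideal.span {1 - ε}) (Submonoid.powers ε)
  haveI : Module.Flat R B := inferInstance
  haveI : Module.Flat R (B ⧸ Ideal.span {1 - ε}) := Module.Flat.trans R B _
  haveI : Module.FaithfullyFlat R (B ⧸ Ideal.span {1 - ε}) := faithfullyFlat_of_connected hR
  haveI : Algebra.IsFiniteSplit (B ⧸ Ideal.span {1 - ε}) ((B ⧸ Ideal.span {1 - ε}) ⊗[R] A) :=
    Algebra.IsFiniteSplit.of_algEquiv
      (Algebra.TensorProduct.cancelBaseChange R B (B ⧸ Ideal.span {1 - ε})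
        (B ⧸ Ideal.span {1 - ε}) A)
  exact ⟨B ⧸ Ideal.span {1 - ε}, inferInstance, inferInstance, inferInstance, inferInstance,
    inferInstance, hB₁, inferInstance⟩

/-- the base change of the invariants along a splitting algebra -/
theorem exists_invariants_baseChange {R A : Type u} [CommRing R] [CommRing A] [Algebra R A]
    {G : Type*} [Finite G] (σ : G → (A →ₐ[R] A))
    (B : Type u) [CommRing B] [Algebra R B] [Module.Flat R B] {n : ℕ}
    (e : B ⊗[R] A ≃ₐ[B] (Fin n → B)) :
    ∃ (j : invSub σ →ₗ[R] invSub (fun g => ((e : B ⊗[R] A →ₐ[B] (Fin n → B)).comp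
        (Algebra.TensorProduct.map (AlgHom.id B B) (σ g))).comp
          (e.symm : (Fin n → B) →ₐ[B] B ⊗[R] A))),
      IsBaseChange B j ∧ ∀ k, (j k).1 = e ((1 : B) ⊗ₜ[R] k.1) := by
  set σ' : G → ((Fin n → B) →ₐ[B] (Fin n → B)) := fun g =>
    ((e : B ⊗[R] A →ₐ[B] (Fin n → B)).comp
      (Algebra.TensorProduct.map (AlgHom.id B B) (σ g))).comp
        (e.symm : (Fin n → B) →ₐ[B] B ⊗[R] A) with hσ'
  let iM : A →ₗ[R] (Fin n → B) :=
    (e.toLinearEquiv.toLinearMap.restrictScalars R).comp (TensorProduct.mk R B A 1)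
  have hM : IsBaseChange B iM := IsBaseChange.of_equiv e.toLinearEquiv (fun a => rfl)
  have hσ'iM : ∀ g a, σ' g (iM a) = iM (σ g a) := by
    intro g a
    show e (Algebra.TensorProduct.map (AlgHom.id B B) (σ g) (e.symm (e ((1 : B) ⊗ₜ[R] a)))) =
      e ((1 : B) ⊗ₜ[R] σ g a)
    rw [AlgEquiv.symm_apply_apply, Algebra.TensorProduct.map_tmul]
    rfl
  let j : invSub σ →ₗ[R] invSub σ' :=
    { toFun := fun a => ⟨iM a.1, fun g => by rw [hσ'iM, a.2 g]⟩
      map_add' := fun a b => Subtype.ext (map_add iM a.1 b.1)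
      map_smul' := fun r a => Subtype.ext (map_smul iM r a.1) }
  refine ⟨j, ?_, fun k => rfl⟩
  exact isBaseChange_invariants iM hM (fun g => (σ g).toLinearMap) (fun g => (σ' g).toLinearMap)
    hσ'iM (invSub σ).val.toLinearMap Subtype.val_injective (fun m hm => ⟨⟨m, hm⟩, rfl⟩)
    (fun k g => k.2 g) (invSub σ').val.toLinearMap Subtype.val_injective (fun k g => k.2 g)
    j (fun k => rfl)

/-- invariants are étale when the algebra is split by a faithfully flat algebra with only trivial
idempotents -/
theorem etale_invSub_of_split {R A : Type u} [CommRing R] [CommRing A] [Algebra R A]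
    {G : Type*} [Finite G] (σ : G → (A →ₐ[R] A))
    (B : Type u) [CommRing B] [Algebra R B] [Module.FaithfullyFlat R B] [Nontrivial B]
    (hB : ∀ e : B, IsIdempotentElem e → e = 0 ∨ e = 1) [Algebra.IsFiniteSplit B (B ⊗[R] A)] :
    Algebra.Etale R (invSub σ) := by
  obtain ⟨n, ⟨e⟩⟩ := Algebra.IsFiniteSplit.nonempty_algEquiv_fun B (B ⊗[R] A)
  let σ' : G → ((Fin n → B) →ₐ[B] (Fin n → B)) := fun g =>
    ((e : B ⊗[R] A →ₐ[B] (Fin n → B)).comp
      (Algebra.TensorProduct.map (AlgHom.id B B) (σ g))).comp
        (e.symm : (Fin n → B) →ₐ[B] B ⊗[R] A)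
  obtain ⟨j, hj, hjval⟩ : ∃ (j : invSub σ →ₗ[R] invSub σ'),
      IsBaseChange B j ∧ ∀ k, (j k).1 = e ((1 : B) ⊗ₜ[R] k.1) :=
    exists_invariants_baseChange σ B e
  haveI : Algebra.IsFiniteSplit B (invSub σ') := invSub_pi_isFiniteSplit hB σ'
  haveI : Algebra.Etale B (invSub σ') := inferInstance
  have hj1 : j 1 = 1 := Subtype.ext (by
    rw [hjval]
    show e ((1 : B) ⊗ₜ[R] (1 : A)) = 1
    rw [← Algebra.TensorProduct.one_def, map_one])
  have hjmul : ∀ k k', j (k * k') = j k * j k' := fun k k' => Subtype.ext (by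
    show (j (k * k')).1 = (j k).1 * (j k').1
    rw [hjval, hjval, hjval]
    show e ((1 : B) ⊗ₜ[R] (k.1 * k'.1)) = e ((1 : B) ⊗ₜ[R] k.1) * e ((1 : B) ⊗ₜ[R] k'.1)
    rw [← map_mul, Algebra.TensorProduct.tmul_mul_tmul, mul_one])
  let Θ : B ⊗[R] ↥(invSub σ) ≃ₐ[B] ↥(invSub σ') := AlgEquiv.ofLinearEquiv hj.equiv
    (by rw [Algebra.TensorProduct.one_def, IsBaseChange.equiv_tmul, one_smul, hj1])
    (by
      intro x y
      induction x using TensorProduct.induction_on with
      | zero => simp
      | tmul s k =>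
        induction y using TensorProduct.induction_on with
        | zero => simp
        | tmul s' k' =>
          rw [Algebra.TensorProduct.tmul_mul_tmul, IsBaseChange.equiv_tmul,
            IsBaseChange.equiv_tmul, IsBaseChange.equiv_tmul, hjmul, smul_mul_smul_comm]
        | add y y' hy hy' => rw [mul_add, map_add, map_add, hy, hy', mul_add]
      | add x x' hx hx' => rw [add_mul, map_add, map_add, hx, hx', add_mul])
  haveI : Algebra.Etale B (B ⊗[R] ↥(invSub σ)) := Algebra.Etale.of_equiv Θ.symm
  exact Algebra.Etale.of_etale_tensorProduct_of_faithfullyFlat B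

/-- invariants of a finite family of endomorphisms of an algebra which is split by a finite
faithfully flat algebra are étale, over a Noetherian ring with only trivial idempotents -/
theorem etale_invSub {R A : Type u} [CommRing R] [CommRing A] [Algebra R A] [IsNoetherianRing R]
    [Nontrivial R] (hR : ∀ e : R, IsIdempotentElem e → e = 0 ∨ e = 1)
    {G : Type*} [Finite G] (σ : G → (A →ₐ[R] A))
    (B : Type u) [CommRing B] [Algebra R B] [Module.Finite R B] [Module.FaithfullyFlat R B]
    [Algebra.IsFiniteSplit B (B ⊗[R] A)] : Algebra.Etale R (invSub σ) := by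
  obtain ⟨B₁, _, _, _, _, _, hB₁, _⟩ := exists_connected_split (A := A) hR B
  exact etale_invSub_of_split σ B₁ hB₁

end Groth.Agent.H78.SF
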