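import Groth.Agent.H78.SF14
import Mathlib.CategoryTheory.SingleObj

/-!
# The étale cover of invariants of a finite family of endomorphisms of an étale cover (helper78)
-/

set_option autoImplicit false
set_option maxHeartbeats 800000
universe u
open SchFin TensorProduct CategoryTheory CategoryTheory.Limits

namespace Groth.Agent.H78.SF

variable {X : RSpace.{u}}

/-- the algebra of invariants of a family of endomorphisms -/
def invAlg (A : Alg X) {G : Type*} (ρ : G → (A ⟶ A)) : Alg X where
  carrier p := ↥(invSub (fun g => (ρ g).app p))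
  res {p q} h :=
    { toFun := fun a => ⟨A.res h a.1, fun g =>
        ((ρ g).compat h a.1).symm.trans (congrArg (A.res h) (a.2 g))⟩
      map_one' := Subtype.ext (map_one (A.res h))
      map_mul' := fun a b => Subtype.ext (map_mul (A.res h) a.1 b.1)
      map_zero' := Subtype.ext (map_zero (A.res h))
      map_add' := fun a b => Subtype.ext (map_add (A.res h) a.1 b.1) }
  res_algebraMap h a := Subtype.ext (A.res_algebraMap h a)
  res_self p b := Subtype.ext (A.res_self p b.1)
  res_comp h h' b := Subtype.ext (A.res_comp h h' b.1)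

/-- the inclusion of the invariants -/
def invIncl (A : Alg X) {G : Type*} (ρ : G → (A ⟶ A)) : invAlg A ρ ⟶ A :=
  ⟨fun p => (invSub (fun g => (ρ g).app p)).val, fun _ _ => rfl⟩

lemma invIncl_comp (A : Alg X) {G : Type*} (ρ : G → (A ⟶ A)) (g : G) :
    invIncl A ρ ≫ ρ g = invIncl A ρ := by
  apply Alg.hom_ext
  intro p
  apply AlgHom.ext
  intro a
  exact a.2 g

/-- the factorisation of an invariant morphism through the invariants -/
def invLift {A T : Alg X} {G : Type*} (ρ : G → (A ⟶ A)) (m : T ⟶ A) (hm : ∀ g, m ≫ ρ g = m) :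
    T ⟶ invAlg A ρ :=
  ⟨fun p => (m.app p).codRestrict (invSub (fun g => (ρ g).app p))
      (fun t g => congrArg (fun k => k.app p t) (hm g)),
    fun h t => Subtype.ext (m.compat h t)⟩

lemma invLift_incl {A T : Alg X} {G : Type*} (ρ : G → (A ⟶ A)) (m : T ⟶ A)
    (hm : ∀ g, m ≫ ρ g = m) : invLift ρ m hm ≫ invIncl A ρ = m := by
  apply Alg.hom_ext
  intro p
  apply AlgHom.ext
  intro t
  rfl

lemma invIncl_cancel {A T : Alg X} {G : Type*} (ρ : G → (A ⟶ A)) (m₁ m₂ : T ⟶ invAlg A ρ)
    (h : m₁ ≫ invIncl A ρ = m₂ ≫ invIncl A ρ) : m₁ = m₂ := by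
  apply Alg.hom_ext
  intro p
  apply AlgHom.ext
  intro t
  exact Subtype.ext (congrArg (fun k => k.app p t) h)

lemma invIncl_injective (A : Alg X) {G : Type*} (ρ : G → (A ⟶ A)) (p : X.pt) :
    Function.Injective ((invIncl A ρ).app p) := Subtype.val_injective

/-- the invariants of a finite family of endomorphisms of an étale cover form an étale cover, on
a pointwise connected finite space, given local triviality of the cover -/
theorem invAlg_isEtCover (hX : X.IsFinSp) (hpw : X.IsPwConnected) (A : FEt X) {G : Type*}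
    [Finite G] (ρ : G → (A.obj ⟶ A.obj))
    (hlt : ∃ (B : Alg X) (n : ℕ), B.IsCovering ∧ ∀ p : X.pt,
      Nonempty (TensorProduct (X.ring p) (B.carrier p) (A.obj.carrier p) ≃ₐ[B.carrier p]
        (Fin n → B.carrier p))) :
    (invAlg A.obj ρ).IsEtCover := by
  refine ⟨fun p q h => ?_, fun p => ⟨?_, ?_⟩⟩
  · exact isBCAlong_invariants (M := A.obj.carrier p) (M' := A.obj.carrier q)
      (I := ↥(invSub (fun g => (ρ g).app p))) (I' := ↥(invSub (fun g => (ρ g).app q)))
      (X.res h) (hX.2 p q h) (A.obj.toMod.res h) (A.property.1 p q h)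
      (fun g => ((ρ g).app p).toLinearMap) (fun g => ((ρ g).app q).toLinearMap)
      (fun g m => ((ρ g).compat h m).symm)
      (invSub (fun g => (ρ g).app p)).val.toLinearMap Subtype.val_injective
      (fun m hm => ⟨⟨m, hm⟩, rfl⟩) (fun k g => k.2 g)
      (invSub (fun g => (ρ g).app q)).val.toLinearMap Subtype.val_injective
      (fun k g => k.2 g) ((invAlg A.obj ρ).toMod.res h) (fun k => rfl)
  · haveI := hX.1 p
    haveI := (A.property.2 p).1
    haveI : IsNoetherian (X.ring p) (A.obj.carrier p) :=
      isNoetherian_of_isNoetherianRing_of_finite _ _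
    exact Module.Finite.of_injective (invSub (fun g => (ρ g).app p)).val.toLinearMap
      Subtype.val_injective
  · obtain ⟨B, n, hcov, hsplit⟩ := hlt
    haveI := hX.1 p
    obtain ⟨hnt, hR⟩ := (Groth.Agent.H78.connectedSpace_primeSpectrum_iff _).mp (hpw p)
    haveI := hnt
    haveI := (hcov.2 p).1
    haveI := (hcov.2 p).2
    haveI : Algebra.IsFiniteSplit (B.carrier p)
        (TensorProduct (X.ring p) (B.carrier p) (A.obj.carrier p)) := ⟨n, hsplit p⟩
    exact etale_invSub hR (fun g => (ρ g).app p) (B.carrier p)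

end Groth.Agent.H78.SF
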