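import Groth.Agent.H78.SF15
import Groth.Agent.S15628

/-!
# Geometric fibres of invariants: orbits, quotients by finite groups, direct summands (helper78)
-/

set_option autoImplicit false
set_option maxHeartbeats 1600000
universe u
open SchFin TensorProduct CategoryTheory CategoryTheory.Limits

namespace Groth.Agent.H78.SF

/-- a finite faithfully flat algebra has a point with values in any algebraically closed field over
the base -/
theorem exists_algHom_to_algClosed {R B Ω : Type u} [CommRing R] [CommRing B] [Algebra R B]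
    [Field Ω] [IsAlgClosed Ω] [Algebra R Ω] [Module.Finite R B] [Module.FaithfullyFlat R B] :
    Nonempty (B →ₐ[R] Ω) := by
  haveI : Nontrivial (Ω ⊗[R] B) := inferInstance
  obtain ⟨𝔪, h𝔪⟩ := Ideal.exists_maximal (Ω ⊗[R] B)
  haveI := h𝔪
  letI : Field ((Ω ⊗[R] B) ⧸ 𝔪) := Ideal.Quotient.field 𝔪
  haveI : Module.Finite Ω (Ω ⊗[R] B) := inferInstance
  haveI : Module.Finite Ω ((Ω ⊗[R] B) ⧸ 𝔪) :=
    Module.Finite.of_surjective (Ideal.Quotient.mkₐ Ω 𝔪).toLinearMap Ideal.Quotient.mk_surjective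
  haveI : Algebra.IsIntegral Ω ((Ω ⊗[R] B) ⧸ 𝔪) := Algebra.IsIntegral.of_finite Ω _
  have hbij : Function.Bijective (algebraMap Ω ((Ω ⊗[R] B) ⧸ 𝔪)) :=
    IsAlgClosed.algebraMap_bijective_of_isIntegral
  let eK : Ω ≃ₐ[Ω] ((Ω ⊗[R] B) ⧸ 𝔪) := AlgEquiv.ofBijective (Algebra.ofId Ω _) hbij
  let F : Ω ⊗[R] B →ₐ[Ω] Ω := (eK.symm : ((Ω ⊗[R] B) ⧸ 𝔪) →ₐ[Ω] Ω).comp (Ideal.Quotient.mkₐ Ω 𝔪)
  exact ⟨(F.restrictScalars R).comp Algebra.TensorProduct.includeRight⟩

/-- a ring map from a trivial algebra to a field factors through a coordinate -/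
theorem exists_index {B Ω : Type u} [CommRing B] [Field Ω] {n : ℕ} (χ : (Fin n → B) →+* Ω) :
    ∃ i : Fin n, ∀ v : Fin n → B, χ v = χ (algebraMap B (Fin n → B) (v i)) := by
  classical
  have hidem : ∀ k, χ (Pi.single k 1) * χ (Pi.single k 1) = χ (Pi.single k 1) := by
    intro k
    rw [← map_mul]
    congr 1
    funext l
    by_cases h : l = k
    · subst h; simp
    · simp [Pi.single_apply, h]
  have hsum : ∑ k, χ (Pi.single k 1) = 1 := by
    rw [← map_sum, Finset.univ_sum_single (fun _ : Fin n => (1 : B))]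
    exact map_one χ
  have hex : ∃ i, χ (Pi.single i 1) = 1 := by
    by_contra hne
    push Not at hne
    have h0 : ∀ k, χ (Pi.single k 1) = 0 := fun k => by
      have h := hidem k
      have h' : χ (Pi.single k 1) * (χ (Pi.single k 1) - 1) = 0 := by
        rw [mul_sub, h, mul_one, sub_self]
      rcases mul_eq_zero.mp h' with h'' | h''
      · exact h''
      · exact absurd (sub_eq_zero.mp h'') (hne k)
    rw [Finset.sum_eq_zero (fun k _ => h0 k)] at hsum
    exact zero_ne_one hsum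
  obtain ⟨i, hi⟩ := hex
  refine ⟨i, fun v => ?_⟩
  have h1 : v * Pi.single i 1 = algebraMap B (Fin n → B) (v i) * Pi.single i 1 := by
    funext k
    by_cases h : k = i
    · subst h; simp
    · simp [Pi.single_apply, h]
  calc χ v = χ v * χ (Pi.single i 1) := by rw [hi, mul_one]
    _ = χ (v * Pi.single i 1) := (map_mul χ _ _).symm
    _ = χ (algebraMap B (Fin n → B) (v i) * Pi.single i 1) := by rw [h1]
    _ = χ (algebraMap B (Fin n → B) (v i)) := by rw [map_mul, hi, mul_one]

lemma eq_of_forall_apply_eq {B : Type u} [CommRing B] [Nontrivial B] {n : ℕ} (a b : Fin n)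
    (h : ∀ v : Fin n → B, v a = v b) : a = b := by
  classical
  by_contra hab
  have h1 := h (Pi.single a 1)
  rw [Pi.single_eq_same, Pi.single_eq_of_ne (Ne.symm hab)] at h1
  exact one_ne_zero h1

lemma map_id_comp_apply {R A B : Type u} [CommRing R] [CommRing A] [CommRing B] [Algebra R A]
    [Algebra R B] (s s' : A →ₐ[R] A) (t : B ⊗[R] A) :
    Algebra.TensorProduct.map (AlgHom.id B B) (s.comp s') t =
      Algebra.TensorProduct.map (AlgHom.id B B) s
        (Algebra.TensorProduct.map (AlgHom.id B B) s' t) := by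
  induction t using TensorProduct.induction_on with
  | zero => simp
  | tmul b a => simp
  | add x y hx hy => simp only [map_add, hx, hy]

lemma map_id_id_apply {R A B : Type u} [CommRing R] [CommRing A] [CommRing B] [Algebra R A]
    [Algebra R B] (t : B ⊗[R] A) :
    Algebra.TensorProduct.map (AlgHom.id B B) (AlgHom.id R A) t = t := by
  induction t using TensorProduct.induction_on with
  | zero => simp
  | tmul b a => simp
  | add x y hx hy => simp only [map_add, hx, hy]

/-- two points of a split algebra which agree on the invariants of a group of automorphisms are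
conjugate -/
theorem orbit_of_agree {R A Ω : Type u} [CommRing R] [CommRing A] [Algebra R A] [Field Ω]
    [IsAlgClosed Ω] [Algebra R Ω] {G : Type*} [Finite G] (σ : G → (A →ₐ[R] A))
    (hone : ∃ g, σ g = AlgHom.id R A)
    (hmul : ∀ g h, ∃ k, σ k = (σ g).comp (σ h))
    (hinvs : ∀ g, ∃ k, (σ k).comp (σ g) = AlgHom.id R A ∧ (σ g).comp (σ k) = AlgHom.id R A)
    (B : Type u) [CommRing B] [Algebra R B] [Module.Finite R B] [Module.FaithfullyFlat R B]
    [Nontrivial B] (hB : ∀ e : B, IsIdempotentElem e → e = 0 ∨ e = 1)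
    [Algebra.IsFiniteSplit B (B ⊗[R] A)]
    (φ φ' : A →ₐ[R] Ω) (hag : ∀ a ∈ invSub σ, φ a = φ' a) : ∃ g, φ' = φ.comp (σ g) := by
  classical
  obtain ⟨n, ⟨e⟩⟩ := Algebra.IsFiniteSplit.nonempty_algEquiv_fun B (B ⊗[R] A)
  let σ' : G → ((Fin n → B) →ₐ[B] (Fin n → B)) := fun g =>
    ((e : B ⊗[R] A →ₐ[B] (Fin n → B)).comp
      (Algebra.TensorProduct.map (AlgHom.id B B) (σ g))).comp
        (e.symm : (Fin n → B) →ₐ[B] B ⊗[R] A)
  obtain ⟨j, hj, hjval⟩ : ∃ (j : invSub σ →ₗ[R] invSub σ'),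
      IsBaseChange B j ∧ ∀ k, (j k).1 = e ((1 : B) ⊗ₜ[R] k.1) :=
    exists_invariants_baseChange σ B e
  choose f hf using fun g => algHom_pi_eq_comp hB (σ' g)
  obtain ⟨β⟩ := exists_algHom_to_algClosed (R := R) (B := B) (Ω := Ω)
  have hσ'e : ∀ g (t : B ⊗[R] A),
      σ' g (e t) = e (Algebra.TensorProduct.map (AlgHom.id B B) (σ g) t) := by
    intro g t
    show e (Algebra.TensorProduct.map (AlgHom.id B B) (σ g) (e.symm (e t))) = _
    rw [AlgEquiv.symm_apply_apply]
  -- the structure of the maps of index sets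
  have hcompf : ∀ a b c, σ c = (σ a).comp (σ b) → ∀ i, f c i = f b (f a i) := by
    intro a b c habc i
    apply eq_of_forall_apply_eq (B := B)
    intro v
    obtain ⟨t, rfl⟩ := e.surjective v
    have h1 : σ' c (e t) = σ' a (σ' b (e t)) := by
      rw [hσ'e, hσ'e, hσ'e, habc, map_id_comp_apply]
    calc (e t) (f c i) = σ' c (e t) i := (hf c (e t) i).symm
      _ = σ' a (σ' b (e t)) i := by rw [h1]
      _ = (σ' b (e t)) (f a i) := hf a _ i
      _ = (e t) (f b (f a i)) := hf b _ _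
  have hidf : ∀ a, σ a = AlgHom.id R A → ∀ i, f a i = i := by
    intro a ha i
    apply eq_of_forall_apply_eq (B := B)
    intro v
    obtain ⟨t, rfl⟩ := e.surjective v
    have h1 : σ' a (e t) = e t := by rw [hσ'e, ha, map_id_id_apply]
    calc (e t) (f a i) = σ' a (e t) i := (hf a (e t) i).symm
      _ = (e t) i := by rw [h1]
  have hcompid : ∀ a b, (σ a).comp (σ b) = AlgHom.id R A → ∀ i, f b (f a i) = i := by
    intro a b hab i
    apply eq_of_forall_apply_eq (B := B)
    intro v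
    obtain ⟨t, rfl⟩ := e.surjective v
    have h1 : σ' a (σ' b (e t)) = e t := by
      rw [hσ'e, hσ'e, ← map_id_comp_apply, hab, map_id_id_apply]
    calc (e t) (f b (f a i)) = (σ' b (e t)) (f a i) := (hf b _ _).symm
      _ = σ' a (σ' b (e t)) i := (hf a _ i).symm
      _ = (e t) i := by rw [h1]
  -- the two points as coordinates
  let ψ : (A →ₐ[R] Ω) → (B ⊗[R] A →ₐ[R] Ω) := fun θ => Algebra.TensorProduct.productMap β θ
  have hψ : ∀ (θ : A →ₐ[R] Ω) (b : B) (a : A), ψ θ (b ⊗ₜ[R] a) = β b * θ a := fun θ b a =>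
    Algebra.TensorProduct.productMap_apply_tmul β θ b a
  have hcoord : ∀ θ : A →ₐ[R] Ω, ∃ i : Fin n, ∀ t : B ⊗[R] A, ψ θ t = β ((e t) i) := by
    intro θ
    let χ : (Fin n → B) →+* Ω :=
      (ψ θ).toRingHom.comp (e.symm : (Fin n → B) →ₐ[B] B ⊗[R] A).toRingHom
    obtain ⟨i, hi⟩ := exists_index χ
    refine ⟨i, fun t => ?_⟩
    have h1 : ψ θ t = χ (e t) := by
      show ψ θ t = ψ θ (e.symm (e t))
      rw [AlgEquiv.symm_apply_apply]
    have h2 : ∀ b : B, χ (algebraMap B (Fin n → B) b) = β b := by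
      intro b
      show ψ θ (e.symm (algebraMap B (Fin n → B) b)) = β b
      rw [AlgEquiv.commutes, Algebra.TensorProduct.algebraMap_apply, hψ, map_one, mul_one]
      rfl
    rw [h1, hi, h2]
  obtain ⟨i, hi⟩ := hcoord φ
  obtain ⟨i', hi'⟩ := hcoord φ'
  -- agreement on the invariants
  have hagree : ∀ t : B ⊗[R] ↥(invSub σ),
      β ((hj.equiv t).1 i) = β ((hj.equiv t).1 i') := by
    intro t
    induction t using TensorProduct.induction_on with
    | zero => simp
    | tmul b k =>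
      have h1 : (hj.equiv (b ⊗ₜ[R] k)).1 = e (b ⊗ₜ[R] k.1) := by
        rw [IsBaseChange.equiv_tmul]
        show b • (j k).1 = e (b ⊗ₜ[R] k.1)
        rw [hjval]
        have h2 : b ⊗ₜ[R] k.1 = b • ((1 : B) ⊗ₜ[R] k.1) := by
          rw [TensorProduct.smul_tmul', smul_eq_mul, mul_one]
        rw [h2, map_smul]
      rw [h1, ← hi, ← hi', hψ, hψ, hag k.1 k.2]
    | add t t' ht ht' =>
      rw [map_add]
      show β ((hj.equiv t).1 i + (hj.equiv t').1 i) = β ((hj.equiv t).1 i' + (hj.equiv t').1 i')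
      rw [map_add, map_add, ht, ht']
  -- the orbit of `i`
  let v : Fin n → B := fun k => if ∃ g, f g i = k then 1 else 0
  have hv : v ∈ invSub σ' := by
    intro h
    funext k
    rw [hf h]
    show (if ∃ g, f g i = f h k then (1 : B) else 0) = if ∃ g, f g i = k then 1 else 0
    have hiff : (∃ g, f g i = f h k) ↔ ∃ g, f g i = k := by
      constructor
      · rintro ⟨g, hg⟩
        obtain ⟨h', _, hh'2⟩ := hinvs h
        obtain ⟨c, hc⟩ := hmul g h'
        refine ⟨c, ?_⟩
        rw [hcompf g h' c hc i, hg]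
        exact hcompid h h' hh'2 k
      · rintro ⟨g, hg⟩
        obtain ⟨c, hc⟩ := hmul g h
        exact ⟨c, by rw [hcompf g h c hc i, hg]⟩
    exact if_congr hiff rfl rfl
  have hex : ∃ g, f g i = i' := by
    by_contra hne
    have h1 := hagree (hj.equiv.symm ⟨v, hv⟩)
    rw [LinearEquiv.apply_symm_apply] at h1
    have hvi : v i = 1 := by
      obtain ⟨g₁, hg₁⟩ := hone
      exact if_pos ⟨g₁, hidf g₁ hg₁ i⟩
    have hvi' : v i' = 0 := if_neg hne
    change β (v i) = β (v i') at h1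
    rw [hvi, hvi', map_one, map_zero] at h1
    exact one_ne_zero h1
  obtain ⟨g, hg⟩ := hex
  refine ⟨g, AlgHom.ext fun a => ?_⟩
  have h1 : ∀ (θ : A →ₐ[R] Ω) (a : A), θ a = ψ θ ((1 : B) ⊗ₜ[R] a) := by
    intro θ a
    rw [hψ, map_one, one_mul]
  calc φ' a = ψ φ' ((1 : B) ⊗ₜ[R] a) := h1 φ' a
    _ = β ((e ((1 : B) ⊗ₜ[R] a)) i') := hi' _
    _ = β ((e ((1 : B) ⊗ₜ[R] a)) (f g i)) := by rw [hg]
    _ = β (σ' g (e ((1 : B) ⊗ₜ[R] a)) i) := by rw [hf g]
    _ = β ((e ((1 : B) ⊗ₜ[R] (σ g a))) i) := by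
        rw [hσ'e, Algebra.TensorProduct.map_tmul]; rfl
    _ = ψ φ ((1 : B) ⊗ₜ[R] (σ g a)) := (hi _).symm
    _ = φ (σ g a) := (h1 φ _).symm

section X

variable {X : RSpace.{u}} {Ω : Type u} [Field Ω] [IsAlgClosed Ω]

attribute [local instance] algΩ

/-- two points of the geometric fibre of an étale cover with the same image in the fibre of the
invariants of a finite group of automorphisms are conjugate -/
theorem fib_inv_orbit (hX : X.IsFinSp) (hpw : X.IsPwConnected) (ξ : GeomPt X Ω) (A : FEt X)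
    {G : Type*} [Finite G] (ρ : G → (A.obj ⟶ A.obj))
    (hone : ∃ g, ρ g = 𝟙 A.obj)
    (hmul : ∀ g h, ∃ k, ρ k = ρ h ≫ ρ g)
    (hinvs : ∀ g, ∃ k, ρ g ≫ ρ k = 𝟙 A.obj ∧ ρ k ≫ ρ g = 𝟙 A.obj)
    (hlt : ∃ (B : Alg X) (n : ℕ), B.IsCovering ∧ ∀ p : X.pt,
      Nonempty (TensorProduct (X.ring p) (B.carrier p) (A.obj.carrier p) ≃ₐ[B.carrier p]
        (Fin n → B.carrier p)))
    (y y' : ξ.Fib A.obj)
    (h : ξ.fibMap (invIncl A.obj ρ) y = ξ.fibMap (invIncl A.obj ρ) y') :
    ∃ g, y' = ξ.fibMap (ρ g) y := by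
  have hE := invAlg_isEtCover hX hpw A ρ hlt
  obtain ⟨φ, rfl⟩ := fib_exists_kerPt ξ A.obj A.property y
  obtain ⟨φ', rfl⟩ := fib_exists_kerPt ξ A.obj A.property y'
  rw [fibMap_kerPt, fibMap_kerPt] at h
  have h1 := kerPt_inj ξ (invAlg A.obj ρ) hE _ _ h
  obtain ⟨B, n, hcov, hsplit⟩ := hlt
  haveI := hX.1 ξ.base
  obtain ⟨hnt, hR⟩ := (Groth.Agent.H78.connectedSpace_primeSpectrum_iff _).mp (hpw ξ.base)
  haveI := hnt
  haveI := (hcov.2 ξ.base).1
  haveI := (hcov.2 ξ.base).2
  haveI : Algebra.IsFiniteSplit (B.carrier ξ.base)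
      (TensorProduct (X.ring ξ.base) (B.carrier ξ.base) (A.obj.carrier ξ.base)) :=
    ⟨n, hsplit ξ.base⟩
  obtain ⟨B₁, _, _, _, _, _, hB₁, _⟩ :=
    exists_connected_split (A := A.obj.carrier ξ.base) hR (B.carrier ξ.base)
  have hone' : ∃ g, (ρ g).app ξ.base = AlgHom.id (X.ring ξ.base) (A.obj.carrier ξ.base) := by
    obtain ⟨g, hg⟩ := hone
    exact ⟨g, congrArg (fun m : A.obj ⟶ A.obj => m.app ξ.base) hg⟩
  have hmul' : ∀ g h, ∃ k, (ρ k).app ξ.base = ((ρ g).app ξ.base).comp ((ρ h).app ξ.base) := by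
    intro g h
    obtain ⟨k, hk⟩ := hmul g h
    exact ⟨k, congrArg (fun m : A.obj ⟶ A.obj => m.app ξ.base) hk⟩
  have hinvs' : ∀ g, ∃ k,
      ((ρ k).app ξ.base).comp ((ρ g).app ξ.base) =
        AlgHom.id (X.ring ξ.base) (A.obj.carrier ξ.base) ∧
      ((ρ g).app ξ.base).comp ((ρ k).app ξ.base) =
        AlgHom.id (X.ring ξ.base) (A.obj.carrier ξ.base) := by
    intro g
    obtain ⟨k, hk1, hk2⟩ := hinvs g
    exact ⟨k, congrArg (fun m : A.obj ⟶ A.obj => m.app ξ.base) hk1,
      congrArg (fun m : A.obj ⟶ A.obj => m.app ξ.base) hk2⟩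
  have hag : ∀ a ∈ invSub (fun g => (ρ g).app ξ.base), φ a = φ' a := by
    intro a ha
    exact congrArg (fun F : (invAlg A.obj ρ).carrier ξ.base →ₐ[X.ring ξ.base] Ω => F ⟨a, ha⟩) h1
  obtain ⟨g, hg⟩ := orbit_of_agree (Ω := Ω) (fun g => (ρ g).app ξ.base) hone' hmul' hinvs' B₁ hB₁
    φ φ' hag
  refine ⟨g, ?_⟩
  rw [fibMap_kerPt, hg]

/-- quotients by finite groups in the opposite of the category of étale covers, and their images
under the fibre functor -/
theorem quot_colimit (hX : X.IsFinSp) (hpw : X.IsPwConnected)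
    (hlt : ∀ A : FEt X, ∃ (B : Alg X) (n : ℕ), B.IsCovering ∧ ∀ p : X.pt,
      Nonempty (TensorProduct (X.ring p) (B.carrier p) (A.obj.carrier p) ≃ₐ[B.carrier p]
        (Fin n → B.carrier p)))
    (ξ : GeomPt X Ω) (G : Type u) [Group G] [Finite G] (K : SingleObj G ⥤ (FEt X)ᵒᵖ) :
    ∃ c : Cocone K, Nonempty (IsColimit c) ∧ Nonempty (IsColimit (ξ.fibFunctor.mapCocone c)) := by
  let ρ : G → ((K.obj (SingleObj.star G)).unop.obj ⟶ (K.obj (SingleObj.star G)).unop.obj) :=
    fun g => (K.map (show SingleObj.star G ⟶ SingleObj.star G from g)).unop.hom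
  have hρone : ρ 1 = 𝟙 (K.obj (SingleObj.star G)).unop.obj := by
    have h1 : K.map (show SingleObj.star G ⟶ SingleObj.star G from (1 : G)) =
        𝟙 (K.obj (SingleObj.star G)) := K.map_id (SingleObj.star G)
    exact congrArg (fun m : K.obj (SingleObj.star G) ⟶ K.obj (SingleObj.star G) => m.unop.hom) h1
  have hρmul : ∀ g h : G, ρ (h * g) = ρ h ≫ ρ g := by
    intro g h
    have h1 : K.map (show SingleObj.star G ⟶ SingleObj.star G from (h * g)) =
        K.map (show SingleObj.star G ⟶ SingleObj.star G from g) ≫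
          K.map (show SingleObj.star G ⟶ SingleObj.star G from h) :=
      K.map_comp (show SingleObj.star G ⟶ SingleObj.star G from g)
        (show SingleObj.star G ⟶ SingleObj.star G from h)
    exact congrArg (fun m : K.obj (SingleObj.star G) ⟶ K.obj (SingleObj.star G) => m.unop.hom) h1
  have hone : ∃ g, ρ g = 𝟙 (K.obj (SingleObj.star G)).unop.obj := ⟨1, hρone⟩
  have hmul : ∀ g h, ∃ k, ρ k = ρ h ≫ ρ g := fun g h => ⟨h * g, hρmul g h⟩
  have hinvs : ∀ g, ∃ k, ρ g ≫ ρ k = 𝟙 (K.obj (SingleObj.star G)).unop.obj ∧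
      ρ k ≫ ρ g = 𝟙 (K.obj (SingleObj.star G)).unop.obj := by
    intro g
    refine ⟨g⁻¹, ?_, ?_⟩
    · rw [← hρmul, mul_inv_cancel, hρone]
    · rw [← hρmul, inv_mul_cancel, hρone]
  have hE := invAlg_isEtCover hX hpw (K.obj (SingleObj.star G)).unop ρ
    (hlt (K.obj (SingleObj.star G)).unop)
  let E : FEt X := ⟨invAlg (K.obj (SingleObj.star G)).unop.obj ρ, hE⟩
  let incl : E ⟶ (K.obj (SingleObj.star G)).unop :=
    ObjectProperty.homMk (invIncl (K.obj (SingleObj.star G)).unop.obj ρ)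
  have hinv : ∀ g : G,
      K.map (show SingleObj.star G ⟶ SingleObj.star G from g) ≫ incl.op = incl.op := by
    intro g
    apply Quiver.Hom.unop_inj
    apply ObjectProperty.hom_ext
    exact invIncl_comp (K.obj (SingleObj.star G)).unop.obj ρ g
  have hnat : ∀ (a b : SingleObj G) (g : a ⟶ b),
      K.map g ≫ incl.op =
        incl.op ≫ ((Functor.const (SingleObj G)).obj (Opposite.op E)).map g := by
    intro a b g
    exact (hinv g).trans (Category.comp_id incl.op).symm
  let c : Cocone K :=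
    { pt := Opposite.op E, ι := { app := fun _ => incl.op, naturality := hnat } }
  have hs : ∀ (s : Cocone K) (g : G), (s.ι.app (SingleObj.star G)).unop.hom ≫ ρ g =
      (s.ι.app (SingleObj.star G)).unop.hom := by
    intro s g
    have h1 : K.map (show SingleObj.star G ⟶ SingleObj.star G from g) ≫
        s.ι.app (SingleObj.star G) = s.ι.app (SingleObj.star G) ≫ 𝟙 s.pt :=
      s.ι.naturality (show SingleObj.star G ⟶ SingleObj.star G from g)
    have h2 := h1.trans (Category.comp_id (s.ι.app (SingleObj.star G)))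
    exact congrArg (fun k : K.obj (SingleObj.star G) ⟶ s.pt => k.unop.hom) h2
  have hc : IsColimit c := by
    refine
      { desc := fun s => (ObjectProperty.homMk
          (invLift ρ (s.ι.app (SingleObj.star G)).unop.hom (hs s)) : s.pt.unop ⟶ E).op
        fac := fun s j => ?_
        uniq := fun s m h => ?_ }
    · apply Quiver.Hom.unop_inj
      apply ObjectProperty.hom_ext
      exact invLift_incl ρ (s.ι.app (SingleObj.star G)).unop.hom (hs s)
    · apply Quiver.Hom.unop_inj
      apply ObjectProperty.hom_ext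
      apply invIncl_cancel ρ
      exact (congrArg (fun k : K.obj (SingleObj.star G) ⟶ s.pt => k.unop.hom)
        (h (SingleObj.star G))).trans
          (invLift_incl ρ (s.ι.app (SingleObj.star G)).unop.hom (hs s)).symm
  refine ⟨c, ⟨hc⟩, ⟨?_⟩⟩
  -- the image cocone
  have hsurj : Function.Surjective
      (ξ.fibMap (invIncl (K.obj (SingleObj.star G)).unop.obj ρ)) := by
    intro z
    haveI := (hE.2 ξ.base).1
    haveI := (hE.2 ξ.base).2
    haveI := ((K.obj (SingleObj.star G)).unop.property.2 ξ.base).1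
    haveI := ((K.obj (SingleObj.star G)).unop.property.2 ξ.base).2
    obtain ⟨y, hy⟩ := comap_surjective_of_injective (R := X.ring ξ.base) (Ω := Ω)
      ((invIncl (K.obj (SingleObj.star G)).unop.obj ρ).app ξ.base)
      (invIncl_injective (K.obj (SingleObj.star G)).unop.obj ρ ξ.base) z
    exact ⟨y, hy⟩
  have hnatF : ∀ (s : Cocone (K ⋙ ξ.fibFunctor)) (g : G)
      (y : ξ.Fib (K.obj (SingleObj.star G)).unop.obj),
      s.ι.app (SingleObj.star G) (ξ.fibMap (ρ g) y) = s.ι.app (SingleObj.star G) y := by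
    intro s g y
    have h1 : (K ⋙ ξ.fibFunctor).map (show SingleObj.star G ⟶ SingleObj.star G from g) ≫
        s.ι.app (SingleObj.star G) = s.ι.app (SingleObj.star G) ≫ 𝟙 s.pt :=
      s.ι.naturality (show SingleObj.star G ⟶ SingleObj.star G from g)
    have h2 := h1.trans (Category.comp_id (s.ι.app (SingleObj.star G)))
    exact ConcreteCategory.congr_hom h2 y
  refine
    { desc := fun s => FintypeCat.homMk
        (fun z => s.ι.app (SingleObj.star G) (Classical.choose (hsurj z)))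
      fac := fun s j => ?_
      uniq := fun s m h => ?_ }
  · apply FintypeCat.hom_ext
    intro y
    have hy := Classical.choose_spec
      (hsurj (ξ.fibMap (invIncl (K.obj (SingleObj.star G)).unop.obj ρ) y))
    obtain ⟨g, hg⟩ := fib_inv_orbit hX hpw ξ (K.obj (SingleObj.star G)).unop ρ hone hmul hinvs
      (hlt (K.obj (SingleObj.star G)).unop) _ y hy
    exact (hnatF s g _).symm.trans
      (congrArg (fun w => s.ι.app (SingleObj.star G) w) hg.symm)
  · apply FintypeCat.hom_ext
    intro z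
    have hz := Classical.choose_spec (hsurj z)
    have h1 := ConcreteCategory.congr_hom (h (SingleObj.star G)) (Classical.choose (hsurj z))
    exact (congrArg (fun w => m w) hz.symm).trans h1

/-- monomorphisms in the opposite of the category of étale covers are inclusions of direct
summands, given that epimorphisms of étale covers are pointwise surjective -/
theorem mono_summand (hX : X.IsSchematic)
    (hepi : ∀ (A B : FEt X) (f : A ⟶ B), Epi f → ∀ p : X.pt, Function.Surjective (f.hom.app p))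
    {Xo Yo : (FEt X)ᵒᵖ} (i : Xo ⟶ Yo) [Mono i] :
    ∃ (Z : (FEt X)ᵒᵖ) (u : Z ⟶ Yo), Nonempty (IsColimit (BinaryCofan.mk i u)) := by
  haveI : Epi i.unop := inferInstance
  obtain ⟨D, π, ⟨hl⟩⟩ := Groth.Agent.S15628.result X hX i.unop (hepi _ _ i.unop inferInstance)
  refine ⟨Opposite.op D, π.op, ⟨?_⟩⟩
  refine BinaryCofan.IsColimit.mk _
    (fun {T} f g => (hl.lift (BinaryFan.mk f.unop g.unop)).op) ?_ ?_ ?_
  · intro T f g
    apply Quiver.Hom.unop_inj
    exact hl.fac (BinaryFan.mk f.unop g.unop) ⟨WalkingPair.left⟩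
  · intro T f g
    apply Quiver.Hom.unop_inj
    exact hl.fac (BinaryFan.mk f.unop g.unop) ⟨WalkingPair.right⟩
  · intro T f g m h1 h2
    apply Quiver.Hom.unop_inj
    apply BinaryFan.IsLimit.hom_ext hl
    · exact (congrArg Quiver.Hom.unop h1).trans
        (hl.fac (BinaryFan.mk f.unop g.unop) ⟨WalkingPair.left⟩).symm
    · exact (congrArg Quiver.Hom.unop h2).trans
        (hl.fac (BinaryFan.mk f.unop g.unop) ⟨WalkingPair.right⟩).symm

end X

end Groth.Agent.H78.SF
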