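import Groth.Agent.H78.SF2

/-!
# Geometric points of schematic finite spaces from maximal pairs (helper78)
-/

set_option autoImplicit false
set_option maxHeartbeats 400000
universe u
open SchFin TensorProduct

namespace Groth.Agent.H78.SF

section BC
variable {R S : Type u} [CommRing R] [CommRing S] (g : R →+* S)

theorem isBCAlong_of_subsingleton {M N : Type u} [AddCommGroup M] [AddCommGroup N] [Module R M]
    [Module S N] [Subsingleton N] (f : M →ₛₗ[g] N)
    (h : letI : Algebra R S := g.toAlgebra; Subsingleton (S ⊗[R] M)) : IsBCAlong g f := by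
  unfold IsBCAlong
  letI : Algebra R S := g.toAlgebra
  haveI := h
  refine ⟨fun a b _ => Subsingleton.elim _ _, fun n => ⟨0, Subsingleton.elim _ _⟩⟩

theorem isBCAlong_transport {M N M' N' : Type u} [AddCommGroup M] [AddCommGroup N] [Module R M]
    [Module S N] [AddCommGroup M'] [AddCommGroup N'] [Module R M'] [Module S N']
    (f : M →ₛₗ[g] N) (f' : M' →ₛₗ[g] N') (e₁ : M ≃ₗ[R] M') (e₂ : N ≃ₗ[S] N')
    (h : ∀ m, f' (e₁ m) = e₂ (f m)) (hf : IsBCAlong g f) : IsBCAlong g f' := by
  unfold IsBCAlong at hf ⊢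
  letI : Algebra R S := g.toAlgebra
  letI : Module R N := Module.compHom N g
  letI : Module R N' := Module.compHom N' g
  haveI : IsScalarTower R S N := IsScalarTower.of_algebraMap_smul fun _ _ => rfl
  haveI : IsScalarTower R S N' := IsScalarTower.of_algebraMap_smul fun _ _ => rfl
  refine IsBaseChange.of_equiv
    ((TensorProduct.AlgebraTensorModule.congr (LinearEquiv.refl S S) e₁.symm) ≪≫ₗ
      hf.equiv ≪≫ₗ e₂) ?_
  intro m'
  simp only [LinearEquiv.trans_apply, TensorProduct.AlgebraTensorModule.congr_tmul,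
    LinearEquiv.refl_apply, IsBaseChange.equiv_tmul, one_smul]
  show e₂ (f (e₁.symm m')) = f' m'
  rw [← h, e₁.apply_symm_apply]

/-- base change along the identity -/
theorem isBCAlong_id_of_bijective {M N : Type u} [AddCommGroup M] [AddCommGroup N] [Module R M]
    [Module R N] (f : M →ₛₗ[RingHom.id R] N) (hf : Function.Bijective f) :
    IsBCAlong (RingHom.id R) f := by
  unfold IsBCAlong
  letI : Algebra R R := (RingHom.id R).toAlgebra
  letI : Module R N := Module.compHom N (RingHom.id R)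
  haveI : IsScalarTower R R N := IsScalarTower.of_algebraMap_smul fun _ _ => rfl
  let e : M ≃ₗ[R] N := LinearEquiv.ofBijective f hf
  refine IsBaseChange.of_equiv ((TensorProduct.lid R M) ≪≫ₗ e) ?_
  intro m
  simp only [LinearEquiv.trans_apply, TensorProduct.lid_tmul, one_smul]
  rfl

/-- base change along an epimorphism of a module that already lives over the target -/
theorem isBCAlong_of_epi
    (hepi : letI : Algebra R S := g.toAlgebra; ∀ b : S, b ⊗ₜ[R] (1 : S) = 1 ⊗ₜ[R] b)
    {M N : Type u} [AddCommGroup M] [AddCommGroup N] [Module R M] [Module S N]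
    (f : M →ₛₗ[g] N) (hf : Function.Bijective f) : IsBCAlong g f := by
  unfold IsBCAlong
  letI : Algebra R S := g.toAlgebra
  letI : Module R N := Module.compHom N g
  haveI : IsScalarTower R S N := IsScalarTower.of_algebraMap_smul fun _ _ => rfl
  let e : M ≃+ N := AddEquiv.ofBijective f.toAddMonoidHom hf
  -- the R-linear maps θ n : S → M, b ↦ f⁻¹ (b • f n)
  let θ : M → (S →ₗ[R] M) := fun n =>
    { toFun := fun b => e.symm (b • f n)
      map_add' := fun b b' => by rw [add_smul, map_add]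
      map_smul' := fun a b => by
        rw [RingHom.id_apply]
        apply e.injective
        rw [e.apply_symm_apply]
        show (a • b) • f n = f (a • e.symm (b • f n))
        rw [LinearMap.map_smulₛₗ]
        have : f (e.symm (b • f n)) = b • f n := e.apply_symm_apply _
        rw [this, Algebra.smul_def, mul_smul]
        rfl }
  have key : ∀ (b : S) (n : M), b ⊗ₜ[R] n = (1 : S) ⊗ₜ[R] (e.symm (b • f n)) := by
    intro b n
    have h1 := congrArg (LinearMap.lTensor S (θ n)) (hepi b)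
    rw [LinearMap.lTensor_tmul, LinearMap.lTensor_tmul] at h1
    have h2 : θ n 1 = n := by
      show e.symm ((1 : S) • f n) = n
      rw [one_smul]; exact e.symm_apply_apply n
    rw [h2] at h1
    exact h1
  constructor
  · intro t t' htt
    have hinv : ∀ t : S ⊗[R] M, t = (1 : S) ⊗ₜ[R] (e.symm
        (TensorProduct.lift (((Algebra.linearMap S (Module.End S (M →ₗ[R] N))).flip
          ({ toFun := f, map_add' := f.map_add, map_smul' := f.map_smulₛₗ } : M →ₗ[R] N)).restrictScalars R) t)) := by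
      intro t
      induction t using TensorProduct.induction_on with
      | zero => simp
      | tmul b n => exact key b n
      | add t t' ht ht' =>
        rw [map_add, map_add, TensorProduct.tmul_add, ← ht, ← ht']
    rw [hinv t, hinv t', htt]
  · intro n
    refine ⟨(1 : S) ⊗ₜ[R] e.symm n, ?_⟩
    show (1 : S) • f (e.symm n) = n
    rw [one_smul]; exact e.apply_symm_apply n

theorem isBCAlong_of_surjective (hg : ∀ s : S, ∃ r : R, g r = s)
    {M N : Type u} [AddCommGroup M] [AddCommGroup N] [Module R M] [Module S N]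
    (f : M →ₛₗ[g] N) (hf : Function.Bijective f) : IsBCAlong g f :=
  isBCAlong_of_epi g (by
    letI : Algebra R S := g.toAlgebra
    intro b
    obtain ⟨r, rfl⟩ := hg b
    have h1 : g r = r • (1 : S) := by rw [Algebra.smul_def, mul_one]; rfl
    rw [h1, TensorProduct.smul_tmul]) f hf

end BC

section Vanish
variable {X : RSpace.{u}} {U : Set X.pt} {R : Type u} [CommRing R] (φ : Coef X U R) (M : OMod X)

lemma H_subsingleton_of_isEmpty (n : ℕ) [IsEmpty (Chain U n)] : Subsingleton (H φ M n) := by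
  refine ⟨fun a b => ?_⟩
  obtain ⟨c, rfl⟩ := Submodule.mkQ_surjective _ a
  obtain ⟨c', rfl⟩ := Submodule.mkQ_surjective _ b
  congr 1
  apply Subtype.ext; funext σ; exact isEmptyElim σ

lemma isEmpty_chain_of_subsingleton [Subsingleton U] (n : ℕ) : IsEmpty (Chain U (n + 1)) :=
  ⟨fun σ => by
    have h := σ.injective (Subsingleton.elim (σ 0) (σ 1))
    exact absurd h (by simp)⟩

lemma isEmpty_chain_of_isEmpty [IsEmpty U] (n : ℕ) : IsEmpty (Chain U n) :=
  ⟨fun σ => isEmptyElim (σ 0)⟩

end Vanish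

section Converse
variable {X : RSpace.{u}} {U U' : Set X.pt} {R R' : Type u} [CommRing R] [CommRing R']
  {φ : Coef X U R} {φ' : Coef X U' R'} (M : OMod X) (s : Coef.Sub φ φ')
  (m : U) (hm : ∀ q : U, m.1 ≤ q.1) (m' : U') (hm' : ∀ q : U', m'.1 ≤ q.1)
  {P P' : Type u} [AddCommGroup P] [Module R P] [AddCommGroup P'] [Module R' P']
  (ι : P ≃+ M.carrier m.1) (hι : ∀ (a : R) (p : P), ι (a • p) = φ.map m a • ι p)
  (ι' : P' ≃+ M.carrier m'.1) (hι' : ∀ (a : R') (p : P'), ι' (a • p) = φ'.map m' a • ι' p)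

include hι hι' hm' in
/-- converse of `bc_least`: the degree-zero condition from a base change between the values at
the least elements -/
theorem bc_of_least (f₀ : P →ₛₗ[s.hom] P')
    (hf₀ : ∀ p, ι' (f₀ p) = M.res (hm ⟨m'.1, s.le m'.2⟩) (ι p)) (hbc : IsBCAlong s.hom f₀) :
    IsBCAlong s.hom (resH M s 0) := by
  refine isBCAlong_transport s.hom f₀ (resH M s 0) (leastEquiv φ M m hm ι hι)
    (leastEquiv φ' M m' hm' ι' hι') ?_ hbc
  intro p
  show resH M s 0 (toH0 φ M (leastSect M m hm (ι p))) =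
    toH0 φ' M (leastSect M m' hm' (ι' (f₀ p)))
  rw [resH_toH0, hf₀]
  congr 1
  apply Subtype.ext; funext q
  show M.res _ (ι p) = M.res _ (M.res _ (ι p))
  rw [M.res_comp]

end Converse

section BC2
variable {R S : Type u} [CommRing R] [CommRing S] (g : R →+* S)

theorem isBCAlong_of_subsingleton₂ {M N : Type u} [AddCommGroup M] [AddCommGroup N] [Module R M]
    [Module S N] [Subsingleton M] [Subsingleton N] (f : M →ₛₗ[g] N) : IsBCAlong g f := by
  unfold IsBCAlong
  refine ⟨fun a b _ => Subsingleton.elim _ _, fun n => ⟨0, Subsingleton.elim _ _⟩⟩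

end BC2

section Geom
variable (X : RSpace.{u}) (Ω : Type u) [Field Ω] [IsAlgClosed Ω] (x : X.pt) (τ : X.ring x →+* Ω)

/-- the morphism from the one-point space given by a point and a ring map to the field -/
def geomHom : Hom (RSpace.point Ω) X where
  fn _ := x
  mono _ _ _ := le_rfl
  app _ := τ
  compat h b := by
    show τ b = τ (X.res _ b)
    rw [X.res_self]

theorem geomHom_isSchematic (hX : X.IsSchematic)
    (hmax : ∀ (y y' : X.pt) (hy : y ≤ y') (hyx : y ≤ x), ¬ y' ≤ x →
      letI : Algebra (X.ring y) (X.ring y') := (X.res hy).toAlgebra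
      letI : Algebra (X.ring y) Ω := (τ.comp (X.res hyx)).toAlgebra
      Subsingleton (X.ring y' ⊗[X.ring y] Ω)) :
    (geomHom X Ω x τ).IsSchematic := by
  refine ⟨⟨fun _ => (inferInstance : IsNoetherianRing Ω), fun _ _ _ => RingHom.Flat.id Ω⟩,
    hX.1, ?_⟩
  intro n z z' hz y y' hy
  have hzz : z = z' := rfl
  subst hzz
  constructor
  · refine isBCAlong_of_surjective _ (fun s => ⟨s, rfl⟩) _ ?_
    have hid : ∀ h, resH (RSpace.point Ω).str ((geomHom X Ω x τ).subSrc hz y) n h = h := by
      intro h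
      obtain ⟨c, rfl⟩ := Submodule.mkQ_surjective _ h
      rfl
    exact ⟨fun a b hab => by rw [← hid a, ← hid b]; exact hab, fun b => ⟨b, hid b⟩⟩
  · cases n with
    | succ n =>
      haveI : Subsingleton ↥((geomHom X Ω x τ).wedge z y) :=
        ⟨fun a b => Subtype.ext rfl⟩
      haveI : Subsingleton ↥((geomHom X Ω x τ).wedge z y') :=
        ⟨fun a b => Subtype.ext rfl⟩
      haveI := isEmpty_chain_of_subsingleton (U := (geomHom X Ω x τ).wedge z y) n
      haveI := isEmpty_chain_of_subsingleton (U := (geomHom X Ω x τ).wedge z y') n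
      haveI := H_subsingleton_of_isEmpty (Coef.ofHom (geomHom X Ω x τ) y _
        ((geomHom X Ω x τ).wedge_subset_pre z y)) (RSpace.point Ω).str (n + 1)
      haveI := H_subsingleton_of_isEmpty (Coef.ofHom (geomHom X Ω x τ) y' _
        ((geomHom X Ω x τ).wedge_subset_pre z y')) (RSpace.point Ω).str (n + 1)
      exact isBCAlong_of_subsingleton₂ _ _
    | zero =>
      by_cases hyx : y ≤ x
      · by_cases hy'x : y' ≤ x
        · letI : Algebra (X.ring y) Ω := (τ.comp (X.res hyx)).toAlgebra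
          letI : Algebra (X.ring y') Ω := (τ.comp (X.res hy'x)).toAlgebra
          let f₀ : Ω →ₛₗ[X.res hy] Ω :=
            { toFun := id, map_add' := fun _ _ => rfl
              map_smul' := fun a w => by
                show τ (X.res hyx a) * w = τ (X.res hy'x (X.res hy a)) * w
                rw [X.res_comp] }
          refine bc_of_least (RSpace.point Ω).str ((geomHom X Ω x τ).subTgt z hy)
            ⟨z, ⟨le_rfl, hyx⟩⟩ (fun q => q.2.1) ⟨z, ⟨le_rfl, hy'x⟩⟩
            (fun q => q.2.1) (P := Ω) (P' := Ω) (AddEquiv.refl _) (fun a p => rfl)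
            (AddEquiv.refl _) (fun a p => rfl) f₀ (fun p => rfl) ?_
          exact isBCAlong_of_epi (X.res hy) (epi_tmul hX hy) f₀ Function.bijective_id
        · haveI : IsEmpty ↥((geomHom X Ω x τ).wedge z y') := ⟨fun q => hy'x q.2.2⟩
          haveI := isEmpty_chain_of_isEmpty (U := (geomHom X Ω x τ).wedge z y') 0
          haveI := H_subsingleton_of_isEmpty (Coef.ofHom (geomHom X Ω x τ) y' _
            ((geomHom X Ω x τ).wedge_subset_pre z y')) (RSpace.point Ω).str 0
          letI : Algebra (X.ring y) (X.ring y') := (X.res hy).toAlgebra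
          letI : Algebra (X.ring y) Ω := (τ.comp (X.res hyx)).toAlgebra
          haveI : Subsingleton (X.ring y' ⊗[X.ring y] Ω) := hmax y y' hy hyx hy'x
          refine isBCAlong_of_subsingleton _ _ ?_
          let j : Ω ≃ₗ[X.ring y] H (Coef.ofHom (geomHom X Ω x τ) y _
              ((geomHom X Ω x τ).wedge_subset_pre z y)) (RSpace.point Ω).str 0 :=
            leastEquiv (U := (geomHom X Ω x τ).wedge z y) _ (RSpace.point Ω).str
              ⟨z, ⟨le_rfl, hyx⟩⟩ (fun q => q.2.1)
              (AddEquiv.refl _) (fun a p => rfl)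
          exact (LinearEquiv.lTensor (X.ring y') j).symm.toEquiv.subsingleton
      · haveI : IsEmpty ↥((geomHom X Ω x τ).wedge z y) := ⟨fun q => hyx q.2.2⟩
        haveI : IsEmpty ↥((geomHom X Ω x τ).wedge z y') :=
          ⟨fun q => hyx (hy.trans q.2.2)⟩
        haveI := isEmpty_chain_of_isEmpty (U := (geomHom X Ω x τ).wedge z y) 0
        haveI := isEmpty_chain_of_isEmpty (U := (geomHom X Ω x τ).wedge z y') 0
        haveI := H_subsingleton_of_isEmpty (Coef.ofHom (geomHom X Ω x τ) y _
          ((geomHom X Ω x τ).wedge_subset_pre z y)) (RSpace.point Ω).str 0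
        haveI := H_subsingleton_of_isEmpty (Coef.ofHom (geomHom X Ω x τ) y' _
          ((geomHom X Ω x τ).wedge_subset_pre z y')) (RSpace.point Ω).str 0
        exact isBCAlong_of_subsingleton₂ _ _

theorem hmax_of_maximal (hX : X.IsSchematic) (hff : HFF X) (a : X.Pair)
    (ha : ∀ b : X.Pair, X.PairRel a b → b.1 ≤ a.1) (φ : a.κ →+* Ω) :
    ∀ (y y' : X.pt) (hy : y ≤ y') (hyx : y ≤ a.1), ¬ y' ≤ a.1 →
      letI : Algebra (X.ring y) (X.ring y') := (X.res hy).toAlgebra
      letI : Algebra (X.ring y) Ω :=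
        ((φ.comp (algebraMap (X.ring a.1) a.κ)).comp (X.res hyx)).toAlgebra
      Subsingleton (X.ring y' ⊗[X.ring y] Ω) := by
  intro y y' hy hyx hy'x
  letI : Algebra (X.ring y) (X.ring y') := (X.res hy).toAlgebra
  letI : Algebra (X.ring y) Ω :=
    ((φ.comp (algebraMap (X.ring a.1) a.κ)).comp (X.res hyx)).toAlgebra
  by_contra hns
  rw [not_subsingleton_iff_nontrivial] at hns
  obtain ⟨𝔫, h𝔫⟩ := Ideal.exists_maximal (X.ring y' ⊗[X.ring y] Ω)
  haveI := h𝔫.isPrime
  let r : PrimeSpectrum (X.ring y') :=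
    ⟨𝔫.comap Algebra.TensorProduct.includeLeftRingHom, Ideal.comap_isPrime _ _⟩
  have hr : PrimeSpectrum.comap (X.res hy) r = PrimeSpectrum.comap (X.res hyx) a.2 := by
    apply PrimeSpectrum.ext; ext b
    show (X.res hy b) ⊗ₜ[X.ring y] (1 : Ω) ∈ 𝔫 ↔ X.res hyx b ∈ a.2.asIdeal
    have h1 : (X.res hy b) ⊗ₜ[X.ring y] (1 : Ω) =
        (1 : X.ring y') ⊗ₜ[X.ring y] (φ (algebraMap (X.ring a.1) a.κ (X.res hyx b))) := by
      have e1 : X.res hy b = b • (1 : X.ring y') := by rw [Algebra.smul_def, mul_one]; rfl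
      have e2 : φ (algebraMap (X.ring a.1) a.κ (X.res hyx b)) = b • (1 : Ω) := by
        rw [Algebra.smul_def, mul_one]; rfl
      rw [e1, e2, TensorProduct.smul_tmul]
    rw [h1]
    have h2 : ∀ ω : Ω, (1 : X.ring y') ⊗ₜ[X.ring y] ω ∈ 𝔫 ↔ ω = 0 := by
      intro ω
      constructor
      · intro hω
        by_contra hne
        have h3 := 𝔫.mul_mem_left ((1 : X.ring y') ⊗ₜ[X.ring y] ω⁻¹) hω
        rw [Algebra.TensorProduct.tmul_mul_tmul, one_mul, inv_mul_cancel₀ hne] at h3
        exact h𝔫.ne_top ((Ideal.eq_top_iff_one _).mpr h3)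
      · rintro rfl; rw [TensorProduct.tmul_zero]; exact Ideal.zero_mem _
    rw [h2, map_eq_zero_iff φ φ.injective, ← RingHom.mem_ker, Ideal.ker_algebraMap_residueField]
  obtain ⟨z, h1, h2, r', h3, h4⟩ := pairRel_of_comap_eq X hX hff hy hyx r a.2 hr
  exact hy'x (ha ⟨y', r⟩ ⟨z, h2, h1, r', h4, h3⟩)

lemma geomPt_ext {X : RSpace.{u}} {Ω : Type u} [Field Ω] [IsAlgClosed Ω] (ξ ξ' : GeomPt X Ω)
    (h : (⟨ξ.base, ξ.toField⟩ : Σ x : X.pt, (X.ring x →+* Ω)) = ⟨ξ'.base, ξ'.toField⟩) :
    ξ = ξ' := by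
  obtain ⟨⟨fn, mono, app, compat⟩, hs⟩ := ξ
  obtain ⟨⟨fn', mono', app', compat'⟩, hs'⟩ := ξ'
  have h1 : fn PUnit.unit = fn' PUnit.unit := congrArg Sigma.fst h
  have hfn : fn = fn' := funext fun q => by cases q; exact h1
  subst hfn
  have h2 : app PUnit.unit = app' PUnit.unit := eq_of_heq (Sigma.mk.inj h).2
  have happ : app = app' := funext fun q => by cases q; exact h2
  subst happ
  rfl

theorem existsUnique_geomPt (hX : X.IsSchematic) (hff : HFF X) (a : X.Pair)
    (ha : ∀ b : X.Pair, X.PairRel a b → b.1 ≤ a.1) (φ : a.κ →+* Ω) :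
    ∃! ξ : GeomPt X Ω, (⟨ξ.base, ξ.toField⟩ : Σ x : X.pt, (X.ring x →+* Ω)) =
      ⟨a.1, φ.comp (algebraMap (X.ring a.1) a.κ)⟩ := by
  refine ⟨⟨geomHom X Ω a.1 (φ.comp (algebraMap (X.ring a.1) a.κ)),
    geomHom_isSchematic X Ω a.1 _ hX (hmax_of_maximal X Ω hX hff a ha φ)⟩, rfl, ?_⟩
  intro ξ hξ
  exact geomPt_ext _ _ hξ

end Geom

end Groth.Agent.H78.SF
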