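import Groth.Agent.H78.SF3
import Mathlib.RingTheory.Unramified.Finite
import Mathlib.RingTheory.Smooth.Flat
import Mathlib.RingTheory.Etale.Basic
import Mathlib.RingTheory.Flat.EquationalCriterion
import Mathlib.RingTheory.Finiteness.Projective
import Mathlib.RingTheory.Ideal.IdempotentFG

/-!
# Kernels of maps of finite étale algebras are generated by idempotents (helper78)
-/

set_option autoImplicit false
set_option maxHeartbeats 400000
universe u
open SchFin TensorProduct

namespace Groth.Agent.H78.SF

/-- the kernel of a map of finite étale algebras over a Noetherian ring is generated by an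
idempotent -/
theorem exists_idempotent_ker {R A B : Type u} [CommRing R] [CommRing A] [CommRing B]
    [Algebra R A] [Algebra R B] [IsNoetherianRing R] [Module.Finite R A] [Algebra.Etale R A]
    [Module.Finite R B] [Algebra.Etale R B] (f : A →ₐ[R] B) :
    ∃ e : A, IsIdempotentElem e ∧ RingHom.ker f = Ideal.span {e} := by
  letI : Algebra A B := f.toRingHom.toAlgebra
  haveI : IsScalarTower R A B := IsScalarTower.of_algebraMap_eq (fun r => (f.commutes r).symm)
  haveI : Module.Flat R B := inferInstance
  haveI : Module.FinitePresentation R B := Module.finitePresentation_of_finite R B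
  haveI : Module.Projective R B := Module.Flat.projective_of_finitePresentation
  haveI : Module.Projective A B := Algebra.FormallyUnramified.projective_of_restrictScalars R A B
  haveI : Module.Finite A B := Module.Finite.of_restrictScalars_finite R A B
  obtain ⟨n, F, G, hF, hG, hFG⟩ := Module.Finite.exists_comp_eq_id_of_projective A B
  let x : Fin n → B := fun i => F (Pi.single i 1)
  have hx : ∀ b : B, b = ∑ i, G b i • x i := by
    intro b
    have h1 : F (G b) = b := LinearMap.congr_fun hFG b
    have h2 : G b = ∑ i, G b i • (Pi.single i 1 : Fin n → A) := by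
      ext j
      simp [Finset.sum_apply, Pi.single_apply]
    calc b = F (G b) := h1.symm
      _ = F (∑ i, G b i • (Pi.single i 1 : Fin n → A)) := by rw [← h2]
      _ = ∑ i, G b i • x i := by rw [map_sum]; simp only [map_smul]; rfl
  have hGexp : ∀ (b : B) (j : Fin n), G b j = ∑ i, G b i * G (x i) j := by
    intro b j
    have h1 := congrArg (fun y => G y j) (hx b)
    simp only [map_sum, map_smul, Finset.sum_apply, Pi.smul_apply, smul_eq_mul] at h1
    exact h1
  let T : Ideal A := Ideal.span (Set.range fun ij : Fin n × Fin n => G (x ij.1) ij.2)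
  have hTfg : T.FG := Submodule.fg_span (Set.finite_range _)
  have hgen : ∀ i j, G (x i) j ∈ T := fun i j => Ideal.subset_span ⟨(i, j), rfl⟩
  have hGT : ∀ (b : B) (j : Fin n), G b j ∈ T := by
    intro b j
    rw [hGexp b j]
    exact Ideal.sum_mem _ fun i _ => Ideal.mul_mem_left _ _ (hgen i j)
  have hTT : IsIdempotentElem T := by
    apply le_antisymm
    · exact Ideal.mul_le_left
    · refine Ideal.span_le.mpr ?_
      rintro _ ⟨⟨i, j⟩, rfl⟩
      show G (x i) j ∈ T * T
      rw [hGexp (x i) j]
      exact Ideal.sum_mem _ fun k _ => Ideal.mul_mem_mul (hgen i k) (hgen k j)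
  obtain ⟨e', he', hTe⟩ := (Ideal.isIdempotentElem_iff_of_fg T hTfg).mp hTT
  have hTe' : T = Ideal.span {e'} := hTe
  refine ⟨1 - e', he'.one_sub, ?_⟩
  ext a
  rw [RingHom.mem_ker, Ideal.mem_span_singleton']
  constructor
  · intro ha
    have h1 : T ≤ LinearMap.ker (LinearMap.mulLeft A a) := by
      refine Ideal.span_le.mpr ?_
      rintro _ ⟨⟨i, j⟩, rfl⟩
      show a * G (x i) j = 0
      have h2 : a • x i = 0 := by
        rw [Algebra.smul_def]
        show f a * x i = 0
        rw [ha, zero_mul]
      have h3 := congrArg (fun y => y j) (map_smul G a (x i))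
      simp only [Pi.smul_apply, smul_eq_mul] at h3
      rw [← h3, h2, map_zero]; rfl
    have h2 : a * e' = 0 := h1 (hTe' ▸ Ideal.mem_span_singleton_self e')
    exact ⟨a, by rw [mul_sub, mul_one, h2, sub_zero]⟩
  · rintro ⟨c, rfl⟩
    have h3 : ∀ b : B, (1 - e') • b = 0 := by
      intro b
      have h4 : (1 - e') • b = ∑ i, ((1 - e') * G b i) • x i := by
        conv_lhs => rw [hx b]
        rw [Finset.smul_sum]
        simp only [smul_smul]
      rw [h4]
      refine Finset.sum_eq_zero fun i _ => ?_
      have h5 : G b i ∈ Ideal.span {e'} := hTe' ▸ hGT b i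
      obtain ⟨d, hd⟩ := Ideal.mem_span_singleton'.mp h5
      rw [← hd, show (1 - e') * (d * e') = d * (e' - e' * e') by ring, he'.eq, sub_self, mul_zero,
        zero_smul]
    rw [map_mul]
    have h6 : f (1 - e') = (1 - e') • (1 : B) := by rw [Algebra.smul_def, mul_one]; rfl
    rw [h6, h3, mul_zero]

/-- idempotents generating the same ideal are equal -/
theorem idempotent_eq_of_span_eq {A : Type u} [CommRing A] {e e' : A} (he : IsIdempotentElem e)
    (he' : IsIdempotentElem e') (h : Ideal.span {e} = Ideal.span {e'}) : e = e' := by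
  have h1 : e ∈ Ideal.span {e'} := h ▸ Ideal.mem_span_singleton_self e
  have h2 : e' ∈ Ideal.span {e} := h.symm ▸ Ideal.mem_span_singleton_self e'
  obtain ⟨c, hc⟩ := Ideal.mem_span_singleton'.mp h1
  obtain ⟨d, hd⟩ := Ideal.mem_span_singleton'.mp h2
  have h3 : e * e' = e := by rw [← hc, mul_assoc, he'.eq]
  have h4 : e' * e = e' := by rw [← hd, mul_assoc, he.eq]
  rw [← h3, mul_comm, h4]

end Groth.Agent.H78.SF
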