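import Groth.Agent.H78.SF4
import Groth.Agent.S15622
import Mathlib.RingTheory.Localization.Away.Lemmas

/-!
# Kernels and pieces of étale covers over finite ringed posets (helper78)
-/

set_option autoImplicit false
set_option maxHeartbeats 400000
universe u
open SchFin TensorProduct CategoryTheory

namespace Groth.Agent.H78.SF

/-- abstract form: kernels of algebra maps are compatible with flat base change -/
theorem ker_eq_span_of_isBCAlong {R S : Type u} [CommRing R] [CommRing S] (g : R →+* S)
    (hg : g.Flat) {A B A' B' : Type u} [CommRing A] [CommRing B] [CommRing A'] [CommRing B']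
    [Algebra R A] [Algebra R B] [Algebra S A'] [Algebra S B']
    (rA : A →ₛₗ[g] A') (rB : B →ₛₗ[g] B') (hA : IsBCAlong g rA) (hB : IsBCAlong g rB)
    (hrA : ∀ a a', rA (a * a') = rA a * rA a')
    (fp : A →ₐ[R] B) (fq : A' →ₐ[S] B') (hcompat : ∀ a, rB (fp a) = fq (rA a))
    (e : A) (he : RingHom.ker fp = Ideal.span {e}) :
    RingHom.ker fq = Ideal.span {rA e} := by
  unfold IsBCAlong at hA hB
  letI : Algebra R S := g.toAlgebra
  letI : Module R A' := Module.compHom _ g
  letI : Module R B' := Module.compHom _ g
  haveI : IsScalarTower R S A' := IsScalarTower.of_algebraMap_smul fun _ _ => rfl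
  haveI : IsScalarTower R S B' := IsScalarTower.of_algebraMap_smul fun _ _ => rfl
  haveI : Module.Flat R S := hg
  have hnat : ∀ t : S ⊗[R] A,
      hB.equiv (LinearMap.lTensor S fp.toLinearMap t) = fq (hA.equiv t) := by
    intro t
    induction t using TensorProduct.induction_on with
    | zero => simp only [map_zero]
    | tmul b a =>
      rw [LinearMap.lTensor_tmul, IsBaseChange.equiv_tmul, IsBaseChange.equiv_tmul, map_smul]
      exact congrArg (fun y => b • y) (hcompat a)
    | add t t' ht ht' => rw [map_add, map_add, map_add, map_add, ht, ht']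
  apply le_antisymm
  · intro a' ha'
    rw [RingHom.mem_ker] at ha'
    obtain ⟨t, rfl⟩ := hA.equiv.surjective a'
    have h1 : LinearMap.lTensor S fp.toLinearMap t = 0 := by
      apply hB.equiv.injective
      rw [hnat, ha', map_zero]
    have hex := Module.Flat.lTensor_exact S (LinearMap.exact_subtype_ker_map fp.toLinearMap)
    obtain ⟨t₀, rfl⟩ := (hex t).mp h1
    clear h1 ha'
    induction t₀ using TensorProduct.induction_on with
    | zero => simp only [map_zero]; exact Ideal.zero_mem _
    | tmul b k =>
      rw [LinearMap.lTensor_tmul, IsBaseChange.equiv_tmul]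
      show b • rA (k : A) ∈ Ideal.span {rA e}
      have hk : (k : A) ∈ Ideal.span {e} := by
        rw [← he, RingHom.mem_ker]; exact k.2
      obtain ⟨c, hc⟩ := Ideal.mem_span_singleton'.mp hk
      rw [← hc, hrA, Algebra.smul_def]
      exact Ideal.mul_mem_left _ _ (Ideal.mul_mem_left _ _ (Ideal.mem_span_singleton_self _))
    | add t t' ht ht' =>
      rw [map_add, map_add]
      exact Ideal.add_mem _ ht ht'
  · rw [Ideal.span_le]
    rintro _ rfl
    show fq (rA e) = 0
    rw [← hcompat]
    have : fp e = 0 := by
      rw [← RingHom.mem_ker, he]; exact Ideal.mem_span_singleton_self e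
    rw [this, map_zero]

variable {X : RSpace.{u}}

/-- the kernel of a morphism of quasi-coherent algebras is compatible with restriction -/
theorem ker_app_eq_span_res (hX : X.IsFinSp) {A B : Alg X} (hA : A.IsQcoh) (hB : B.IsQcoh)
    (f : A ⟶ B) {p q : X.pt} (h : p ≤ q) (e : A.carrier p)
    (he : RingHom.ker (f.app p) = Ideal.span {e}) :
    RingHom.ker (f.app q) = Ideal.span {A.res h e} :=
  ker_eq_span_of_isBCAlong (A := A.carrier p) (B := B.carrier p) (A' := A.carrier q)
    (B' := B.carrier q) (X.res h) (hX.2 p q h) (A.toMod.res h) (B.toMod.res h) (hA p q h)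
    (hB p q h) (fun a a' => map_mul (A.res h) a a') (f.app p) (f.app q) (fun a => f.compat h a) e he

end Groth.Agent.H78.SF
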