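import Groth.Agent.H78.SF5
import Mathlib.RingTheory.TensorProduct.IsBaseChangeRightExact

/-!
# Pieces of étale covers cut out by compatible idempotents (helper78)
-/

set_option autoImplicit false
set_option maxHeartbeats 400000
universe u
open SchFin TensorProduct CategoryTheory

namespace Groth.Agent.H78.SF

lemma exact_mulLeft_mk {R A : Type u} [CommRing R] [CommRing A] [Algebra R A] (j : A) :
    Function.Exact (LinearMap.mulLeft R j)
      (Ideal.Quotient.mkₐ R (Ideal.span {j})).toLinearMap := by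
  intro a
  show Ideal.Quotient.mk _ a = 0 ↔ _
  rw [Ideal.Quotient.eq_zero_iff_mem, Ideal.mem_span_singleton']
  constructor
  · rintro ⟨c, hc⟩; exact ⟨c, by rw [← hc]; exact mul_comm j c⟩
  · rintro ⟨c, hc⟩; exact ⟨c, by rw [← hc]; exact mul_comm c j⟩

theorem isBCAlong_quotient {R S : Type u} [CommRing R] [CommRing S] (g : R →+* S)
    {A A' : Type u} [CommRing A] [CommRing A'] [Algebra R A] [Algebra S A']
    (rA : A →ₛₗ[g] A') (hrA : ∀ a a', rA (a * a') = rA a * rA a') (hA : IsBCAlong g rA)
    (j : A) (j' : A') (hj : rA j = j')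
    (rQ : (A ⧸ Ideal.span {j}) →ₛₗ[g] (A' ⧸ Ideal.span {j'}))
    (hrQ : ∀ a, rQ (Ideal.Quotient.mk _ a) = Ideal.Quotient.mk _ (rA a)) : IsBCAlong g rQ := by
  unfold IsBCAlong at hA ⊢
  letI : Algebra R S := g.toAlgebra
  letI : Module R A' := Module.compHom _ g
  letI : Module R (A' ⧸ Ideal.span {j'}) := Module.compHom _ g
  haveI : IsScalarTower R S A' := IsScalarTower.of_algebraMap_smul fun _ _ => rfl
  haveI : IsScalarTower R S (A' ⧸ Ideal.span {j'}) :=
    IsScalarTower.of_algebraMap_smul fun _ _ => rfl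
  refine IsBaseChange.of_right_exact S _ _ _ (f := LinearMap.mulLeft R j)
    (g := (Ideal.Quotient.mkₐ R (Ideal.span {j})).toLinearMap)
    (f' := LinearMap.mulLeft S j') (g' := (Ideal.Quotient.mkₐ S (Ideal.span {j'})).toLinearMap)
    ?_ ?_ hA hA (exact_mulLeft_mk j) Ideal.Quotient.mk_surjective (exact_mulLeft_mk j')
    Ideal.Quotient.mk_surjective
  · ext a
    show rA (j * a) = j' * rA a
    rw [hrA, hj]
  · ext a
    exact hrQ a

variable {X : RSpace.{u}}

/-- a compatible family of idempotents of an algebra -/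
structure IdemFam (A : Alg X) where
  e : ∀ p, A.carrier p
  idem : ∀ p, IsIdempotentElem (e p)
  res : ∀ {p q : X.pt} (h : p ≤ q), A.res h (e p) = e q

/-- the complementary family -/
def IdemFam.compl {A : Alg X} (E : IdemFam A) : IdemFam A :=
  ⟨fun p => 1 - E.e p, fun p => (E.idem p).one_sub, fun h => by rw [map_sub, map_one, E.res h]⟩

lemma pieceAlg_aux {A : Alg X} (E : IdemFam A) {p q : X.pt} (h : p ≤ q) :
    Ideal.span {1 - E.e p} ≤ (Ideal.span {1 - E.e q}).comap (A.res h) := by
  rw [Ideal.span_le]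
  rintro _ rfl
  show A.res h (1 - E.e p) ∈ Ideal.span {1 - E.e q}
  rw [map_sub, map_one, E.res h]
  exact Ideal.mem_span_singleton_self _

/-- the piece of `A` where `e = 1`: the quotient by `1 - e` -/
def pieceAlg (A : Alg X) (E : IdemFam A) : Alg X where
  carrier p := A.carrier p ⧸ Ideal.span {1 - E.e p}
  res {p q} h := Ideal.quotientMap (Ideal.span {1 - E.e q}) (A.res h) (pieceAlg_aux E h)
  res_algebraMap h a := by
    show Ideal.quotientMap _ _ _ (Ideal.Quotient.mk _ (algebraMap _ _ a)) =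
      Ideal.Quotient.mk _ (algebraMap _ _ (X.res h a))
    rw [Ideal.quotientMap_mk, A.res_algebraMap]
  res_self p b := by
    obtain ⟨a, rfl⟩ := Ideal.Quotient.mk_surjective b
    rw [Ideal.quotientMap_mk, A.res_self]
  res_comp h h' b := by
    obtain ⟨a, rfl⟩ := Ideal.Quotient.mk_surjective b
    rw [Ideal.quotientMap_mk, Ideal.quotientMap_mk, Ideal.quotientMap_mk, A.res_comp]

/-- the quotient morphism onto a piece -/
def toPiece (A : Alg X) (E : IdemFam A) : A ⟶ pieceAlg A E :=
  ⟨fun p => Ideal.Quotient.mkₐ (X.ring p) (Ideal.span {1 - E.e p}), fun _ _ => rfl⟩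

lemma toPiece_surjective (A : Alg X) (E : IdemFam A) (p : X.pt) :
    Function.Surjective ((toPiece A E).app p) := Ideal.Quotient.mk_surjective

lemma toPiece_ker (A : Alg X) (E : IdemFam A) (p : X.pt) :
    RingHom.ker ((toPiece A E).app p) = Ideal.span {1 - E.e p} := Ideal.mk_ker

theorem pieceAlg_isEtCover (A : Alg X) (hA : A.IsEtCover) (E : IdemFam A) :
    (pieceAlg A E).IsEtCover := by
  refine ⟨fun p q h => ?_, fun p => ⟨?_, ?_⟩⟩
  · exact isBCAlong_quotient (A := A.carrier p) (A' := A.carrier q) (X.res h) (A.toMod.res h)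
      (fun a a' => map_mul (A.res h) a a') (hA.1 p q h) (1 - E.e p) (1 - E.e q)
      (by show A.res h (1 - E.e p) = 1 - E.e q; rw [map_sub, map_one, E.res h])
      ((pieceAlg A E).toMod.res h) (fun a => rfl)
  · haveI := (hA.2 p).1
    exact Module.Finite.of_surjective
      (Ideal.Quotient.mkₐ (X.ring p) (Ideal.span {1 - E.e p})).toLinearMap
      Ideal.Quotient.mk_surjective
  · haveI := (hA.2 p).2
    haveI : IsLocalization.Away (E.e p) (A.carrier p ⧸ Ideal.span {1 - E.e p}) :=
      IsLocalization.Away.quotient_of_isIdempotentElem (E.idem p)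
    haveI : Algebra.Etale (A.carrier p) (A.carrier p ⧸ Ideal.span {1 - E.e p}) :=
      Algebra.Etale.of_isLocalizationAway (E.e p)
    exact Algebra.Etale.comp (X.ring p) (A.carrier p) (A.carrier p ⧸ Ideal.span {1 - E.e p})

end Groth.Agent.H78.SF
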