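import Groth.Agent.H78.SF7

/-!
# Tensor products (coproducts) of algebras over finite ringed posets (helper78)
-/

set_option autoImplicit false
set_option maxHeartbeats 400000
universe u
open SchFin TensorProduct CategoryTheory

namespace Groth.Agent.H78.SF

section Abs
variable {R S : Type u} [CommRing R] [CommRing S] (g : R →+* S)
  {A B A' B' : Type u} [CommRing A] [CommRing B] [CommRing A'] [CommRing B']
  [Algebra R A] [Algebra R B] [Algebra S A'] [Algebra S B']

/-- semilinear tensor product of two ring maps -/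
noncomputable def tensorResAbs (rA : A →+* A') (rB : B →+* B')
    (hA : ∀ r, rA (algebraMap R A r) = algebraMap S A' (g r))
    (hB : ∀ r, rB (algebraMap R B r) = algebraMap S B' (g r)) :
    A ⊗[R] B →+* A' ⊗[S] B' :=
  letI : Algebra R (A' ⊗[S] B') := ((algebraMap S (A' ⊗[S] B')).comp g).toAlgebra
  (Algebra.TensorProduct.productMap
    ({ toRingHom := (Algebra.TensorProduct.includeLeftRingHom).comp rA
       commutes' := fun r => by
         show (rA (algebraMap R A r)) ⊗ₜ[S] (1 : B') = algebraMap S (A' ⊗[S] B') (g r)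
         rw [hA]; rfl } : A →ₐ[R] A' ⊗[S] B')
    ({ toRingHom := (Algebra.TensorProduct.includeRight : B' →ₐ[S] A' ⊗[S] B').toRingHom.comp rB
       commutes' := fun r => by
         show (1 : A') ⊗ₜ[S] (rB (algebraMap R B r)) = algebraMap S (A' ⊗[S] B') (g r)
         rw [hB]; exact (Algebra.TensorProduct.algebraMap_apply' _).symm } :
      B →ₐ[R] A' ⊗[S] B')).toRingHom

lemma tensorResAbs_tmul (rA : A →+* A') (rB : B →+* B')
    (hA : ∀ r, rA (algebraMap R A r) = algebraMap S A' (g r))
    (hB : ∀ r, rB (algebraMap R B r) = algebraMap S B' (g r)) (a : A) (b : B) :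
    tensorResAbs g rA rB hA hB (a ⊗ₜ b) = rA a ⊗ₜ rB b := by
  show (rA a ⊗ₜ[S] (1 : B')) * ((1 : A') ⊗ₜ[S] rB b) = _
  rw [Algebra.TensorProduct.tmul_mul_tmul, mul_one, one_mul]

/-- tensor products of base changes are base changes -/
theorem isBCAlong_tensor (rA : A →ₛₗ[g] A') (rB : B →ₛₗ[g] B') (hA : IsBCAlong g rA)
    (hB : IsBCAlong g rB) (rT : A ⊗[R] B →ₛₗ[g] A' ⊗[S] B')
    (hrT : ∀ a b, rT (a ⊗ₜ b) = rA a ⊗ₜ rB b) : IsBCAlong g rT := by
  unfold IsBCAlong at hA hB ⊢
  letI : Algebra R S := g.toAlgebra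
  obtain ⟨eA, heA⟩ : ∃ eA : S ⊗[R] A ≃ₗ[S] A', ∀ s a, eA (s ⊗ₜ a) = s • rA a := by
    letI : Module R A' := Module.compHom _ g
    haveI : IsScalarTower R S A' := IsScalarTower.of_algebraMap_smul fun _ _ => rfl
    exact ⟨hA.equiv, fun s a => IsBaseChange.equiv_tmul hA s a⟩
  obtain ⟨eB, heB⟩ : ∃ eB : S ⊗[R] B ≃ₗ[S] B', ∀ s b, eB (s ⊗ₜ b) = s • rB b := by
    letI : Module R B' := Module.compHom _ g
    haveI : IsScalarTower R S B' := IsScalarTower.of_algebraMap_smul fun _ _ => rfl
    exact ⟨hB.equiv, fun s b => IsBaseChange.equiv_tmul hB s b⟩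
  letI : Module R (A' ⊗[S] B') := Module.compHom _ g
  haveI : IsScalarTower R S (A' ⊗[S] B') := IsScalarTower.of_algebraMap_smul fun _ _ => rfl
  refine IsBaseChange.of_equiv
    ((TensorProduct.AlgebraTensorModule.distribBaseChange R S A B) ≪≫ₗ
      (TensorProduct.congr eA eB)) ?_
  intro m
  induction m using TensorProduct.induction_on with
  | zero => simp only [TensorProduct.tmul_zero, map_zero]
  | tmul a b =>
    rw [LinearEquiv.trans_apply, TensorProduct.AlgebraTensorModule.distribBaseChange_tmul,
      TensorProduct.congr_tmul, heA, heB, one_smul, one_smul]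
    exact (hrT a b).symm
  | add m m' hm hm' =>
    rw [TensorProduct.tmul_add, map_add, hm, hm']
    exact (map_add rT m m').symm

end Abs

variable {X : RSpace.{u}}

/-- the pointwise tensor product of two algebras -/
noncomputable def tensorAlg (A B : Alg X) : Alg X where
  carrier p := A.carrier p ⊗[X.ring p] B.carrier p
  res {p q} h := tensorResAbs (X.res h) (A.res h) (B.res h) (A.res_algebraMap h)
    (B.res_algebraMap h)
  res_algebraMap {p q} h r := by
    show tensorResAbs _ _ _ _ _ ((algebraMap _ (A.carrier p) r) ⊗ₜ[X.ring p] (1 : B.carrier p)) =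
      (algebraMap _ (A.carrier q) (X.res h r)) ⊗ₜ[X.ring q] (1 : B.carrier q)
    rw [tensorResAbs_tmul, A.res_algebraMap, map_one]
  res_self p t := by
    induction t using TensorProduct.induction_on with
    | zero => exact map_zero _
    | tmul a b => rw [tensorResAbs_tmul, A.res_self, B.res_self]
    | add t t' ht ht' => rw [map_add, ht, ht']
  res_comp h h' t := by
    induction t using TensorProduct.induction_on with
    | zero => rw [map_zero, map_zero, map_zero]
    | tmul a b =>
      rw [tensorResAbs_tmul, tensorResAbs_tmul, tensorResAbs_tmul, A.res_comp, B.res_comp]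
    | add t t' ht ht' => rw [map_add, map_add, map_add, ht, ht']

lemma tensorAlg_res_tmul (A B : Alg X) {p q : X.pt} (h : p ≤ q) (a : A.carrier p)
    (b : B.carrier p) :
    (tensorAlg A B).res h (a ⊗ₜ[X.ring p] b) = A.res h a ⊗ₜ[X.ring q] B.res h b :=
  tensorResAbs_tmul (X.res h) (A.res h) (B.res h) (A.res_algebraMap h) (B.res_algebraMap h) a b

theorem tensorAlg_isEtCover (A B : Alg X) (hA : A.IsEtCover) (hB : B.IsEtCover) :
    (tensorAlg A B).IsEtCover := by
  refine ⟨fun p q h => ?_, fun p => ⟨?_, ?_⟩⟩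
  · exact isBCAlong_tensor (A := A.carrier p) (B := B.carrier p) (A' := A.carrier q)
      (B' := B.carrier q) (X.res h) (A.toMod.res h) (B.toMod.res h) (hA.1 p q h) (hB.1 p q h)
      ((tensorAlg A B).toMod.res h) (fun a b => tensorAlg_res_tmul A B h a b)
  · haveI := (hA.2 p).1
    haveI := (hB.2 p).1
    exact (inferInstance : Module.Finite (X.ring p) (A.carrier p ⊗[X.ring p] B.carrier p))
  · haveI := (hA.2 p).2
    haveI := (hB.2 p).2
    haveI : Algebra.Etale (A.carrier p) (A.carrier p ⊗[X.ring p] B.carrier p) := inferInstance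
    exact Algebra.Etale.comp (X.ring p) (A.carrier p) (A.carrier p ⊗[X.ring p] B.carrier p)

/-- left inclusion -/
noncomputable def inlT (A B : Alg X) : A ⟶ tensorAlg A B :=
  ⟨fun p => Algebra.TensorProduct.includeLeft, fun {p q} h a => by
    show (tensorAlg A B).res h (a ⊗ₜ[X.ring p] (1 : B.carrier p)) =
      A.res h a ⊗ₜ[X.ring q] (1 : B.carrier q)
    rw [tensorAlg_res_tmul, map_one]⟩

/-- right inclusion -/
noncomputable def inrT (A B : Alg X) : B ⟶ tensorAlg A B :=
  ⟨fun p => Algebra.TensorProduct.includeRight, fun {p q} h b => by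
    show (tensorAlg A B).res h ((1 : A.carrier p) ⊗ₜ[X.ring p] b) =
      (1 : A.carrier q) ⊗ₜ[X.ring q] B.res h b
    rw [tensorAlg_res_tmul, map_one]⟩

/-- copairing out of the tensor product -/
noncomputable def tensorDesc {A B T : Alg X} (α : A ⟶ T) (β : B ⟶ T) : tensorAlg A B ⟶ T :=
  ⟨fun p => Algebra.TensorProduct.productMap (α.app p) (β.app p),
   fun {p q} h (t : A.carrier p ⊗[X.ring p] B.carrier p) => by
    show T.res h (Algebra.TensorProduct.productMap (α.app p) (β.app p) t) =
      Algebra.TensorProduct.productMap (α.app q) (β.app q)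
        (tensorResAbs (X.res h) (A.res h) (B.res h) (A.res_algebraMap h) (B.res_algebraMap h) t)
    induction t using TensorProduct.induction_on with
    | zero => rw [map_zero, map_zero, map_zero, map_zero]
    | tmul a b =>
      rw [tensorResAbs_tmul, Algebra.TensorProduct.productMap_apply_tmul,
        Algebra.TensorProduct.productMap_apply_tmul, map_mul, α.compat, β.compat]
    | add t t' ht ht' => rw [map_add, map_add, map_add, map_add, ht, ht']⟩

lemma tensorDesc_tmul {A B T : Alg X} (α : A ⟶ T) (β : B ⟶ T) (p : X.pt) (a : A.carrier p)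
    (b : B.carrier p) :
    (tensorDesc α β).app p (a ⊗ₜ[X.ring p] b) = α.app p a * β.app p b :=
  Algebra.TensorProduct.productMap_apply_tmul _ _ a b

end Groth.Agent.H78.SF
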