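import Mathlib
import Groth.Agent.H49.UnramFibre

/-!
# Pointwise version of the fibre criterion for unramified morphisms

If `f : X ⟶ S` is locally of finite type and the fibre of `f` over `s = f x` is formally
unramified over `κ(s)`, then `f` is formally unramified on an open neighbourhood of `x`.
-/

set_option autoImplicit false
universe u
open CategoryTheory CategoryTheory.Limits AlgebraicGeometry TensorProduct

namespace Groth.Agent.H78.UnramPoint

open Groth.Agent.H49.UnramFibre

attribute [local instance] Algebra.TensorProduct.rightAlgebra in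
theorem notMem_support_of_fiber {R A : Type u} [CommRing R] [CommRing A] [Algebra R A]
    [Algebra.FiniteType R A] (q : PrimeSpectrum A)
    (H : Algebra.FormallyUnramified (q.asIdeal.comap (algebraMap R A)).ResidueField
      ((q.asIdeal.comap (algebraMap R A)).Fiber A)) :
    q ∉ Module.support A Ω[A⁄R] := by
  intro hq
  rw [Module.mem_support_iff_nontrivial_residueField_tensorProduct] at hq
  let p : Ideal R := q.asIdeal.comap (algebraMap R A)
  have hfib : Subsingleton (p.ResidueField ⊗[R] Ω[A⁄R]) := by
    have h2 : Subsingleton Ω[p.Fiber A⁄p.ResidueField] :=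
      (Algebra.formallyUnramified_iff _ _).mp H
    exact (KaehlerDifferential.tensorKaehlerEquivBase R p.ResidueField A
      (p.Fiber A)).toEquiv.subsingleton
  let g₀ : p.ResidueField →ₐ[R] q.asIdeal.ResidueField :=
    Ideal.ResidueField.mapₐ p q.asIdeal (Algebra.ofId R A) rfl
  let g : p.ResidueField ⊗[R] Ω[A⁄R] →ₗ[R] q.asIdeal.ResidueField ⊗[A] Ω[A⁄R] :=
    (TensorProduct.mapOfCompatibleSMul A R R q.asIdeal.ResidueField Ω[A⁄R]) ∘ₗ
      TensorProduct.map g₀.toLinearMap LinearMap.id
  have key : ∀ (x : q.asIdeal.ResidueField) (m : Ω[A⁄R]), x ⊗ₜ[A] m = 0 := by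
    intro x m
    have h1 : (1 : q.asIdeal.ResidueField) ⊗ₜ[A] m = g (1 ⊗ₜ m) := by
      simp [g]
    have h2 : (1 : p.ResidueField) ⊗ₜ[R] m = 0 := Subsingleton.elim _ _
    rw [h2, map_zero] at h1
    have h3 : x ⊗ₜ[A] m = x • ((1 : q.asIdeal.ResidueField) ⊗ₜ[A] m) := by
      rw [TensorProduct.smul_tmul', smul_eq_mul, mul_one]
    rw [h3, h1, smul_zero]
  have hsub : Subsingleton (q.asIdeal.ResidueField ⊗[A] Ω[A⁄R]) := by
    refine subsingleton_of_forall_eq 0 fun z => ?_
    induction z using TensorProduct.induction_on with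
    | zero => rfl
    | tmul x m => exact key x m
    | add a b ha hb => rw [ha, hb, add_zero]
  exact not_subsingleton _ hsub

theorem exists_away_fu {R A : Type u} [CommRing R] [CommRing A] [Algebra R A]
    [Algebra.FiniteType R A] (q : PrimeSpectrum A) (p : PrimeSpectrum R)
    (hpq : PrimeSpectrum.comap (algebraMap R A) q = p)
    (H : Algebra.FormallyUnramified p.asIdeal.ResidueField (p.asIdeal.Fiber A)) :
    ∃ b ∉ q.asIdeal, Algebra.FormallyUnramified R (Localization.Away b) := by
  subst hpq
  have hq := notMem_support_of_fiber q H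
  have hu : q ∈ Algebra.unramifiedLocus R A := by
    rw [Algebra.unramifiedLocus_eq_compl_support]; exact hq
  haveI : Algebra.IsUnramifiedAt R q.asIdeal := hu
  exact Algebra.exists_formallyUnramified_of_isUnramifiedAt (R := R) q.asIdeal

set_option backward.isDefEq.respectTransparency.types false in
/-- The fibre hypothesis passes to the restriction to an open subscheme of the source. -/
theorem fu_fiber_comp {X' X S : Scheme.{u}} (j : X' ⟶ X) [IsOpenImmersion j] (f : X ⟶ S) (s : S)
    (H : FormallyUnramified (f.fiberToSpecResidueField s)) :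
    FormallyUnramified ((j ≫ f).fiberToSpecResidueField s) := by
  have h1 : (j ≫ f).fiberToSpecResidueField s =
      pullback.map (j ≫ f) (S.fromSpecResidueField s) f (S.fromSpecResidueField s) j (𝟙 _) (𝟙 _)
        (by simp) (by simp) ≫ f.fiberToSpecResidueField s := by
    unfold Scheme.Hom.fiberToSpecResidueField
    exact ((pullback.lift_snd _ _ _).trans (Category.comp_id _)).symm
  rw [h1]
  have hm : IsOpenImmersion (pullback.map (j ≫ f) (S.fromSpecResidueField s) f
      (S.fromSpecResidueField s) j (𝟙 _) (𝟙 _) (by simp) (by simp)) :=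
    Scheme.pullback_map_isOpenImmersion _ _ _ _ _ _ _ _ _
  exact MorphismProperty.comp_mem @FormallyUnramified _ _
    (@formallyUnramified_of_isOpenImmersion _ _ _ hm) H

set_option backward.isDefEq.respectTransparency.types false in
theorem fu_image {X' X S : Scheme.{u}} (j : X' ⟶ X) [IsOpenImmersion j] (f : X ⟶ S)
    (U' : X'.Opens) (h : FormallyUnramified (U'.ι ≫ j ≫ f)) :
    FormallyUnramified ((j ''ᵁ U').ι ≫ f) := by
  rw [← Scheme.Hom.isoImage_inv_ι_assoc j U' f]
  exact (MorphismProperty.cancel_left_of_respectsIso @FormallyUnramified _ _).mpr h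

set_option backward.isDefEq.respectTransparency.types false in
/-- Pointwise fibre criterion: if `f` is locally of finite type and the fibre over `s = f x` is
formally unramified, then `f` is formally unramified on an open neighbourhood of `x`. -/
theorem exists_nhd_fu {X S : Scheme.{u}} (f : X ⟶ S) [LocallyOfFiniteType f] (x : X) (s : S)
    (hxs : f x = s) (H : FormallyUnramified (f.fiberToSpecResidueField s)) :
    ∃ U : X.Opens, x ∈ U ∧ FormallyUnramified (U.ι ≫ f) := by
  wlog hS : ∃ R, S = Spec R generalizing X S with Hw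
  · obtain ⟨i, y, hy⟩ := S.affineCover.exists_eq s
    subst hy
    obtain ⟨x', hx'1, hx'2⟩ := Scheme.Pullback.exists_preimage_pullback
      (f := f) (g := S.affineCover.f i) x y hxs
    have hsq := isPullback_fiberToSpecResidueField_of_isPullback
      (IsPullback.of_hasPullback f (S.affineCover.f i)) y
    have H' : FormallyUnramified
        ((pullback.snd f (S.affineCover.f i)).fiberToSpecResidueField y) :=
      MorphismProperty.of_isPullback (P := @FormallyUnramified) hsq H
    obtain ⟨U', hxU', hU'⟩ := Hw (pullback.snd f (S.affineCover.f i)) x' y hx'2 H' ⟨_, rfl⟩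
    refine ⟨(pullback.fst f (S.affineCover.f i)) ''ᵁ U', ⟨x', hxU', hx'1⟩, ?_⟩
    apply fu_image
    rw [pullback.condition, ← Category.assoc]
    exact MorphismProperty.comp_mem @FormallyUnramified _ _ hU'
      (formallyUnramified_of_isOpenImmersion _)
  obtain ⟨R, rfl⟩ := hS
  wlog hX : ∃ A, X = Spec A generalizing X with Hw
  · obtain ⟨i, x', hx'⟩ := X.affineCover.exists_eq x
    have H' := fu_fiber_comp (X.affineCover.f i) f s H
    obtain ⟨U', hxU', hU'⟩ := Hw x' (X.affineCover.f i ≫ f)
      (by rw [Scheme.Hom.comp_apply, hx', hxs]) H' ⟨_, rfl⟩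
    exact ⟨(X.affineCover.f i) ''ᵁ U', ⟨x', hxU', hx'⟩, fu_image _ _ _ hU'⟩
  obtain ⟨A, rfl⟩ := hX
  obtain ⟨φ, rfl⟩ := Spec.map_surjective f
  have hft : φ.hom.FiniteType := (HasRingHomProperty.Spec_iff (P := @LocallyOfFiniteType)).mp ‹_›
  algebraize [φ.hom]
  have h1 := (MorphismProperty.arrow_mk_iso_iff @FormallyUnramified
    (Spec.fiberToSpecResidueFieldIso R A s)).mp H
  rw [HasRingHomProperty.Spec_iff (P := @FormallyUnramified)] at h1
  have h2 := RingHom.formallyUnramified_algebraMap.mp h1
  obtain ⟨b, hb, hfu⟩ := exists_away_fu (R := R) (A := A) x s hxs h2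
  have hoi : IsOpenImmersion (Spec.map (CommRingCat.ofHom (algebraMap A (Localization.Away b)))) :=
    inferInstance
  refine ⟨(Spec.map (CommRingCat.ofHom (algebraMap A (Localization.Away b)))).opensRange, ?_, ?_⟩
  · have hr := PrimeSpectrum.localization_away_comap_range (Localization.Away b) b
    have hxb : x ∈ (PrimeSpectrum.basicOpen b : Set (PrimeSpectrum A)) := hb
    rw [← hr] at hxb
    obtain ⟨z, hz⟩ := hxb
    exact ⟨z, hz⟩
  · rw [← Scheme.Hom.isoOpensRange_inv_comp_assoc,
      MorphismProperty.cancel_left_of_respectsIso @FormallyUnramified, ← Spec.map_comp,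
      HasRingHomProperty.Spec_iff (P := @FormallyUnramified)]
    have hcomp : (φ ≫ CommRingCat.ofHom (algebraMap A (Localization.Away b))).hom =
        algebraMap R (Localization.Away b) := by
      ext r
      exact (IsScalarTower.algebraMap_apply R A (Localization.Away b) r).symm
    rw [hcomp]
    exact RingHom.formallyUnramified_algebraMap.mpr hfu

end Groth.Agent.H78.UnramPoint
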